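import Cfsg.Agent.U34Sylow.Sections

/-!
# U₃(4)-type Sylow 2-subgroups: the normal form `l s fⁱ` in `C(z)`

Squares on `S`, the transitivity of `f` on the square roots of `z` modulo `Z`, the centraliser of a root.
-/

set_option autoImplicit false
set_option linter.style.haveILetI false
set_option linter.unusedSectionVars false

namespace CfsgLib.U34Sylow

open Finset Cfsg

universe u

variable {G : Type u} [Group G] [Fintype G]

namespace Base

variable (B : Base G)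

theorem eq_one_of_mem {x : G} (hL : x ∈ coreCent B.z) (hS : x ∈ (B.S : Subgroup G)) : x = 1 := by
  refine orderOf_eq_one_iff.1 (Nat.eq_one_of_dvd_coprimes ?_ ((coreCent B.z).orderOf_dvd_natCard hL)
    ((B.S : Subgroup G).orderOf_dvd_natCard hS))
  rw [B.card_S, show (64 : ℕ) = 2 ^ 6 from rfl]
  exact Nat.Coprime.pow_right 6 (Nat.coprime_two_right.2 B.odd_coreCent)

theorem commute_of_normalizer {l x : G} (hl : l ∈ coreCent B.z)
    (hn : l ∈ Subgroup.normalizer ((B.S : Subgroup G) : Set G)) (hx : x ∈ (B.S : Subgroup G)) :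
    Commute l x := by
  refine mul_inv_eq_iff_eq_mul.1 (mul_inv_eq_one.1 (B.eq_one_of_mem (x := l * x * l⁻¹ * x⁻¹) ?_ ?_))
  · rw [show l * x * l⁻¹ * x⁻¹ = l * (x * l⁻¹ * x⁻¹) by group]
    exact mul_mem hl (B.conj_mem_coreCent (B.S_le_C hx) (inv_mem hl))
  · exact mul_mem ((Subgroup.mem_normalizer_iff.1 hn x).1 hx) (inv_mem hx)

theorem mem_Z_iff (x : G) : x ∈ B.Z ↔ x = 1 ∨ x = B.z ∨ x = B.w ∨ x = B.z * B.w := by
  classical
  have hzw : B.z * B.w ≠ 1 := fun h => B.zw_ne <| by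
    rw [← mul_left_cancel (h.trans B.z_sq.symm)]
  have hsub : ({1, B.z, B.w, B.z * B.w} : Finset G) ⊆ univ.filter (· ∈ B.Z) := fun v hv => by
    simp only [mem_insert, mem_singleton] at hv
    rcases hv with rfl | rfl | rfl | rfl <;>
      simp [one_mem, B.z_mem, B.w_mem, mul_mem B.z_mem B.w_mem]
  have hcard : ({1, B.z, B.w, B.z * B.w} : Finset G).card = 4 := by
    rw [card_insert_of_notMem, card_insert_of_notMem, card_pair]
    · exact fun h => B.z_ne (mul_eq_right.1 h.symm)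
    · simp [B.zw_ne, B.w_ne]
    · simp [B.z_ne.symm, B.w_ne.symm, hzw.symm]
  have h4 : (univ.filter (· ∈ B.Z)).card = 4 := by
    rw [← Fintype.card_subtype, ← Nat.card_eq_fintype_card]; exact B.card_Z
  have := Finset.ext_iff.1 (eq_of_subset_of_card_le hsub (by omega)) x
  simpa using this.symm

theorem Z_inv {y : G} (hy : y ∈ B.Z) : y⁻¹ = y :=
  inv_eq_of_mul_eq_one_right ((B.invol y (B.Z_le hy)).2 hy)

theorem ρ_zw : B.ρ * (B.z * B.w) * B.ρ⁻¹ = B.z := by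
  rw [show B.ρ * (B.z * B.w) * B.ρ⁻¹ = B.ρ * B.z * B.ρ⁻¹ * (B.ρ * B.w * B.ρ⁻¹) by group, B.ρ_z, B.ρ_w,
    (B.central _ (B.Z_le B.z_mem) _ B.w_mem).eq, ← mul_assoc,
    (B.invol _ (B.Z_le B.w_mem)).2 B.w_mem, one_mul]

open scoped Classical in
/-- The square roots in `S`. -/
noncomputable def roots (y : G) : Finset G := univ.filter fun x => x ∈ (B.S : Subgroup G) ∧ x * x = y

theorem mem_roots {y x : G} : x ∈ B.roots y ↔ x ∈ (B.S : Subgroup G) ∧ x * x = y := by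
  classical simp [roots]

theorem card_roots_conj (y : G) : (B.roots (B.ρ * y * B.ρ⁻¹)).card = (B.roots y).card := by
  refine (card_bij (fun x _ => B.ρ * x * B.ρ⁻¹) (fun x hx => ?_)
    (fun _ _ _ _ e => mul_left_cancel (mul_right_cancel e)) fun x hx => ?_).symm
  · rw [mem_roots] at hx ⊢
    refine ⟨(Subgroup.mem_normalizer_iff.1 B.ρ_mem x).1 hx.1, ?_⟩
    rw [← hx.2]; group
  · rw [mem_roots] at hx
    refine ⟨B.ρ⁻¹ * x * B.ρ, ?_, by group⟩
    rw [mem_roots]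
    constructor
    · refine (Subgroup.mem_normalizer_iff.1 B.ρ_mem _).2 ?_
      rw [show B.ρ * (B.ρ⁻¹ * x * B.ρ) * B.ρ⁻¹ = x by group]; exact hx.1
    · rw [show B.ρ⁻¹ * x * B.ρ * (B.ρ⁻¹ * x * B.ρ) = B.ρ⁻¹ * (x * x) * B.ρ by group, hx.2]; group

/-- Twenty square roots of each involution. -/
theorem card_roots : (B.roots B.z).card = 20 := by
  classical
  have h1 := B.card_roots_conj B.z
  have h2 := B.card_roots_conj (B.z * B.w)
  rw [B.ρ_z] at h1
  rw [B.ρ_zw] at h2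
  have hU : univ.filter (fun x => x ∈ (B.S : Subgroup G) ∧ x ∉ B.Z) =
      B.roots B.z ∪ (B.roots B.w ∪ B.roots (B.z * B.w)) := by
    ext x
    simp only [mem_filter, mem_univ, true_and, mem_union, mem_roots]
    constructor
    · rintro ⟨hx, hxZ⟩
      rcases (B.mem_Z_iff _).1 (B.sq_mem x hx) with h | h | h | h
      · exact absurd ((B.invol x hx).1 h) hxZ
      all_goals simp [hx, h]
    · have key : ∀ y, y ≠ 1 → x ∈ (B.S : Subgroup G) ∧ x * x = y → x ∈ (B.S : Subgroup G) ∧ x ∉ B.Z :=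
        fun y hy h => ⟨h.1, fun hxZ => hy (h.2 ▸ (B.invol x h.1).2 hxZ)⟩
      have hzw : B.z * B.w ≠ 1 := fun h => B.zw_ne <| by
        rw [← mul_left_cancel (h.trans B.z_sq.symm)]
      rintro (h | h | h)
      exacts [key _ B.z_ne h, key _ B.w_ne h, key _ hzw h]
  have hd : ∀ y y', y ≠ y' → Disjoint (B.roots y) (B.roots y') := fun y y' hne =>
    Finset.disjoint_left.2 fun x hx hx' => hne ((B.mem_roots.1 hx).2.symm.trans (B.mem_roots.1 hx').2)
  have h60 : (univ.filter fun x => x ∈ (B.S : Subgroup G) ∧ x ∉ B.Z).card = 60 := by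
    have h := card_sdiff_of_subset (s := univ.filter (· ∈ B.Z)) (t := univ.filter (· ∈ (B.S : Subgroup G)))
      fun x hx => mem_filter.2 ⟨mem_univ _, B.Z_le (mem_filter.1 hx).2⟩
    rw [← Fintype.card_subtype, ← Fintype.card_subtype, ← Nat.card_eq_fintype_card,
      ← Nat.card_eq_fintype_card, show Nat.card {x // x ∈ (B.S : Subgroup G)} = 64 from B.card_S,
      show Nat.card {x // x ∈ B.Z} = 4 from B.card_Z] at h
    rw [show (univ.filter fun x => x ∈ (B.S : Subgroup G) ∧ x ∉ B.Z) =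
      univ.filter (· ∈ (B.S : Subgroup G)) \ univ.filter (· ∈ B.Z) by ext; simp]
    exact h
  rw [hU, card_union_of_disjoint, card_union_of_disjoint (hd _ _ _)] at h60
  · omega
  · exact fun h => B.z_ne (mul_eq_right.1 h.symm)
  · exact disjoint_union_right.2 ⟨hd _ _ B.zw_ne, hd _ _ fun h => B.w_ne (mul_eq_left.1 h.symm)⟩

theorem exists_root : ∃ x, x ∈ (B.S : Subgroup G) ∧ x * x = B.z := by
  obtain ⟨x, hx⟩ := card_pos.1 (B.card_roots.symm ▸ (by norm_num : (0 : ℕ) < 20))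
  exact ⟨x, B.mem_roots.1 hx⟩

theorem root_not_mem_Z {x : G} (hx : x ∈ (B.S : Subgroup G)) (hxx : x * x = B.z) : x ∉ B.Z := fun h =>
  B.z_ne (hxx ▸ (B.invol x hx).2 h)

theorem orderOf_root {x : G} (hxx : x * x = B.z) : orderOf x = 2 ^ 2 := by
  haveI : Fact (Nat.Prime 2) := ⟨Nat.prime_two⟩
  refine orderOf_eq_prime_pow (fun h => B.z_ne ?_) ?_
  · rw [← hxx, ← pow_two]; simpa using h
  · rw [pow_two, pow_mul, pow_two x, hxx, pow_two, B.z_sq]

theorem card_centralizer_S {x : G} (hx : x ∈ (B.S : Subgroup G)) (hxZ : x ∉ B.Z)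
    [DecidablePred fun v => v ∈ (B.S : Subgroup G) ∧ Commute v x] :
    (univ.filter fun v => v ∈ (B.S : Subgroup G) ∧ Commute v x).card = 16 := by
  classical
  set SF := univ.filter (· ∈ (B.S : Subgroup G))
  have h := card_eq_sum_card_fiberwise (s := SF) (t := univ.filter (· ∈ B.Z))
    (f := fun v => v * x * v⁻¹ * x⁻¹) (fun v hv => mem_filter.2 ⟨mem_univ _, B.comm_mem (mem_filter.1 hv).2 hx⟩)
  have hfib : ∀ y ∈ univ.filter (· ∈ B.Z), (SF.filter fun v => v * x * v⁻¹ * x⁻¹ = y).card =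
      (univ.filter fun v => v ∈ (B.S : Subgroup G) ∧ Commute v x).card := by
    intro y hy
    obtain ⟨v0, hv0, e0⟩ := B.full x hx hxZ y (mem_filter.1 hy).2
    refine card_bij (fun v _ => v0⁻¹ * v) (fun v hv => ?_) (fun _ _ _ _ e => mul_left_cancel e) fun v hv => ?_
    · simp only [SF, mem_filter, mem_univ, true_and] at hv ⊢
      refine ⟨mul_mem (inv_mem hv0) hv.1, mul_inv_eq_iff_eq_mul.1 ?_⟩
      have e : v * x * v⁻¹ = v0 * x * v0⁻¹ := mul_right_cancel (hv.2.trans e0.symm)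
      calc v0⁻¹ * v * x * (v0⁻¹ * v)⁻¹ = v0⁻¹ * (v * x * v⁻¹) * v0 := by group
        _ = x := by rw [e]; group
    · simp only [SF, mem_filter, mem_univ, true_and] at hv ⊢
      refine ⟨v0 * v, ⟨mul_mem hv0 hv.1, ?_⟩, inv_mul_cancel_left _ _⟩
      rw [← e0, show v0 * v * x * (v0 * v)⁻¹ = v0 * (v * x * v⁻¹) * v0⁻¹ by group, hv.2.eq,
        mul_inv_cancel_right]
  rw [sum_congr rfl hfib, sum_const, smul_eq_mul] at h
  have hS : SF.card = 64 := by
    rw [← Fintype.card_subtype, ← Nat.card_eq_fintype_card]; exact B.card_S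
  have hZ : (univ.filter (· ∈ B.Z)).card = 4 := by
    rw [← Fintype.card_subtype, ← Nat.card_eq_fintype_card]; exact B.card_Z
  rw [hS, hZ] at h
  omega

theorem coreCent_eq : centralizerPPrimeCore 2 B.z = coreCent B.z := rfl

end Base

namespace Ctx

variable (K : Ctx G)

theorem f_mem_C : K.f ∈ K.C := Subgroup.mem_centralizer_singleton_iff.2 K.f_z.eq

theorem zpow_mem_coreCent {k : ℤ} (hk : (5 : ℤ) ∣ k) : K.f ^ k ∈ coreCent K.z := by
  obtain ⟨q, rfl⟩ := hk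
  rw [zpow_mul, show (5 : ℤ) = ((5 : ℕ) : ℤ) from rfl, zpow_natCast]
  exact zpow_mem K.f_five q

theorem zpow_commute {k : ℤ} (hk : (5 : ℤ) ∣ k) {x : G} (hx : x ∈ (K.S : Subgroup G)) :
    Commute (K.f ^ k) x := by
  obtain ⟨q, rfl⟩ := hk
  rw [zpow_mul, show (5 : ℤ) = ((5 : ℕ) : ℤ) from rfl, zpow_natCast]
  exact (K.f_five_S x hx).zpow_left q

theorem conj_S (k : ℤ) {x : G} (hx : x ∈ (K.S : Subgroup G)) :
    K.f ^ k * x * (K.f ^ k)⁻¹ ∈ (K.S : Subgroup G) :=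
  (Subgroup.mem_normalizer_iff.1 (zpow_mem K.f_mem k) x).1 hx

theorem zpow_commute_Z (k : ℤ) {y : G} (hy : y ∈ K.Z) : Commute (K.f ^ k) y := by
  refine Commute.zpow_left ?_ k
  rcases (K.mem_Z_iff y).1 hy with rfl | rfl | rfl | rfl
  exacts [Commute.one_right _, K.f_z, K.f_w, K.f_z.mul_right K.f_w]

/-- Powers of `f` outside `⟨f⁵⟩` act without fixed points on `S / Z`. -/
theorem fpf_zpow {k : ℤ} (hk : ¬ (5 : ℤ) ∣ k) {x : G} (hx : x ∈ (K.S : Subgroup G))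
    (h : K.f ^ k * x * (K.f ^ k)⁻¹ * x⁻¹ ∈ K.Z) : x ∈ K.Z := by
  have hiter : ∀ m : ℕ, K.f ^ (k * m) * x * (K.f ^ (k * m))⁻¹ * x⁻¹ ∈ K.Z := by
    intro m
    induction m with
    | zero => simp [one_mem]
    | succ m ih =>
      have e : K.f ^ (k * (m + 1 : ℕ)) = K.f ^ k * K.f ^ (k * m) := by
        rw [← zpow_add]; congr 1; push_cast; ring
      rw [e, show K.f ^ k * K.f ^ (k * m) * x * (K.f ^ k * K.f ^ (k * m))⁻¹ * x⁻¹ =
        K.f ^ k * (K.f ^ (k * m) * x * (K.f ^ (k * m))⁻¹ * x⁻¹) * (K.f ^ k)⁻¹ *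
          (K.f ^ k * x * (K.f ^ k)⁻¹ * x⁻¹) by group, (K.zpow_commute_Z k ih).eq, mul_inv_cancel_right]
      exact mul_mem ih h
  obtain ⟨m, q, hm⟩ : ∃ (m : ℕ) (q : ℤ), k * m = 5 * q + 1 := by
    have h5 : k % 5 = 1 ∨ k % 5 = 2 ∨ k % 5 = 3 ∨ k % 5 = 4 := by omega
    rcases h5 with h5 | h5 | h5 | h5
    · exact ⟨1, k / 5, by push_cast; omega⟩
    · exact ⟨3, 3 * (k / 5) + 1, by push_cast; omega⟩
    · exact ⟨2, 2 * (k / 5) + 1, by push_cast; omega⟩
    · exact ⟨4, 4 * (k / 5) + 3, by push_cast; omega⟩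
  have h1 := hiter m
  rw [hm, add_comm, zpow_add, zpow_one,
    show K.f * K.f ^ (5 * q) * x * (K.f * K.f ^ (5 * q))⁻¹ * x⁻¹ =
      K.f * (K.f ^ (5 * q) * x * (K.f ^ (5 * q))⁻¹) * K.f⁻¹ * x⁻¹ by group,
    (K.zpow_commute (dvd_mul_right 5 q) hx).eq, mul_inv_cancel_right] at h1
  exact K.f_fpf x hx h1

/-- Uniqueness of the normal form. -/
theorem nf_unique {l l' s s' : G} {i j : ℤ} (hl : l ∈ coreCent K.z) (hl' : l' ∈ coreCent K.z)
    (hs : s ∈ (K.S : Subgroup G)) (hs' : s' ∈ (K.S : Subgroup G))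
    (h : l * s * K.f ^ i = l' * s' * K.f ^ j) : (5 : ℤ) ∣ i - j ∧ s = s' := by
  set l0 := s⁻¹ * (l⁻¹ * l') * s with hl0
  have hl0L : l0 ∈ coreCent K.z := by
    have := K.conj_mem_coreCent (inv_mem (K.S_le_C hs)) (mul_mem (inv_mem hl) hl')
    rwa [inv_inv] at this
  have e : K.f ^ (i - j) = l0 * (s⁻¹ * s') := by
    rw [zpow_sub, hl0]
    calc K.f ^ i * (K.f ^ j)⁻¹ = s⁻¹ * l⁻¹ * (l * s * K.f ^ i) * (K.f ^ j)⁻¹ := by group
      _ = _ := by rw [h]; group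
  have hs0 : s⁻¹ * s' ∈ (K.S : Subgroup G) := mul_mem (inv_mem hs) hs'
  have hn : l0 ∈ Subgroup.normalizer ((K.S : Subgroup G) : Set G) := by
    rw [show l0 = K.f ^ (i - j) * (s⁻¹ * s')⁻¹ by rw [e, mul_inv_cancel_right]]
    exact mul_mem (zpow_mem K.f_mem _) (inv_mem (Subgroup.le_normalizer hs0))
  by_cases hk : (5 : ℤ) ∣ i - j
  · refine ⟨hk, mul_left_cancel (a := s⁻¹) ?_⟩
    rw [inv_mul_cancel]
    refine (K.eq_one_of_mem ?_ hs0).symm
    rw [show s⁻¹ * s' = l0⁻¹ * K.f ^ (i - j) by rw [e, inv_mul_cancel_left]]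
    exact mul_mem (inv_mem hl0L) (K.zpow_mem_coreCent hk)
  exfalso
  obtain ⟨x, hx, hxx⟩ := K.exists_root
  refine K.root_not_mem_Z hx hxx (K.fpf_zpow hk hx ?_)
  rw [e, show l0 * (s⁻¹ * s') * x * (l0 * (s⁻¹ * s'))⁻¹ * x⁻¹ =
    l0 * ((s⁻¹ * s') * x * (s⁻¹ * s')⁻¹) * l0⁻¹ * x⁻¹ by group,
    (K.commute_of_normalizer hl0L hn (mul_mem (mul_mem hs0 hx) (inv_mem hs0))).eq, mul_inv_cancel_right]
  exact K.comm_mem hs0 hx

theorem nf_mul {l l' s s' : G} (i j : ℤ) (hl : l ∈ coreCent K.z) (hl' : l' ∈ coreCent K.z)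
    (hs : s ∈ (K.S : Subgroup G)) (hs' : s' ∈ (K.S : Subgroup G)) :
    ∃ l'' ∈ coreCent K.z, s * (K.f ^ i * s' * (K.f ^ i)⁻¹) ∈ (K.S : Subgroup G) ∧
      l * s * K.f ^ i * (l' * s' * K.f ^ j) =
        l'' * (s * (K.f ^ i * s' * (K.f ^ i)⁻¹)) * K.f ^ (i + j) := by
  refine ⟨l * (s * K.f ^ i * l' * (s * K.f ^ i)⁻¹), mul_mem hl
    (K.conj_mem_coreCent (mul_mem (K.S_le_C hs) (zpow_mem K.f_mem_C i)) hl'),
    mul_mem hs (K.conj_S i hs'), ?_⟩
  rw [zpow_add]; group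

/-- The subgroup of the products `l s fⁱ`. -/
def nf : Subgroup G where
  carrier := {g | ∃ l ∈ coreCent K.z, ∃ s ∈ (K.S : Subgroup G), ∃ i : ℤ, g = l * s * K.f ^ i}
  one_mem' := ⟨1, one_mem _, 1, one_mem _, 0, by simp⟩
  mul_mem' := by
    rintro _ _ ⟨l, hl, s, hs, i, rfl⟩ ⟨l', hl', s', hs', j, rfl⟩
    obtain ⟨l'', h1, h2, e⟩ := K.nf_mul i j hl hl' hs hs'
    exact ⟨l'', h1, _, h2, i + j, e⟩
  inv_mem' := by
    rintro _ ⟨l, hl, s, hs, i, rfl⟩
    refine ⟨(s * K.f ^ i)⁻¹ * l⁻¹ * ((s * K.f ^ i)⁻¹)⁻¹,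
      K.conj_mem_coreCent (inv_mem (mul_mem (K.S_le_C hs) (zpow_mem K.f_mem_C i))) (inv_mem hl),
      K.f ^ (-i) * s⁻¹ * (K.f ^ (-i))⁻¹, K.conj_S (-i) (inv_mem hs), -i, ?_⟩
    rw [zpow_neg]; group

theorem exists_nf {g : G} (hg : g ∈ K.C) :
    ∃ l ∈ coreCent K.z, ∃ s ∈ (K.S : Subgroup G), ∃ i : ℤ, g = l * s * K.f ^ i := by
  have h : K.C ≤ K.nf := by
    rw [show K.C = _ from K.cent_eq]
    refine sup_le (sup_le (fun l hl => ⟨l, hl, 1, one_mem _, 0, by simp⟩)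
      fun s hs => ⟨1, one_mem _, s, hs, 0, by simp⟩) ?_
    rintro _ ⟨i, rfl⟩
    exact ⟨1, one_mem _, 1, one_mem _, i, by simp⟩
  exact h hg

theorem nf_mem_C {l s : G} (i : ℤ) (hl : l ∈ coreCent K.z) (hs : s ∈ (K.S : Subgroup G)) :
    l * s * K.f ^ i ∈ K.C :=
  mul_mem (mul_mem (K.coreCent_le hl) (K.S_le_C hs)) (zpow_mem K.f_mem_C i)

open scoped Classical in
/-- Counting in `C(z)` by the normal form. -/
theorem count_C (P : G → Prop) :
    (univ.filter fun g => g ∈ K.C ∧ P g).card =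
      (((univ.filter (· ∈ coreCent K.z)) ×ˢ ((univ.filter (· ∈ (K.S : Subgroup G))) ×ˢ range 5)).filter
        fun q => P (q.1 * q.2.1 * K.f ^ (q.2.2 : ℤ))).card := by
  refine (card_bij (fun q _ => q.1 * q.2.1 * K.f ^ (q.2.2 : ℤ)) (fun q hq => ?_) (fun q hq r hr e => ?_)
    fun g hg => ?_).symm
  · simp only [mem_filter, mem_product, mem_univ, true_and, mem_range] at hq ⊢
    exact ⟨K.nf_mem_C _ hq.1.1 hq.1.2.1, hq.2⟩
  · simp only [mem_filter, mem_product, mem_univ, true_and, mem_range] at hq hr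
    obtain ⟨h5, hs⟩ := K.nf_unique hq.1.1 hr.1.1 hq.1.2.1 hr.1.2.1 e
    have hi : q.2.2 = r.2.2 := by omega
    rw [hs, hi] at e
    exact Prod.ext (mul_right_cancel (mul_right_cancel e)) (Prod.ext hs hi)
  · simp only [mem_filter, mem_univ, true_and] at hg
    obtain ⟨l, hl, s, hs, i, rfl⟩ := K.exists_nf hg.1
    have e : l * K.f ^ (5 * (i / 5)) * s * K.f ^ ((i % 5).toNat : ℤ) = l * s * K.f ^ i := by
      rw [mul_assoc l, (K.zpow_commute (dvd_mul_right 5 (i / 5)) hs).eq, ← mul_assoc l, mul_assoc (l * s),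
        ← zpow_add]
      congr 2
      omega
    refine ⟨(l * K.f ^ (5 * (i / 5)), s, (i % 5).toNat), ?_, e⟩
    simp only [mem_filter, mem_product, mem_univ, true_and, mem_range]
    exact ⟨⟨mul_mem hl (K.zpow_mem_coreCent (dvd_mul_right 5 _)), hs, by omega⟩, e.symm ▸ hg.2⟩

theorem exists_pow_mul {l g : G} (hl : l ∈ coreCent K.z) (hg : g ∈ K.C) (m : ℕ) :
    ∃ l' ∈ coreCent K.z, (l * g) ^ m = l' * g ^ m := by
  induction m with
  | zero => exact ⟨1, one_mem _, by simp⟩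
  | succ m ih =>
    obtain ⟨l', hl', e⟩ := ih
    refine ⟨l' * (g ^ m * l * (g ^ m)⁻¹), mul_mem hl' (K.conj_mem_coreCent (pow_mem hg m) hl), ?_⟩
    rw [pow_succ, e, pow_succ]; group

theorem odd_order_coset (k : ℤ) {l : G} (hl : l ∈ coreCent K.z) : Odd (orderOf (K.f ^ k * l)) := by
  have hl1 : K.f ^ k * l * (K.f ^ k)⁻¹ ∈ coreCent K.z :=
    K.conj_mem_coreCent (zpow_mem K.f_mem_C k) hl
  obtain ⟨l', hl', e⟩ := K.exists_pow_mul hl1 (zpow_mem K.f_mem_C k) 5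
  rw [inv_mul_cancel_right] at e
  have h5 : (K.f ^ k * l) ^ 5 ∈ coreCent K.z := by
    rw [e, ← zpow_natCast, ← zpow_mul]
    exact mul_mem hl' (K.zpow_mem_coreCent (dvd_mul_left _ _))
  have h : (K.f ^ k * l) ^ (5 * Nat.card (coreCent K.z)) = 1 := by
    rw [pow_mul]
    exact orderOf_dvd_iff_pow_eq_one.1 ((coreCent K.z).orderOf_dvd_natCard h5)
  exact ((show Odd 5 by decide).mul K.odd_coreCent).of_dvd_nat (orderOf_dvd_of_pow_eq_one h)

/-- An element of `C(z)` centralising a root lies in `(C(x) ∩ L) C_S(x)`. -/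
theorem cent_root {x g : G} (hx : x ∈ (K.S : Subgroup G)) (hxx : x * x = K.z) (hg : Commute g x) :
    ∃ l ∈ coreCent K.z, ∃ s ∈ (K.S : Subgroup G), g = l * s ∧ Commute l x ∧ Commute s x := by
  have hgC : g ∈ K.C := Subgroup.mem_centralizer_singleton_iff.2 (by rw [← hxx]; exact (hg.mul_right hg).eq)
  obtain ⟨l, hl, s, hs, i, rfl⟩ := K.exists_nf hgC
  have hxl : x * l * x⁻¹ ∈ coreCent K.z := K.conj_mem_coreCent (K.S_le_C hx) hl
  have e : l * (s * (K.f ^ i * x * (K.f ^ i)⁻¹)) * K.f ^ i = x * l * x⁻¹ * (x * s) * K.f ^ i := by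
    have h := hg.eq
    calc l * (s * (K.f ^ i * x * (K.f ^ i)⁻¹)) * K.f ^ i = l * s * K.f ^ i * x := by group
      _ = x * (l * s * K.f ^ i) := h
      _ = _ := by group
  obtain ⟨-, es⟩ := K.nf_unique hl hxl (mul_mem hs (K.conj_S i hx)) (mul_mem hx hs) e
  have hi : (5 : ℤ) ∣ i := by
    by_contra hi
    refine K.root_not_mem_Z hx hxx (K.fpf_zpow hi hx ?_)
    rw [show K.f ^ i * x * (K.f ^ i)⁻¹ = s⁻¹ * x * s by rw [mul_assoc s⁻¹, ← es, inv_mul_cancel_left]]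
    simpa using K.comm_mem (inv_mem hs) hx
  rw [(K.zpow_commute hi hx).eq, mul_inv_cancel_right] at es
  rw [(K.zpow_commute hi hx).eq, mul_inv_cancel_right, es] at e
  have el : Commute l x := ((mul_inv_eq_iff_eq_mul.1 (mul_right_cancel (mul_right_cancel e)).symm)).symm
  refine ⟨l * K.f ^ i, mul_mem hl (K.zpow_mem_coreCent hi), s, hs, ?_, el.mul_left (K.zpow_commute hi hx), es⟩
  rw [mul_assoc l (K.f ^ i) s, (K.zpow_commute hi hs).eq, mul_assoc]

theorem orderOf_S {s : G} (hs : s ∈ (K.S : Subgroup G)) {m : ℕ} (hm : Odd m) (h : s ^ m = 1) : s = 1 := by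
  refine orderOf_eq_one_iff.1 (Nat.eq_one_of_dvd_coprimes ?_ (orderOf_dvd_of_pow_eq_one h)
    ((K.S : Subgroup G).orderOf_dvd_natCard hs))
  rw [K.card_S, show (64 : ℕ) = 2 ^ 6 from rfl]
  exact Nat.Coprime.pow_right 6 (Nat.coprime_two_right.2 hm)

/-- The odd core of the centraliser of a root. -/
theorem core_root {x : G} (hx : x ∈ (K.S : Subgroup G)) (hxx : x * x = K.z) :
    centralizerPPrimeCore 2 x = coreCent K.z ⊓ Subgroup.centralizer ({x} : Set G) := by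
  set H := Subgroup.centralizer ({x} : Set G)
  refine le_antisymm ?_ ?_
  · rintro _ ⟨g, hg, rfl⟩
    refine Subgroup.mem_inf.2 ⟨?_, g.2⟩
    obtain ⟨l, hl, s, hs, e, -⟩ := K.cent_root hx hxx (Subgroup.mem_centralizer_singleton_iff.1 g.2)
    have ho : Odd (orderOf g) :=
      (Nat.coprime_two_right.1 (CfsgLib.Solvable.coprime_card_pPrimeCore (G := H) 2)).of_dvd_nat
        ((pPrimeCore 2 H).orderOf_dvd_natCard hg)
    obtain ⟨l', hl', e'⟩ := K.exists_pow_mul hl (K.S_le_C hs) (orderOf g)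
    have h1 : (g : G) ^ orderOf g = 1 := by
      rw [← Subgroup.orderOf_coe]; exact pow_orderOf_eq_one _
    rw [e] at h1
    rw [e', mul_eq_one_iff_inv_eq] at h1
    have h2 : s ^ orderOf g = 1 := K.eq_one_of_mem (h1 ▸ inv_mem hl') (pow_mem hs _)
    show (g : G) ∈ coreCent K.z
    rw [e, K.orderOf_S hs ho h2, mul_one]
    exact hl
  · intro g hg
    obtain ⟨hgL, hgH⟩ := Subgroup.mem_inf.1 hg
    set N := (coreCent K.z).subgroupOf H
    have hle : H ≤ K.C := fun c hc => Subgroup.mem_centralizer_singleton_iff.2 (by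
      rw [← hxx]
      exact (Commute.mul_right (Subgroup.mem_centralizer_singleton_iff.1 hc)
        (Subgroup.mem_centralizer_singleton_iff.1 hc)).eq)
    have hn : N.Normal := ⟨fun n hn c => K.conj_mem_coreCent (hle c.2) hn⟩
    have hodd : (Nat.card N).Coprime 2 :=
      Nat.coprime_two_right.2 (K.odd_coreCent.of_dvd_nat
        (Subgroup.card_dvd_of_injective ((H.subtype.comp N.subtype).codRestrict (coreCent K.z) fun n => n.2)
          fun a b e => Subtype.ext (Subtype.ext (congrArg Subtype.val e :))))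
    exact ⟨⟨g, hgH⟩, le_sSup (show N ∈ {N : Subgroup H | N.Normal ∧ (Nat.card N).Coprime 2} from ⟨hn, hodd⟩) hgL, rfl⟩

open scoped Classical in
/-- The order of the centraliser of a root. -/
theorem card_cent_root {x : G} (hx : x ∈ (K.S : Subgroup G)) (hxx : x * x = K.z) :
    (univ.filter fun g => Commute g x).card =
      16 * Nat.card (coreCent K.z ⊓ Subgroup.centralizer ({x} : Set G) : Subgroup G) := by
  rw [Nat.card_eq_fintype_card, Fintype.card_subtype, ← K.card_centralizer_S hx (K.root_not_mem_Z hx hxx),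
    ← card_product]
  refine (card_bij (fun q _ => q.2 * q.1) (fun q hq => ?_) (fun q hq r hr e => ?_) fun g hg => ?_).symm
  · simp only [mem_filter, mem_product, mem_univ, true_and, Subgroup.mem_inf,
      Subgroup.mem_centralizer_singleton_iff] at hq ⊢
    exact Commute.mul_left hq.2.2 hq.1.2
  · simp only [mem_filter, mem_product, mem_univ, true_and, Subgroup.mem_inf] at hq hr
    obtain ⟨-, es⟩ := K.nf_unique (i := 0) (j := 0) hq.2.1 hr.2.1 hq.1.1 hr.1.1 (by simpa using e)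
    rw [es] at e
    exact Prod.ext es (mul_right_cancel e)
  · simp only [mem_filter, mem_univ, true_and] at hg
    obtain ⟨l, hl, s, hs, rfl, hlx, hsx⟩ := K.cent_root hx hxx hg
    refine ⟨(s, l), ?_, rfl⟩
    simp only [mem_filter, mem_product, mem_univ, true_and, Subgroup.mem_inf,
      Subgroup.mem_centralizer_singleton_iff]
    exact ⟨⟨hs, hsx⟩, hl, hlx.eq⟩

/-- `f` permutes the roots of `z` transitively modulo `Z`. -/
theorem exists_root_conj {x v : G} (hx : x ∈ (K.S : Subgroup G)) (hxx : x * x = K.z)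
    (hv : v ∈ (K.S : Subgroup G)) (hvv : v * v = K.z) :
    ∃ i : ℤ, ∃ s ∈ (K.S : Subgroup G), v = s * (K.f ^ i * x * (K.f ^ i)⁻¹) * s⁻¹ := by
  classical
  set φ : ℕ × G → G := fun q => K.f ^ (q.1 : ℤ) * x * (K.f ^ (q.1 : ℤ))⁻¹ * q.2
  have hsub : ((range 5) ×ˢ univ.filter (· ∈ K.Z)).image φ ⊆ K.roots K.z := by
    intro y hy
    obtain ⟨q, hq, rfl⟩ := mem_image.1 hy
    simp only [mem_product, mem_filter, mem_univ, true_and] at hq
    set a := K.f ^ (q.1 : ℤ) * x * (K.f ^ (q.1 : ℤ))⁻¹ with ha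
    have haS : a ∈ (K.S : Subgroup G) := K.conj_S _ hx
    refine K.mem_roots.2 ⟨mul_mem haS (K.Z_le hq.2), ?_⟩
    show a * q.2 * (a * q.2) = K.z
    rw [(K.central a haS q.2 hq.2).symm.mul_mul_mul_comm, (K.invol _ (K.Z_le hq.2)).2 hq.2, mul_one, ha,
      show K.f ^ (q.1 : ℤ) * x * (K.f ^ (q.1 : ℤ))⁻¹ * (K.f ^ (q.1 : ℤ) * x * (K.f ^ (q.1 : ℤ))⁻¹) =
        K.f ^ (q.1 : ℤ) * (x * x) * (K.f ^ (q.1 : ℤ))⁻¹ by group, hxx, (K.zpow_commute_Z _ K.z_mem).eq,
      mul_inv_cancel_right]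
  have hinj : Set.InjOn φ ↑((range 5) ×ˢ univ.filter (· ∈ K.Z)) := by
    intro q hq r hr e
    simp only [coe_product, Set.mem_prod, Finset.mem_coe, mem_range, mem_filter, mem_univ, true_and] at hq hr
    have hi : q.1 = r.1 := by
      by_contra hne
      have hk : ¬ (5 : ℤ) ∣ (q.1 : ℤ) - r.1 := by omega
      refine K.root_not_mem_Z hx hxx (K.fpf_zpow hk hx ?_)
      set b := K.f ^ (q.1 : ℤ) * x * (K.f ^ (q.1 : ℤ))⁻¹
      have e' : b = K.f ^ (r.1 : ℤ) * x * (K.f ^ (r.1 : ℤ))⁻¹ * (r.2 * q.2⁻¹) := by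
        rw [← mul_assoc]; exact eq_mul_inv_of_mul_eq e
      have hy : r.2 * q.2⁻¹ ∈ K.Z := mul_mem hr.2 (inv_mem hq.2)
      rw [show K.f ^ ((q.1 : ℤ) - r.1) * x * (K.f ^ ((q.1 : ℤ) - r.1))⁻¹ =
        (K.f ^ (r.1 : ℤ))⁻¹ * b * K.f ^ (r.1 : ℤ) by simp only [b]; group, e',
        show (K.f ^ (r.1 : ℤ))⁻¹ * (K.f ^ (r.1 : ℤ) * x * (K.f ^ (r.1 : ℤ))⁻¹ * (r.2 * q.2⁻¹)) *
          K.f ^ (r.1 : ℤ) = x * ((K.f ^ (r.1 : ℤ))⁻¹ * (r.2 * q.2⁻¹) * K.f ^ (r.1 : ℤ)) by group,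
        ((K.zpow_commute_Z (r.1 : ℤ) hy).inv_left).eq, inv_mul_cancel_right,
        (K.central x hx _ hy).eq, mul_inv_cancel_right]
      exact hy
    refine Prod.ext hi ?_
    simp only [φ, hi] at e
    exact mul_left_cancel e
  have heq := eq_of_subset_of_card_le hsub (by
    rw [K.card_roots, card_image_of_injOn hinj, card_product, card_range, ← Fintype.card_subtype,
      ← Nat.card_eq_fintype_card, show Nat.card {y // y ∈ K.Z} = 4 from K.card_Z])
  obtain ⟨q, hq, e⟩ := mem_image.1 (heq.symm ▸ K.mem_roots.2 ⟨hv, hvv⟩)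
  simp only [mem_product, mem_filter, mem_univ, true_and] at hq
  set a := K.f ^ (q.1 : ℤ) * x * (K.f ^ (q.1 : ℤ))⁻¹ with ha
  have haS : a ∈ (K.S : Subgroup G) := K.conj_S _ hx
  have haZ : a ∉ K.Z := fun h => K.root_not_mem_Z hx hxx (by
    rw [show x = (K.f ^ (q.1 : ℤ))⁻¹ * a * K.f ^ (q.1 : ℤ) by rw [ha]; group,
      ((K.zpow_commute_Z (q.1 : ℤ) h).inv_left).eq, inv_mul_cancel_right]
    exact h)
  obtain ⟨s, hs, es⟩ := K.full a haS haZ q.2 hq.2
  refine ⟨q.1, s, hs, ?_⟩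
  rw [← e, mul_inv_eq_iff_eq_mul.1 es]
  exact (K.central a haS q.2 hq.2).eq

end Ctx

end CfsgLib.U34Sylow
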