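import Cfsg.Agent.U34Sylow.LocalBound
import Cfsg.Agent.U34Sylow.NormalForm
import Cfsg.Agent.Blocks.LocalPrincipal
import Cfsg.Agent.Kinf.PairSimple

/-!
# U₃(4)-type Sylow 2-subgroups: the bounds for principal block characters

If the odd core of `C(z)` does not centralise `w`, every nontrivial character of the principal 2-block of a
simple group has both parts `χ(1) + 3χ(z)` and `χ(1) - χ(z)` at least 64: the local bound on `C(z)`.
-/

set_option autoImplicit false
set_option linter.style.haveILetI false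
set_option linter.unusedSectionVars false

universe u

namespace CfsgLib.U34Sylow

open Subgroup Cfsg CfsgLib.Block CfsgLib.Block.Chr CfsgLib.Char

variable {G : Type u} [Group G] [Fintype G]

namespace Base

variable (B : Base G)

theorem mem_closure_iff (x : B.C) :
    x ∈ closure ({⟨B.z, B.S_le_C (B.Z_le B.z_mem)⟩, ⟨B.w, B.S_le_C (B.Z_le B.w_mem)⟩} : Set B.C) ↔
      (x : G) ∈ B.Z := by
  refine ⟨fun hx => ?_, fun hx => ?_⟩
  · have h : closure ({⟨B.z, B.S_le_C (B.Z_le B.z_mem)⟩, ⟨B.w, B.S_le_C (B.Z_le B.w_mem)⟩} : Set B.C) ≤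
        B.Z.subgroupOf B.C := (closure_le _).2 fun y hy => by
      simp only [Set.mem_insert_iff, Set.mem_singleton_iff] at hy
      rcases hy with rfl | rfl
      exacts [mem_subgroupOf.2 B.z_mem, mem_subgroupOf.2 B.w_mem]
    exact h hx
  · obtain ⟨x, hxC⟩ := x
    rcases (B.mem_Z_iff x).1 hx with rfl | rfl | rfl | rfl
    · exact one_mem _
    · exact subset_closure (Or.inl rfl)
    · exact subset_closure (Or.inr rfl)
    · rw [show (⟨B.z * B.w, hxC⟩ : B.C) =
        ⟨B.z, B.S_le_C (B.Z_le B.z_mem)⟩ * ⟨B.w, B.S_le_C (B.Z_le B.w_mem)⟩ from rfl]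
      exact mul_mem (subset_closure (Or.inl rfl)) (subset_closure (Or.inr rfl))

end Base

namespace Ctx

variable (K : Ctx G)

/-- **The local bound on the principal block.** -/
theorem bounds [IsSimpleGroup G] (hne : ¬ coreCent K.z ≤ Subgroup.centralizer ({K.w} : Set G))
    {M : Ideal AlgInt} [M.IsPrime] (hM : IsPModular 2 M) {χ : IrrCharacter G}
    (hχ : χ ∈ principalBlock M G) (h1 : χ ≠ oneIrr G) :
    64 ≤ ((χ : G → ℂ) 1 + 3 * (χ : G → ℂ) K.z).re ∧ 64 ≤ ((χ : G → ℂ) 1 - (χ : G → ℂ) K.z).re := by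
  classical
  haveI : Fintype K.C := Fintype.ofFinite _
  haveI : (Cfsg.oddCore K.C).Normal := CfsgLib.Solvable.pPrimeCore_normal 2
  have hL : Odd (Nat.card (Cfsg.oddCore K.C)) := by
    have h := K.odd_coreCent
    unfold coreCent at h
    rwa [Subgroup.card_subtype] at h
  have hzC := K.S_le_C (K.Z_le K.z_mem)
  have hwC := K.S_le_C (K.Z_le K.w_mem)
  have hc : IsCharacter G (χ : G → ℂ) := IsIrrCharacter.isCharacter χ.2
  have hclass := IsCharacter.isClassFunction hc
  obtain ⟨l, hl, hlw⟩ : ∃ l ∈ coreCent K.z, l ∉ Subgroup.centralizer ({K.w} : Set G) :=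
    Set.not_subset.1 hne
  obtain ⟨l', hl', rfl⟩ := Subgroup.mem_map.1 hl
  have hb := local_bound (C := K.C) (Cfsg.oddCore K.C) hL ((K.S : Subgroup G).subgroupOf K.C)
    ⟨K.z, hzC⟩ ⟨K.w, hwC⟩ ⟨K.f, K.f_mem_C⟩
    (by rw [Nat.card_congr (subgroupOfEquivOfLe K.S_le_C).toEquiv, K.card_S])
    (mem_subgroupOf.2 (K.Z_le K.z_mem)) (mem_subgroupOf.2 (K.Z_le K.w_mem))
    (Subtype.ext K.toBase.z_sq) (Subtype.ext K.toBase.w_sq)
    (fun e => K.z_ne (congrArg Subtype.val e)) (fun e => K.w_ne (congrArg Subtype.val e))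
    (fun e => K.zw_ne (congrArg Subtype.val e))
    (fun x hx => by rw [K.toBase.mem_closure_iff, ← K.invol x (mem_subgroupOf.1 hx), ← Subgroup.coe_mul,
      OneMemClass.coe_eq_one])
    (fun x hx => (K.toBase.mem_closure_iff _).2 (K.sq_mem x (mem_subgroupOf.1 hx)))
    (fun x hx => ⟨Subtype.ext (K.central x (mem_subgroupOf.1 hx) K.z K.z_mem).eq,
      Subtype.ext (K.central x (mem_subgroupOf.1 hx) K.w K.w_mem).eq⟩)
    (fun x hx hxZ y hy => by
      obtain ⟨v, hv, e⟩ := K.full x (mem_subgroupOf.1 hx) (fun h => hxZ ((K.toBase.mem_closure_iff _).2 h))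
        y ((K.toBase.mem_closure_iff _).1 hy)
      exact ⟨⟨v, K.S_le_C hv⟩, mem_subgroupOf.2 hv, Subtype.ext e⟩)
    (fun c => Subtype.ext (Subgroup.mem_centralizer_singleton_iff.1 c.2))
    (mem_normalizer_iff.2 fun x => by
      simp only [mem_subgroupOf, Subgroup.coe_mul, InvMemClass.coe_inv]
      exact mem_normalizer_iff.1 K.f_mem x)
    (Subtype.ext K.f_w.eq)
    (fun x hx => Subtype.ext (by
      simp only [Subgroup.coe_mul, SubmonoidClass.coe_pow]
      exact (K.f_five_S x (mem_subgroupOf.1 hx)).eq))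
    (fun x hx h => (K.toBase.mem_closure_iff _).2
      (K.f_fpf x (mem_subgroupOf.1 hx) ((K.toBase.mem_closure_iff _).1 h)))
    (fun x : K.C => (χ : G → ℂ) x) (IsCharacter.restrict hc K.C)
    (fun u hu => principal_apply_mul_core hM (k := 1) (by rw [K.toBase.orderOf_z, pow_one])
      (Subgroup.mem_map.2 ⟨u, hu, rfl⟩) hχ)
    ⟨l', hl', fun e => hlw (Subgroup.mem_centralizer_singleton_iff.2 (by
      simp only [Subgroup.coe_mul, InvMemClass.coe_inv, Subgroup.coe_subtype, OneMemClass.coe_one] at e ⊢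
      by_contra hcomm
      refine h1 (CfsgLib.PairSimple.eq_oneIrr_of_apply χ (fun h => hcomm ?_) e)
      exact (mul_inv_eq_iff_eq_mul.1 (mul_inv_eq_one.1 h)).symm))⟩
  simp only [OneMemClass.coe_one, Subgroup.coe_mul, K.toBase.apply_w hc, K.toBase.apply_zw hc] at hb
  refine ⟨le_of_le_of_eq hb.1 ?_, le_of_le_of_eq hb.2 ?_⟩ <;> congr 1 <;> ring

end Ctx

end CfsgLib.U34Sylow
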