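import Cfsg.Agent.U34Sylow.Cover

/-!
# U₃(4)-type Sylow 2-subgroups: soundness of the certificate

`RowData` lists what the principal block gives; `RowData.false` refutes it with the finite certificate.
-/

set_option autoImplicit false

namespace CfsgLib.U34Sylow

open Finset

/-- The constraints on the nontrivial rows. -/
structure RowData (ι : Type*) [Fintype ι] where
  row : ι → Row
  n : ι → ℤ
  ν : ι → ℤ
  π : Equiv.Perm ι
  row_π : ∀ i, row (π i) = (row i).rot
  n_π : ∀ i, n (π i) = n i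
  nonzero : ∀ i, ¬((row i).c = 0 ∧ (row i).A = 0)
  gram : ∀ f : Inv, ∑ i, f.dot (Inv.ofRow 1 (row i)) = f.dot target
  sat : ∀ x ∈ witnesses, x.evenTest ⟨1, 1, 0, 0, 0, 0⟩ = true → ∃ i, x.evenTest (row i) = false
  adm : ∀ i, (row i).adm (n i) = true
  deg_c : ∑ i, ((row i).c * ((row i).z * (row i).z) : ℚ) / ((row i).deg (n i) : ℤ) = -1
  deg_a : ∑ i, ((4 * (row i).p - (row i).S) * ((row i).z * (row i).z) : ℚ) / ((row i).deg (n i) : ℤ) = -4
  ν_abs : ∀ i, -1 ≤ ν i ∧ ν i ≤ 1
  ν_odd : ∀ i, (row i).c % 2 ≠ 0 → 0 ≤ ν i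
  ν_moved : ∀ i, (row i).fixed = false → ν i = 0
  ν_c : ∑ i, ν i * (row i).c = -1
  ν_p : ∑ i, ν i * (row i).p = -2
  ν_S : ∑ i, ν i * (row i).S = -4

namespace Row

theorem rot4 (r : Row) : r.rot.rot.rot.rot = r := rfl

theorem smul_rot (s : ℤ) (r : Row) : (r.smul s).rot = r.rot.smul s := rfl

theorem S_rot (r : Row) : r.rot.S = r.S := by simp only [rot, S]; ring

theorem z_rot (r : Row) : r.rot.z = r.z := by simp only [z, A, S_rot]; rfl

theorem deg_rot (r : Row) (n : ℤ) : r.rot.deg n = r.deg n := by simp only [deg, A, S_rot]; rfl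

theorem per_pos (r : Row) : 0 < r.per := by unfold per; split_ifs <;> norm_num

theorem per_cases (r : Row) :
    (r.per = 1 ∧ r.rot = r) ∨ (r.per = 2 ∧ r.rot ≠ r ∧ r.rot.rot = r) ∨
      (r.per = 4 ∧ r.rot ≠ r ∧ r.rot.rot ≠ r) := by
  unfold per; split_ifs with h1 h2
  exacts [Or.inl ⟨rfl, h1⟩, Or.inr (Or.inl ⟨rfl, h1, h2⟩), Or.inr (Or.inr ⟨rfl, h1, h2⟩)]

theorem inv_rot (k : ℤ) (r : Row) : Inv.ofRow k r.rot = Inv.ofRow k r := by
  simp only [Inv.ofRow, S_rot, Inv.mk.injEq]
  simp only [rot]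
  refine ⟨trivial, trivial, trivial, trivial, trivial, ?_, ?_, ?_⟩ <;> ring

theorem inv_smul (k : ℤ) {s : ℤ} (hs : s * s = 1) (r : Row) : Inv.ofRow k (r.smul s) = Inv.ofRow k r := by
  simp only [Inv.ofRow, smul, S, Inv.mk.injEq]
  refine ⟨?_, ?_, ?_, ?_, ?_, ?_, ?_, ?_⟩
  · linear_combination (k * (r.c * r.c)) * hs
  · linear_combination (k * (r.c * r.p)) * hs
  · linear_combination (k * (r.c * (r.a + r.b + r.d + r.e))) * hs
  · linear_combination (k * (r.p * r.p)) * hs
  · linear_combination (k * (r.p * (r.a + r.b + r.d + r.e))) * hs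
  · linear_combination (k * (r.a * r.a + r.b * r.b + r.d * r.d + r.e * r.e)) * hs
  · linear_combination (k * (r.a * r.b + r.b * r.d + r.d * r.e + r.e * r.a)) * hs
  · linear_combination (k * (r.a * r.d + r.b * r.e)) * hs

end Row

namespace Inv

theorem dot_add (f u v : Inv) : f.dot (u + v) = f.dot u + f.dot v := by
  show f.dot ⟨_, _, _, _, _, _, _, _⟩ = _
  simp only [dot]; ring

theorem dot_sub (f u v : Inv) : f.dot (u - v) = f.dot u - f.dot v := by
  show f.dot ⟨_, _, _, _, _, _, _, _⟩ = _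
  simp only [dot]; ring

theorem dot_zero (f : Inv) : f.dot 0 = 0 := by
  show f.dot ⟨0, 0, 0, 0, 0, 0, 0, 0⟩ = 0
  simp only [dot]; ring

theorem dot_ofRow (f : Inv) (k : ℤ) (r : Row) : f.dot (ofRow k r) = k * f.dot (ofRow 1 r) := by
  simp only [dot, ofRow]; ring

theorem eq_of_dot {u v : Inv} (h : ∀ f : Inv, f.dot u = f.dot v) : u = v := by
  obtain ⟨a1, a2, a3, a4, a5, a6, a7, a8⟩ := u
  obtain ⟨b1, b2, b3, b4, b5, b6, b7, b8⟩ := v
  have h1 := h ⟨1, 0, 0, 0, 0, 0, 0, 0⟩
  have h2 := h ⟨0, 1, 0, 0, 0, 0, 0, 0⟩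
  have h3 := h ⟨0, 0, 1, 0, 0, 0, 0, 0⟩
  have h4 := h ⟨0, 0, 0, 1, 0, 0, 0, 0⟩
  have h5 := h ⟨0, 0, 0, 0, 1, 0, 0, 0⟩
  have h6 := h ⟨0, 0, 0, 0, 0, 1, 0, 0⟩
  have h7 := h ⟨0, 0, 0, 0, 0, 0, 1, 0⟩
  have h8 := h ⟨0, 0, 0, 0, 0, 0, 0, 1⟩
  simp only [dot] at h1 h2 h3 h4 h5 h6 h7 h8
  simp only [Inv.mk.injEq]
  omega

/-- The sum of a list of invariant vectors. -/
def sumList : List Inv → Inv
  | [] => 0
  | u :: t => u + sumList t

theorem dot_sumList (f : Inv) (l : List Inv) : f.dot (sumList l) = (l.map f.dot).sum := by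
  induction l with
  | nil => simp [sumList, dot_zero]
  | cons u t ih => simp [sumList, dot_add, ih]

end Inv

/-- An element of the multiset of rows. -/
abbrev Elt := Row × ℤ × ℤ

/-- Row and degree parameter. -/
def key (x : Elt) : Row × ℤ := (x.1, x.2.1)

/-- Rotation of a key. -/
def rotKey (x : Row × ℤ) : Row × ℤ := (x.1.rot, x.2)

/-- One orbit of rows: a class, a sign, a degree parameter and the sum of the indicators. -/
structure Copy where
  o : Cls
  s : ℤ
  n : ℤ
  e : ℤ

/-- The signed representative. -/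
def Copy.row (q : Copy) : Row := q.o.r.smul q.s

/-- The properties of a copy. -/
structure Copy.Ok (q : Copy) : Prop where
  mem : q.o ∈ classes
  sign : q.s = 1 ∨ q.s = -1
  adm : q.row.adm q.n = true
  ind : q.e ∈ eRange q.row q.o.k

theorem Row.fixed_rot (r : Row) : r.rot.fixed = r.fixed := by
  unfold Row.fixed Row.rot
  by_cases h1 : r.a = r.d <;> by_cases h2 : r.b = r.e <;> simp [h1, h2, eq_comm]

theorem Row.adm_rot (r : Row) (n : ℤ) : r.rot.adm n = r.adm n := by
  simp only [Row.adm, Row.deg_rot, Row.z_rot, Row.A, Row.S_rot]; rfl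

theorem classes_per : classes.all (fun o => decide (o.k = o.r.per) && decide (0 < o.k)) = true := by decide +kernel

/-- What is known of one element. -/
def EltOk (x : Elt) : Prop :=
  inClass x.1 = true ∧ x.1.adm x.2.1 = true ∧ -1 ≤ x.2.2 ∧ x.2.2 ≤ 1 ∧
    (x.1.c % 2 ≠ 0 → 0 ≤ x.2.2) ∧ (x.1.fixed = false → x.2.2 = 0)

theorem exists_rep {r : Row} (h : inClass r = true) :
    ∃ o ∈ classes, o.k = r.per ∧ ∃ s : ℤ, (s = 1 ∨ s = -1) ∧
      ∃ j < 4, r = Row.rot^[j] (o.r.smul s) := by
  simp only [inClass, List.any_eq_true, Bool.and_eq_true, Bool.or_eq_true, decide_eq_true_eq] at h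
  obtain ⟨o, ho, hk, h⟩ := h
  have h1 : o.r.smul 1 = o.r := by simp [Row.smul]
  refine ⟨o, ho, hk, ?_⟩
  rcases h with ((((((h | h) | h) | h) | h) | h) | h) | h
  exacts [⟨1, Or.inl rfl, 0, by norm_num, by rw [h1]; exact h⟩, ⟨1, Or.inl rfl, 1, by norm_num, by rw [h1]; exact h⟩,
    ⟨1, Or.inl rfl, 2, by norm_num, by rw [h1]; exact h⟩, ⟨1, Or.inl rfl, 3, by norm_num, by rw [h1]; exact h⟩,
    ⟨-1, Or.inr rfl, 0, by norm_num, h⟩, ⟨-1, Or.inr rfl, 1, by norm_num, h⟩,
    ⟨-1, Or.inr rfl, 2, by norm_num, h⟩, ⟨-1, Or.inr rfl, 3, by norm_num, h⟩]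

theorem mem_eRange {r : Row} {k : ℕ} {e : ℤ} (hlo : -(k : ℤ) ≤ e) (hhi : e ≤ k) (hodd : r.c % 2 ≠ 0 → 0 ≤ e)
    (hmov : r.fixed = false → e = 0) : e ∈ eRange r k := by
  unfold eRange
  split_ifs with h1 h2
  · simp only [List.mem_map, List.mem_range]
    exact ⟨(e + k).toNat, by omega, by omega⟩
  · have := hodd h2
    simp only [List.mem_map, List.mem_range]
    exact ⟨e.toNat, by omega, by omega⟩
  · simp [hmov (by simpa using h1)]

/-- A rotation invariant multiset of rows splits into orbits. -/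
theorem decompose (N : ℕ) : ∀ M : Multiset Elt, M.card = N → (M.map key).map rotKey = M.map key →
    (∀ x ∈ M, EltOk x) → ∃ L : List Copy, (∀ q ∈ L, q.Ok) ∧
      (∀ F : Row → ℤ → ℚ, (∀ r n, F r.rot n = F r n) →
        (M.map fun x => F x.1 x.2.1).sum = (L.map fun q => (q.o.k : ℚ) * F q.row q.n).sum) ∧
      ∀ t : Row → ℤ, (∀ r, t r.rot = t r) →
        (M.map fun x => x.2.2 * t x.1).sum = (L.map fun q => q.e * t q.row).sum := by
  induction N using Nat.strong_induction_on with
  | _ N ih =>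
    intro M hN hinv hok
    rcases Multiset.empty_or_exists_mem M with rfl | ⟨x, hx⟩
    · exact ⟨[], by simp, by simp, by simp⟩
    obtain ⟨o, ho, hk, s, hs, j, -, hj⟩ := exists_rep (hok x hx).1
    set r := o.r.smul s with hr
    set n := x.2.1 with hn
    have hkey : ∀ i : ℕ, ∃ y ∈ M, key y = (Row.rot^[i] x.1, n) := by
      intro i
      induction i with
      | zero => exact ⟨x, hx, rfl⟩
      | succ i hi =>
        obtain ⟨y, hy, he⟩ := hi
        have h1 : rotKey (key y) ∈ (M.map key).map rotKey := Multiset.mem_map_of_mem _ (Multiset.mem_map_of_mem _ hy)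
        rw [hinv, he] at h1
        obtain ⟨y', hy', he'⟩ := Multiset.mem_map.1 h1
        exact ⟨y', hy', by rw [he', Function.iterate_succ_apply']; rfl⟩
    -- one orbit
    have hblock : ∃ O : Multiset Elt, O ≤ M ∧ O.card = x.1.per ∧ (O.map key).map rotKey = O.map key ∧
        ∀ y ∈ O, ∃ i : ℕ, key y = (Row.rot^[i] x.1, n) := by
      obtain ⟨y0, hy0, e0⟩ := hkey 0
      obtain ⟨y1, hy1, e1⟩ := hkey 1
      obtain ⟨y2, hy2, e2⟩ := hkey 2
      obtain ⟨y3, hy3, e3⟩ := hkey 3
      simp only [Function.iterate_succ_apply', Function.iterate_zero, id_eq] at e0 e1 e2 e3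
      rcases x.1.per_cases with ⟨hp, h1⟩ | ⟨hp, h1, h2⟩ | ⟨hp, h1, h2⟩
      · refine ⟨{y0}, Multiset.singleton_le.2 hy0, by simp [hp], ?_, ?_⟩
        · simp [e0, rotKey, h1]
        · intro y hy; rw [Multiset.mem_singleton.1 hy]; exact ⟨0, e0⟩
      · refine ⟨y0 ::ₘ {y1}, ?_, by simp [hp], ?_, ?_⟩
        · refine (Multiset.le_iff_subset ?_).2 ?_
          · simp only [Multiset.nodup_cons, Multiset.mem_singleton, Multiset.nodup_singleton, and_true]
            intro h; rw [h, e1] at e0; exact h1 (congrArg Prod.fst e0)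
          · intro y hy; simp only [Multiset.mem_cons, Multiset.mem_singleton] at hy; rcases hy with rfl | rfl <;> assumption
        · simp only [Multiset.map_cons, Multiset.map_singleton, e0, e1, rotKey, h2]
          exact Multiset.cons_swap _ _ 0
        · intro y hy; simp only [Multiset.mem_cons, Multiset.mem_singleton] at hy
          rcases hy with rfl | rfl
          exacts [⟨0, e0⟩, ⟨1, by simpa using e1⟩]
      · have h4 := x.1.rot4
        have h3 : x.1.rot.rot.rot ≠ x.1 := fun h => h1 (by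
          have := congrArg Row.rot h; rw [h4] at this; exact this.symm)
        refine ⟨y0 ::ₘ y1 ::ₘ y2 ::ₘ {y3}, ?_, by simp [hp], ?_, ?_⟩
        · refine (Multiset.le_iff_subset ?_).2 ?_
          · simp only [Multiset.nodup_cons, Multiset.mem_cons, Multiset.mem_singleton, Multiset.nodup_singleton, and_true]
            refine ⟨?_, ?_, ?_⟩
            · rintro (h | h | h) <;> rw [h] at e0
              · rw [e1] at e0; exact h1 (congrArg Prod.fst e0)
              · rw [e2] at e0; exact h2 (congrArg Prod.fst e0)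
              · rw [e3] at e0; exact h3 (congrArg Prod.fst e0)
            · rintro (h | h) <;> rw [h] at e1
              · rw [e2] at e1
                have := congrArg (fun u : Row => u.rot.rot.rot) (congrArg Prod.fst e1)
                exact h1 (by simpa [h4] using this)
              · rw [e3] at e1
                have := congrArg (fun u : Row => u.rot.rot.rot) (congrArg Prod.fst e1)
                exact h2 (by simpa [h4] using this)
            · intro h; rw [h, e3] at e2
              have := congrArg (fun u : Row => u.rot.rot) (congrArg Prod.fst e2)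
              exact h1 (by simpa [h4] using this)
          · intro y hy; simp only [Multiset.mem_cons, Multiset.mem_singleton] at hy
            rcases hy with rfl | rfl | rfl | rfl <;> assumption
        · simp only [Multiset.map_cons, Multiset.map_singleton, e0, e1, e2, e3, rotKey, h4]
          rw [← Multiset.singleton_add, ← Multiset.singleton_add, ← Multiset.singleton_add, ← Multiset.singleton_add,
            ← Multiset.singleton_add, ← Multiset.singleton_add]
          abel
        · intro y hy; simp only [Multiset.mem_cons, Multiset.mem_singleton] at hy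
          rcases hy with rfl | rfl | rfl | rfl
          exacts [⟨0, e0⟩, ⟨1, by simpa using e1⟩, ⟨2, by simpa using e2⟩, ⟨3, by simpa using e3⟩]
    obtain ⟨O, hOM, hcard, hOinv, hOkey⟩ := hblock
    obtain ⟨M', rfl⟩ := Multiset.le_iff_exists_add.1 hOM
    have hkpos : 0 < x.1.per := x.1.per_pos
    simp only [Multiset.card_add] at hN
    obtain ⟨L, hL, hF, hT⟩ := ih M'.card (by omega) M' rfl
      (by simpa [Multiset.map_add, hOinv] using hinv) fun y hy => hok y (Multiset.mem_add.2 (Or.inr hy))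
    have iterF : ∀ {α : Type} (F : Row → α), (∀ u, F u.rot = F u) → ∀ i (u : Row), F (Row.rot^[i] u) = F u := by
      intro α F hF i
      induction i with
      | zero => exact fun _ => rfl
      | succ i hi => intro u; rw [Function.iterate_succ_apply', hF, hi]
    have hconst : ∀ {α : Type} (F : Row → ℤ → α), (∀ u m, F u.rot m = F u m) →
        ∀ y ∈ O, F y.1 y.2.1 = F r n := by
      intro α F hF y hy
      obtain ⟨i, hi⟩ := hOkey y hy
      simp only [key, Prod.mk.injEq] at hi
      rw [hi.1, hi.2, iterF (fun u => F u n) (fun u => hF u n) i x.1, hj,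
        iterF (fun u => F u n) (fun u => hF u n) j r]
    refine ⟨⟨o, s, n, (O.map fun y => y.2.2).sum⟩ :: L, ?_, ?_, ?_⟩
    · intro q hq
      rcases List.mem_cons.1 hq with rfl | hq
      · refine ⟨ho, hs, ?_, ?_⟩
        · show r.adm n = true
          have h : x.1.adm n = true := (hok x hx).2.1
          rwa [hj, iterF (fun u => u.adm n) (fun u => u.adm_rot n) j r] at h
        · have hb : ∀ y ∈ O, EltOk y := fun y hy => hok y (Multiset.mem_add.2 (Or.inl hy))
          have hlen : (O.map fun y => y.2.2).card = o.k := by rw [Multiset.card_map, hcard, hk]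
          refine mem_eRange ?_ ?_ ?_ ?_
          · have h := Multiset.card_nsmul_le_sum (s := O.map fun y => y.2.2) (a := -1) fun v hv => by
              obtain ⟨y, hy, rfl⟩ := Multiset.mem_map.1 hv; exact (hb y hy).2.2.1
            simpa [hlen] using h
          · have h := Multiset.sum_le_card_nsmul (O.map fun y => y.2.2) 1 fun v hv => by
              obtain ⟨y, hy, rfl⟩ := Multiset.mem_map.1 hv; exact (hb y hy).2.2.2.1
            simpa [hlen] using h
          · intro hc
            refine Multiset.sum_nonneg fun v hv => ?_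
            obtain ⟨y, hy, rfl⟩ := Multiset.mem_map.1 hv
            exact (hb y hy).2.2.2.2.1 (by rwa [hconst (fun u _ => u.c) (fun _ _ => rfl) y hy])
          · intro hf
            refine Multiset.sum_eq_zero fun v hv => ?_
            obtain ⟨y, hy, rfl⟩ := Multiset.mem_map.1 hv
            exact (hb y hy).2.2.2.2.2 (by rwa [hconst (fun u _ => u.fixed) (fun u _ => u.fixed_rot) y hy])
      · exact hL q hq
    · intro F hF'
      rw [Multiset.map_add, Multiset.sum_add, List.map_cons, List.sum_cons, hF F hF',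
        Multiset.map_congr rfl (hconst F hF'), Multiset.map_const', Multiset.sum_replicate, hcard, ← hk,
        nsmul_eq_mul]
      rfl
    · intro t ht
      rw [Multiset.map_add, Multiset.sum_add, List.map_cons, List.sum_cons, hT t ht,
        Multiset.map_congr rfl fun y hy => by rw [hconst (fun u _ => t u) (fun u _ => ht u) y hy],
        Multiset.sum_map_mul_right]
      rfl

theorem ediv_bounds (w d : ℤ) (hd : 0 < d) :
    ((w / d : ℤ) : ℚ) ≤ w / d ∧ (w : ℚ) / d ≤ ((-((-w) / d) : ℤ) : ℚ) := by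
  have hd' : (0 : ℚ) < d := by exact_mod_cast hd
  refine ⟨?_, ?_⟩
  · rw [le_div_iff₀ hd']
    exact_mod_cast Int.ediv_mul_le w hd.ne'
  · rw [div_le_iff₀ hd']
    have h := Int.ediv_mul_le (-w) hd.ne'
    have h' : w ≤ -((-w) / d) * d := by rw [neg_mul]; omega
    exact_mod_cast h'

theorem big_bounds (w d₀ d : ℤ) (h0 : 0 < d₀) (hle : d₀ ≤ d) :
    ((min 0 (w / d₀) : ℤ) : ℚ) ≤ w / d ∧ (w : ℚ) / d ≤ ((max 0 (-((-w) / d₀)) : ℤ) : ℚ) := by
  have hd0 : (0 : ℚ) < d₀ := by exact_mod_cast h0
  have hd : (0 : ℚ) < d := lt_of_lt_of_le hd0 (by exact_mod_cast hle)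
  obtain ⟨hl, hh⟩ := ediv_bounds w d₀ h0
  push_cast
  rcases le_total 0 (w : ℚ) with hw | hw
  · have h1 : (w : ℚ) / d ≤ w / d₀ := div_le_div_of_nonneg_left hw hd0 (by exact_mod_cast hle)
    exact ⟨(min_le_left _ _).trans (div_nonneg hw hd.le), h1.trans (le_max_of_le_right (by push_cast at hh; exact hh))⟩
  · have h1 : (w : ℚ) / d₀ ≤ w / d := by
      rw [div_le_div_iff₀ hd0 hd]
      exact mul_le_mul_of_nonpos_left (by exact_mod_cast hle) hw
    exact ⟨(min_le_right _ _).trans (hl.trans h1), le_max_of_le_left (div_nonpos_of_nonpos_of_nonneg hw hd.le)⟩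

namespace Tri

theorem foldr_inf (l : List Tri) (a : Tri) :
    ∀ u ∈ l, (l.foldr Tri.inf a).x ≤ u.x ∧ (l.foldr Tri.inf a).y ≤ u.y ∧ (l.foldr Tri.inf a).w ≤ u.w := by
  induction l with
  | nil => simp
  | cons v t ih =>
    intro u hu
    simp only [List.foldr_cons, Tri.inf]
    rcases List.mem_cons.1 hu with rfl | hu
    · exact ⟨min_le_left _ _, min_le_left _ _, min_le_left _ _⟩
    · obtain ⟨a, b, c⟩ := ih u hu
      exact ⟨(min_le_right _ _).trans a, (min_le_right _ _).trans b, (min_le_right _ _).trans c⟩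

theorem foldr_sup (l : List Tri) (a : Tri) :
    ∀ u ∈ l, u.x ≤ (l.foldr Tri.sup a).x ∧ u.y ≤ (l.foldr Tri.sup a).y ∧ u.w ≤ (l.foldr Tri.sup a).w := by
  induction l with
  | nil => simp
  | cons v t ih =>
    intro u hu
    simp only [List.foldr_cons, Tri.sup]
    rcases List.mem_cons.1 hu with rfl | hu
    · exact ⟨le_max_left _ _, le_max_left _ _, le_max_left _ _⟩
    · obtain ⟨a, b, c⟩ := ih u hu
      exact ⟨a.trans (le_max_right _ _), b.trans (le_max_right _ _), c.trans (le_max_right _ _)⟩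

end Tri

/-- The bound contains the values. -/
def Bnd.Has (B : Bnd) (X Y : ℚ) (T : Tri) : Prop :=
  (B.l0 : ℚ) ≤ X ∧ X ≤ B.h0 ∧ (B.l1 : ℚ) ≤ Y ∧ Y ≤ B.h1 ∧ B.el.x ≤ T.x ∧ T.x ≤ B.eh.x ∧
    B.el.y ≤ T.y ∧ T.y ≤ B.eh.y ∧ B.el.w ≤ T.w ∧ T.w ≤ B.eh.w

theorem Bnd.Has.add {B B' : Bnd} {X Y X' Y' : ℚ} {T T' : Tri} (h : B.Has X Y T) (h' : B'.Has X' Y' T') :
    (B + B').Has (X + X') (Y + Y') (T + T') := by
  obtain ⟨a1, a2, a3, a4, a5, a6, a7, a8, a9, a10⟩ := h
  obtain ⟨b1, b2, b3, b4, b5, b6, b7, b8, b9, b10⟩ := h'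
  show ((B.l0 + B'.l0 : ℤ) : ℚ) ≤ _ ∧ _ ≤ ((B.h0 + B'.h0 : ℤ) : ℚ) ∧ ((B.l1 + B'.l1 : ℤ) : ℚ) ≤ _ ∧
    _ ≤ ((B.h1 + B'.h1 : ℤ) : ℚ) ∧ B.el.x + B'.el.x ≤ T.x + T'.x ∧ T.x + T'.x ≤ B.eh.x + B'.eh.x ∧
    B.el.y + B'.el.y ≤ T.y + T'.y ∧ T.y + T'.y ≤ B.eh.y + B'.eh.y ∧
    B.el.w + B'.el.w ≤ T.w + T'.w ∧ T.w + T'.w ≤ B.eh.w + B'.eh.w
  push_cast
  refine ⟨?_, ?_, ?_, ?_, ?_, ?_, ?_, ?_, ?_, ?_⟩ <;> linarith

theorem Bnd.has_zero : (0 : Bnd).Has 0 0 0 := by
  have e : ((0 : ℤ) : ℚ) = 0 := Int.cast_zero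
  exact ⟨e.le, e.ge, e.le, e.ge, le_rfl, le_rfl, le_rfl, le_rfl, le_rfl, le_rfl⟩

theorem Bnd.has_join_left {B B' : Bnd} {X Y : ℚ} {T : Tri} (h : B.Has X Y T) : (B.join B').Has X Y T := by
  obtain ⟨a1, a2, a3, a4, a5, a6, a7, a8, a9, a10⟩ := h
  refine ⟨le_trans (by exact_mod_cast min_le_left _ _) a1, a2.trans (by exact_mod_cast le_max_left _ _),
    le_trans (by exact_mod_cast min_le_left _ _) a3, a4.trans (by exact_mod_cast le_max_left _ _),
    (min_le_left _ _).trans a5, a6.trans (le_max_left _ _), (min_le_left _ _).trans a7, a8.trans (le_max_left _ _),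
    (min_le_left _ _).trans a9, a10.trans (le_max_left _ _)⟩

theorem Bnd.has_join_right {B B' : Bnd} {X Y : ℚ} {T : Tri} (h : B'.Has X Y T) : (B.join B').Has X Y T := by
  obtain ⟨a1, a2, a3, a4, a5, a6, a7, a8, a9, a10⟩ := h
  refine ⟨le_trans (by exact_mod_cast min_le_right _ _) a1, a2.trans (by exact_mod_cast le_max_right _ _),
    le_trans (by exact_mod_cast min_le_right _ _) a3, a4.trans (by exact_mod_cast le_max_right _ _),
    (min_le_right _ _).trans a5, a6.trans (le_max_right _ _), (min_le_right _ _).trans a7, a8.trans (le_max_right _ _),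
    (min_le_right _ _).trans a9, a10.trans (le_max_right _ _)⟩

/-- An option fits the values. -/
def Opt.Fits (o : Opt) (X Y : ℚ) (T : Tri) : Prop := o.bnd.Has X Y T ∧ T ∈ o.E

theorem joinAll_has {l : List Opt} {o : Opt} (ho : o ∈ l) {X Y : ℚ} {T : Tri} (h : o.bnd.Has X Y T) :
    (joinAll l).Has X Y T := by
  cases l with
  | nil => simp at ho
  | cons a t =>
    show (t.foldr (fun v u => v.bnd.join u) a.bnd).Has X Y T
    induction t with
    | nil => simp at ho; rw [← ho]; exact h
    | cons b t ih =>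
      simp only [List.foldr_cons]
      simp only [List.mem_cons] at ho
      rcases ho with rfl | rfl | ho
      · exact Bnd.has_join_right (ih (by simp))
      · exact Bnd.has_join_left h
      · exact Bnd.has_join_right (ih (by simp [ho]))

theorem mem_insTri {u v : Tri} {l : List Tri} : v ∈ insTri u l ↔ v = u ∨ v ∈ l := by
  unfold insTri; split_ifs with h
  · constructor
    · exact Or.inr
    · rintro (rfl | h') <;> assumption
  · simp

theorem mem_foldr_insTri {v : Tri} : ∀ {l : List Tri}, v ∈ l → v ∈ l.foldr insTri []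
  | [], h => by simp at h
  | a :: t, h => by
    simp only [List.foldr_cons, mem_insTri]
    rcases List.mem_cons.1 h with rfl | h
    exacts [Or.inl rfl, Or.inr (mem_foldr_insTri h)]

theorem mem_reach_cons {u v : Tri} {E : List Tri} {Es : List (List Tri)} (hu : u ∈ E) (hv : v ∈ reach Es) :
    u + v ∈ reach (E :: Es) :=
  mem_foldr_insTri (List.mem_flatMap.2 ⟨u, hu, List.mem_map.2 ⟨v, hv, rfl⟩⟩)

/-- A value for each position. -/
abbrev Val := ℚ × ℚ × Tri

/-- Sum of values. -/
def vsum : List Val → Val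
  | [] => (0, 0, 0)
  | v :: t => (v.1 + (vsum t).1, v.2.1 + (vsum t).2.1, v.2.2 + (vsum t).2.2)

/-- Every value fits some option of its position. -/
def AllFit : List (List Opt) → List Val → Prop
  | [], [] => True
  | l :: t, v :: vs => (∃ o ∈ l, o.Fits v.1 v.2.1 v.2.2) ∧ AllFit t vs
  | _, _ => False

theorem withBounds_fst : ∀ ls : List (List Opt), (withBounds ls).map Prod.fst = ls
  | [] => rfl
  | l :: t => by simp [withBounds, withBounds_fst t]

/-- Every attached bound contains all fitting values. -/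
def GoodBounds : List (List Opt × Bnd) → Prop
  | [] => True
  | (l, B) :: t => (∀ vs, AllFit (l :: t.map Prod.fst) vs → B.Has (vsum vs).1 (vsum vs).2.1 (vsum vs).2.2) ∧ GoodBounds t

theorem goodBounds : ∀ ls : List (List Opt), GoodBounds (withBounds ls)
  | [] => trivial
  | l :: t => by
    refine ⟨?_, goodBounds t⟩
    rw [withBounds_fst]
    intro vs hvs
    cases vs with
    | nil => exact absurd hvs (by simp [AllFit])
    | cons v vs =>
      obtain ⟨⟨o, ho, hf⟩, hrest⟩ := hvs
      refine Bnd.Has.add (joinAll_has ho hf.1) ?_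
      cases t with
      | nil =>
        cases vs with
        | nil => exact Bnd.has_zero
        | cons a b => exact absurd hrest (by simp [AllFit])
      | cons l' t' =>
        have hg := goodBounds (l' :: t')
        have hw : withBounds (l' :: t') =
            (l', joinAll l' + ((withBounds t').head?.map Prod.snd).getD 0) :: withBounds t' := rfl
        rw [hw] at hg ⊢
        exact hg.1 vs (by rw [withBounds_fst]; exact hrest)

theorem Tri.add_comm' (a b : Tri) : a + b = b + a := by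
  show (⟨_, _, _⟩ : Tri) = ⟨_, _, _⟩
  simp [add_comm]

theorem Tri.add_assoc' (a b c : Tri) : a + b + c = a + (b + c) := by
  show (⟨a.x + b.x + c.x, a.y + b.y + c.y, a.w + b.w + c.w⟩ : Tri) = ⟨a.x + (b.x + c.x), a.y + (b.y + c.y), a.w + (b.w + c.w)⟩
  simp [add_assoc]

theorem Tri.add_zero' (a : Tri) : a + 0 = a := by
  obtain ⟨x, y, w⟩ := a
  show (⟨x + 0, y + 0, w + 0⟩ : Tri) = _
  simp

theorem srch_sound : ∀ (l : List (List Opt × Bnd)), GoodBounds l → ∀ (u : Bnd) (Es : List (List Tri)) (X Y : ℚ) (T : Tri),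
    srch l u Es = true → u.Has X Y T → T ∈ reach Es → ∀ vs, AllFit (l.map Prod.fst) vs →
      X + (vsum vs).1 = -100000000 → Y + (vsum vs).2.1 = -400000000 → T + (vsum vs).2.2 = ⟨-1, -2, -4⟩ → False
  | [], _, u, Es, X, Y, T, h, hu, hT, vs, hvs, hX, hY, hTT => by
    cases vs with
    | cons a b => exact absurd hvs (by simp [AllFit])
    | nil =>
      simp only [vsum, add_zero] at hX hY
      simp only [vsum, Tri.add_zero'] at hTT
      subst hX hY hTT
      have hm : u.meets = true := by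
        obtain ⟨a1, a2, a3, a4, a5, a6, a7, a8, a9, a10⟩ := hu
        have b1 : u.l0 ≤ -100000000 := by exact_mod_cast a1
        have b2 : -100000000 ≤ u.h0 := by exact_mod_cast a2
        have b3 : u.l1 ≤ -400000000 := by exact_mod_cast a3
        have b4 : -400000000 ≤ u.h1 := by exact_mod_cast a4
        simp_all [Bnd.meets]
      simp [srch, hm, hT] at h
  | (l, B) :: t, hg, u, Es, X, Y, T, h, hu, hT, vs, hvs, hX, hY, hTT => by
    have hB := hg.1 vs hvs
    have hm : (u + B).meets = true := by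
      have := hu.add hB
      rw [hX, hY, hTT] at this
      obtain ⟨a1, a2, a3, a4, a5, a6, a7, a8, a9, a10⟩ := this
      have b1 : (u + B).l0 ≤ -100000000 := by exact_mod_cast a1
      have b2 : -100000000 ≤ (u + B).h0 := by exact_mod_cast a2
      have b3 : (u + B).l1 ≤ -400000000 := by exact_mod_cast a3
      have b4 : -400000000 ≤ (u + B).h1 := by exact_mod_cast a4
      simp_all [Bnd.meets]
    simp only [srch, hm, Bool.not_true, Bool.false_or, List.all_eq_true] at h
    cases vs with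
    | nil => exact absurd hvs (by simp [AllFit])
    | cons v vs =>
      obtain ⟨⟨o, ho, hf⟩, hrest⟩ := hvs
      simp only [vsum] at hX hY hTT
      refine srch_sound t hg.2 (u + o.bnd) (o.E :: Es) (X + v.1) (Y + v.2.1) (T + v.2.2) (h o ho) (hu.add hf.1)
        (by rw [Tri.add_comm']; exact mem_reach_cons hf.2 hT) vs hrest (by linarith) (by linarith)
        (by rw [Tri.add_assoc']; exact hTT)

/-- The values of a copy. -/
def Copy.val (q : Copy) : Val :=
  ((q.o.k : ℚ) * q.row.c * (q.row.z * q.row.z) * 100000000 / (q.row.deg q.n : ℤ),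
    (q.o.k : ℚ) * (4 * q.row.p - q.row.S) * (q.row.z * q.row.z) * 100000000 / (q.row.deg q.n : ℤ),
    ⟨q.e * q.row.c, q.e * q.row.p, q.e * q.row.S⟩)

theorem classes_small : classes.all (fun o => decide (-3 ≤ o.r.c) && decide (o.r.c ≤ 3)) = true := by decide +kernel

theorem Copy.Ok.fits {q : Copy} (hq : q.Ok) (N : ℕ) (hpos : 0 < q.row.deg (N + 1)) :
    ∃ o ∈ opts q.o N, o.Fits q.val.1 q.val.2.1 q.val.2.2 := by
  obtain ⟨hmem, hs, hadm, hind⟩ := hq
  have hside : ∀ o ∈ signOpts q.row q.o.k N, o ∈ opts q.o N := by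
    intro o ho
    rcases hs with h | h
    · have : q.row = q.o.r := by simp [Copy.row, h, Row.smul]
      exact List.mem_append_left _ (this ▸ ho)
    · have : q.row = q.o.r.smul (-1) := by simp [Copy.row, h]
      exact List.mem_append_right _ (this ▸ ho)
  have hn1 : 1 ≤ q.n := by
    have hc := List.all_eq_true.1 classes_small q.o hmem
    simp only [Bool.and_eq_true, decide_eq_true_eq] at hc
    have h16 := hadm
    simp only [Row.adm, Bool.and_eq_true, decide_eq_true_eq] at h16
    have hrc : q.row.c = q.s * q.o.r.c := rfl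
    rcases hs with h | h <;> rw [h] at hrc <;> omega
  have hE : (⟨q.e * q.row.c, q.e * q.row.p, q.e * q.row.S⟩ : Tri) ∈
      (eRange q.row q.o.k).map fun e => (⟨e * q.row.c, e * q.row.p, e * q.row.S⟩ : Tri) :=
    List.mem_map.2 ⟨q.e, hind, rfl⟩
  have hlo := Tri.foldr_inf _ (((eRange q.row q.o.k).map
    fun e => (⟨e * q.row.c, e * q.row.p, e * q.row.S⟩ : Tri)).headD 0) _ hE
  have hhi := Tri.foldr_sup _ (((eRange q.row q.o.k).map
    fun e => (⟨e * q.row.c, e * q.row.p, e * q.row.S⟩ : Tri)).headD 0) _ hE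
  by_cases hnN : q.n ≤ N
  · have hd : 0 < q.row.deg q.n := by
      simp only [Row.adm, Bool.and_eq_true, decide_eq_true_eq] at hadm; exact hadm.1.2
    refine ⟨mkOpt q.row q.o.k q.n false, hside _ ?_, ?_, hE⟩
    · refine List.mem_append_left _ (List.mem_map.2 ⟨q.n, List.mem_filter.2 ⟨?_, hadm⟩, rfl⟩)
      exact List.mem_map.2 ⟨(q.n - 1).toNat, List.mem_range.2 (by omega), by omega⟩
    · have b0 := ediv_bounds ((q.o.k : ℤ) * q.row.c * (q.row.z * q.row.z) * 100000000) _ hd
      have b1 := ediv_bounds ((q.o.k : ℤ) * (4 * q.row.p - q.row.S) * (q.row.z * q.row.z) * 100000000) _ hd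
      push_cast at b0 b1
      refine ⟨?_, ?_, ?_, ?_, hlo.1, hhi.1, hlo.2.1, hhi.2.1, hlo.2.2, hhi.2.2⟩ <;>
        simp only [mkOpt, Copy.val, Bool.false_eq_true, if_false] <;> push_cast
      exacts [b0.1, b0.2, b1.1, b1.2]
  · have hle : q.row.deg (N + 1) ≤ q.row.deg q.n := by simp only [Row.deg]; omega
    refine ⟨mkOpt q.row q.o.k (N + 1) true, hside _ (List.mem_append_right _ (by simp)), ?_, hE⟩
    have b0 := big_bounds ((q.o.k : ℤ) * q.row.c * (q.row.z * q.row.z) * 100000000) _ _ hpos hle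
    have b1 := big_bounds ((q.o.k : ℤ) * (4 * q.row.p - q.row.S) * (q.row.z * q.row.z) * 100000000) _ _ hpos hle
    push_cast at b0 b1
    refine ⟨?_, ?_, ?_, ?_, hlo.1, hhi.1, hlo.2.1, hhi.2.1, hlo.2.2, hhi.2.2⟩ <;>
      simp only [mkOpt, Copy.val, if_true] <;> push_cast
    exacts [b0.1, b0.2, b1.1, b1.2]

theorem classes_forms : classes.all (fun o => pruneForms.all fun f => decide (0 ≤ f.dot o.inv)) = true := by
  decide +kernel

theorem prune_nonneg {L : List Cls} (hL : ∀ o ∈ L, o ∈ classes) {f : Inv} (hf : f ∈ pruneForms) :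
    0 ≤ f.dot (Inv.sumList (L.map Cls.inv)) := by
  rw [Inv.dot_sumList, List.map_map]
  refine List.sum_nonneg fun x hx => ?_
  obtain ⟨o, ho, rfl⟩ := List.mem_map.1 hx
  simpa using List.all_eq_true.1 (List.all_eq_true.1 classes_forms o (hL o ho)) f hf

theorem supp_of_sum {l L : List Cls} (h : ∀ o ∈ L, o ∈ l) : supp l (Inv.sumList (L.map Cls.inv)) = true := by
  have key : ∀ g : Inv → ℤ, g 0 = 0 → (∀ u v, g (u + v) = g u + g v) →
      g (Inv.sumList (L.map Cls.inv)) = 0 ∨ ∃ o ∈ l, g o.inv ≠ 0 := by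
    intro g g0 gadd
    by_cases hex : ∃ o ∈ l, g o.inv ≠ 0
    · exact Or.inr hex
    push Not at hex
    refine Or.inl ?_
    induction L with
    | nil => exact g0
    | cons o L ih =>
      show g (o.inv + Inv.sumList (L.map Cls.inv)) = 0
      rw [gadd, ih fun x hx => h x (List.mem_cons_of_mem _ hx), hex o (h o List.mem_cons_self), add_zero]
  simp only [supp, Bool.and_eq_true, Bool.or_eq_true, decide_eq_true_eq, List.any_eq_true]
  exact ⟨⟨⟨⟨⟨⟨⟨key _ rfl fun _ _ => rfl, key _ rfl fun _ _ => rfl⟩, key _ rfl fun _ _ => rfl⟩,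
    key _ rfl fun _ _ => rfl⟩, key _ rfl fun _ _ => rfl⟩, key _ rfl fun _ _ => rfl⟩,
    key _ rfl fun _ _ => rfl⟩, key _ rfl fun _ _ => rfl⟩

theorem go_sound : ∀ (fu : ℕ) (l : List Cls) (R : Inv) (acc : List Cls), go fu l R acc = true →
    (∀ o ∈ l, o ∈ classes) → ∀ L : List Cls, (∀ o ∈ L, o ∈ l) → Inv.sumList (L.map Cls.inv) = R →
      ∃ P, P.Perm (L ++ acc) ∧ leafOk P = true
  | 0, l, R, acc, h, _, _, _, _ => by simp [go] at h
  | fu + 1, [], R, acc, h, _, L, hL, hR => by
    have : L = [] := List.eq_nil_iff_forall_not_mem.2 fun o ho => by simpa using hL o ho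
    subst this
    simp only [go, Bool.or_eq_true, decide_eq_true_eq] at h
    exact ⟨acc, List.Perm.refl _, h.resolve_left fun h' => h' hR.symm⟩
  | fu + 1, o :: t, R, acc, h, hl, L, hL, hR => by
    simp only [go, Bool.or_eq_true, Bool.and_eq_true, Bool.not_eq_true'] at h
    rcases h with h | ⟨h1, h2⟩
    · rw [← hR, supp_of_sum hL] at h; simp at h
    by_cases ho : o ∈ L
    · have hp : L.Perm (o :: L.erase o) := List.perm_cons_erase ho
      have hR' : Inv.sumList ((L.erase o).map Cls.inv) = R - o.inv := by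
        refine Inv.eq_of_dot fun f => ?_
        rw [Inv.dot_sub, ← hR, Inv.dot_sumList, Inv.dot_sumList, List.map_map, List.map_map,
          (hp.map _).sum_eq, List.map_cons, List.sum_cons]
        simp
      have hsub : ∀ x ∈ L.erase o, x ∈ o :: t := fun x hx => hL x (List.mem_of_mem_erase hx)
      rcases h1 with h1 | h1
      · simp only [pruned, List.any_eq_true, decide_eq_true_eq] at h1
        obtain ⟨f, hf, hlt⟩ := h1
        rw [← hR'] at hlt
        exact absurd hlt (not_lt.2 (prune_nonneg (fun x hx => hl x (hsub x hx)) hf))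
      · obtain ⟨P, hP, hok⟩ := go_sound fu (o :: t) _ _ h1 hl (L.erase o) hsub hR'
        exact ⟨P, hP.trans (List.perm_middle.trans (List.Perm.append_right _ hp.symm)), hok⟩
    · exact go_sound fu t R acc h2 (fun x hx => hl x (List.mem_cons_of_mem _ hx)) L
        (fun x hx => (List.mem_cons.1 (hL x hx)).resolve_left fun e => ho (e ▸ hx)) hR

theorem exists_map_perm {α β : Type*} (f : α → β) :
    ∀ {l₂ : List β} {L : List α}, (L.map f).Perm l₂ → ∃ L' : List α, L'.Perm L ∧ L'.map f = l₂
  | [], L, h => ⟨([] : List α), by rw [List.map_eq_nil_iff.1 h.eq_nil], rfl⟩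
  | b :: t, L, h => by
    letI := Classical.decEq α
    obtain ⟨a, ha, hab⟩ := List.mem_map.1 (h.symm.subset List.mem_cons_self)
    have hp := List.perm_cons_erase ha
    have h' := ((hp.map f).symm).trans h
    rw [List.map_cons, hab] at h'
    obtain ⟨L', h1, h2⟩ := exists_map_perm f (L := L.erase a) (List.Perm.cons_inv h')
    exact ⟨a :: L', (h1.cons a).trans hp.symm, by simp [h2, hab]⟩

theorem vsum_eq : ∀ L : List Copy, vsum (L.map Copy.val) =
    ((L.map fun q => q.val.1).sum, (L.map fun q => q.val.2.1).sum,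
      ⟨(L.map fun q => q.e * q.row.c).sum, (L.map fun q => q.e * q.row.p).sum, (L.map fun q => q.e * q.row.S).sum⟩)
  | [] => rfl
  | q :: L => by
    simp only [List.map_cons, vsum, vsum_eq L, List.sum_cons]
    rfl

theorem evenTest_rot (x r : Row) : x.evenTest r.rot = x.evenTest r := by
  simp only [Row.evenTest, Row.rot4]
  ac_rfl

theorem small_of_gram {ι : Type*} [Fintype ι] (D : RowData ι) (i : ι) :
    (D.row i).c * (D.row i).c ≤ 15 ∧ (D.row i).p * (D.row i).p ≤ 4 ∧
      (D.row i).a * (D.row i).a ≤ 8 ∧ (D.row i).b * (D.row i).b ≤ 8 ∧ (D.row i).d * (D.row i).d ≤ 8 ∧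
        (D.row i).e * (D.row i).e ≤ 8 := by
  classical
  set r : ι → Row := D.row with hr
  have g1 : ∑ j, (r j).c * (r j).c = 15 := by
    simpa [Inv.dot, Inv.ofRow, target] using D.gram ⟨1, 0, 0, 0, 0, 0, 0, 0⟩
  have g2 : ∑ j, (r j).p * (r j).p = 4 := by
    simpa [Inv.dot, Inv.ofRow, target] using D.gram ⟨0, 0, 0, 1, 0, 0, 0, 0⟩
  have g3 : ∑ j, ((r j).a * (r j).a + (r j).b * (r j).b + (r j).d * (r j).d + (r j).e * (r j).e) = 20 := by
    simpa [Inv.dot, Inv.ofRow, target] using D.gram ⟨0, 0, 0, 0, 0, 1, 0, 0⟩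
  have hrot : ∀ F : Row → ℤ, ∑ j, F (r j).rot = ∑ j, F (r j) := fun F => by
    rw [← Equiv.sum_comp D.π fun j => F (r j)]
    exact sum_congr rfl fun j _ => by rw [hr, D.row_π]
  have hd : ∑ j, (r j).a * (r j).a = 5 ∧ ∑ j, (r j).b * (r j).b = 5 ∧ ∑ j, (r j).d * (r j).d = 5 ∧
      ∑ j, (r j).e * (r j).e = 5 := by
    have e1 := hrot fun u => u.a * u.a
    have e2 := hrot fun u => u.b * u.b
    have e3 := hrot fun u => u.d * u.d
    simp only [Row.rot] at e1 e2 e3
    rw [sum_add_distrib, sum_add_distrib, sum_add_distrib] at g3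
    omega
  have le : ∀ (F : ι → ℤ), F i * F i ≤ ∑ j, F j * F j := fun F =>
    single_le_sum (fun j _ => mul_self_nonneg (F j)) (mem_univ i)
  exact ⟨g1 ▸ le fun j => (r j).c, g2 ▸ le fun j => (r j).p,
    (hd.1 ▸ le fun j => (r j).a).trans (by norm_num), (hd.2.1 ▸ le fun j => (r j).b).trans (by norm_num),
    (hd.2.2.1 ▸ le fun j => (r j).d).trans (by norm_num), (hd.2.2.2 ▸ le fun j => (r j).e).trans (by norm_num)⟩

theorem inClass_of_data {ι : Type*} [Fintype ι] (D : RowData ι) (i : ι) : inClass (D.row i) = true := by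
  classical
  obtain ⟨b1, b2, b3, b4, b5, b6⟩ := small_of_gram D i
  have h := rowOk_of_small b1 b2 b3 b4 b5 b6
  simp only [rowOk, Bool.or_eq_true, Bool.and_eq_true, decide_eq_true_eq, List.any_eq_true] at h
  rcases h with (h | ⟨f, hf, hlt⟩) | h
  · exact absurd h (D.nonzero i)
  · exfalso
    -- the orbit of the row already exceeds the form
    set g : ι → ℤ := fun j => f.dot (Inv.ofRow 1 (D.row j)) with hg
    have hg0 : ∀ j, 0 ≤ g j := fun j => forms_nonneg hf _
    have hconst : ∀ j, g (D.π j) = g j := fun j => by simp only [hg, D.row_π, Row.inv_rot]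
    rw [Inv.dot_ofRow, ← D.gram f] at hlt
    rcases (D.row i).per_cases with ⟨hp, -⟩ | ⟨hp, h1, -⟩ | ⟨hp, h1, h2⟩ <;> rw [hp] at hlt <;> push_cast at hlt
    · exact absurd hlt (not_lt.2 (by simpa [hg] using single_le_sum (fun j _ => hg0 j) (mem_univ i)))
    · have hne : i ≠ D.π i := fun e => h1 (by rw [← D.row_π, ← e])
      have h := sum_le_sum_of_subset_of_nonneg (subset_univ {i, D.π i}) fun j _ _ => hg0 j
      rw [sum_pair hne, hconst] at h
      simp only [hg] at h
      linarith
    · set ρ := fun j => D.π j with hρ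
      have hrow : ∀ j, D.row (ρ j) = (D.row j).rot := D.row_π
      have h4 := (D.row i).rot4
      have h3 : (D.row i).rot.rot.rot ≠ D.row i := fun e => h1 (by
        have := congrArg Row.rot e; rw [h4] at this; exact this.symm)
      have hne : ∀ {u v : ι}, D.row u ≠ D.row v → u ≠ v := fun h e => h (congrArg D.row e)
      have n01 : i ≠ ρ i := hne (by rw [hrow]; exact Ne.symm h1)
      have n02 : i ≠ ρ (ρ i) := hne (by rw [hrow, hrow]; exact Ne.symm h2)
      have n03 : i ≠ ρ (ρ (ρ i)) := hne (by rw [hrow, hrow, hrow]; exact Ne.symm h3)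
      have n12 : ρ i ≠ ρ (ρ i) := fun e => n01 (D.π.injective e)
      have n13 : ρ i ≠ ρ (ρ (ρ i)) := fun e => n02 (D.π.injective e)
      have n23 : ρ (ρ i) ≠ ρ (ρ (ρ i)) := fun e => n12 (D.π.injective e)
      have h := sum_le_sum_of_subset_of_nonneg (subset_univ {i, ρ i, ρ (ρ i), ρ (ρ (ρ i))}) fun j _ _ => hg0 j
      rw [sum_insert (by simp [n01, n02, n03]), sum_insert (by simp [n12, n13]), sum_pair n23] at h
      simp only [hρ, hconst] at h
      simp only [hg] at h
      linarith
  · exact h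

theorem evenTest_smul (x : Row) {s : ℤ} (hs : s = 1 ∨ s = -1) (r : Row) :
    x.evenTest (r.smul s) = x.evenTest r := by
  rcases hs with rfl | rfl
  · simp [Row.smul]
  · have key : ∀ v : Row, (x.c * (v.smul (-1)).c + x.p * (v.smul (-1)).p + x.a * (v.smul (-1)).a +
        x.b * (v.smul (-1)).b + x.d * (v.smul (-1)).d + x.e * (v.smul (-1)).e) % 2 = 0 ↔
        (x.c * v.c + x.p * v.p + x.a * v.a + x.b * v.b + x.d * v.d + x.e * v.e) % 2 = 0 := by
      intro v
      simp only [Row.smul, neg_one_mul, mul_neg]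
      omega
    rw [Bool.eq_iff_iff]
    simp only [Row.evenTest, Row.smul_rot, Bool.and_eq_true, decide_eq_true_eq, key]

theorem certs_classes : certs.all (fun C => C.1.all fun o => decide (o ∈ classes)) = true := by decide +kernel

/-- No row data exist. -/
theorem RowData.false {ι : Type*} [Fintype ι] (D : RowData ι) : False := by
  classical
  set M : Multiset Elt := (univ : Finset ι).val.map fun i => (D.row i, D.n i, D.ν i) with hM
  have hinv : (M.map key).map rotKey = M.map key := by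
    simp only [hM, Multiset.map_map]
    rw [show (rotKey ∘ key ∘ fun i => (D.row i, D.n i, D.ν i)) =
      (key ∘ fun i => (D.row i, D.n i, D.ν i)) ∘ D.π from funext fun i => by
        simp [key, rotKey, D.row_π, D.n_π], ← Multiset.map_map, Multiset.map_univ_val_equiv]
  have hok : ∀ x ∈ M, EltOk x := by
    intro x hx
    obtain ⟨i, -, rfl⟩ := Multiset.mem_map.1 hx
    exact ⟨inClass_of_data D i, D.adm i, (D.ν_abs i).1, (D.ν_abs i).2, D.ν_odd i, D.ν_moved i⟩
  obtain ⟨L, hL, hF, hT⟩ := decompose M.card M rfl hinv hok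
  have hsum : ∀ F : Row → ℤ → ℚ, (∀ r n, F r.rot n = F r n) →
      ∑ i, F (D.row i) (D.n i) = (L.map fun q => (q.o.k : ℚ) * F q.row q.n).sum := fun F hF' => by
    rw [← hF F hF', hM, Multiset.map_map]; rfl
  have hsumT : ∀ t : Row → ℤ, (∀ r, t r.rot = t r) →
      ∑ i, D.ν i * t (D.row i) = (L.map fun q => q.e * t q.row).sum := fun t ht => by
    rw [← hT t ht, hM, Multiset.map_map]; rfl
  have hgram : Inv.sumList ((L.map Copy.o).map Cls.inv) = target := by
    refine Inv.eq_of_dot fun f => ?_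
    have h := hsum (fun r _ => (f.dot (Inv.ofRow 1 r) : ℚ)) fun r _ => by rw [Row.inv_rot]
    rw [← Int.cast_sum, D.gram f] at h
    rw [Inv.dot_sumList, List.map_map, List.map_map]
    refine Int.cast_injective (α := ℚ) ?_
    rw [h]
    push_cast [List.map_map]
    refine congrArg List.sum (List.map_congr_left fun q hq => ?_)
    have hs : q.s * q.s = 1 := by rcases (hL q hq).sign with e | e <;> simp [e]
    simp only [Function.comp, Copy.row, Cls.inv, Row.inv_smul 1 hs]
    rw [Inv.dot_ofRow f (q.o.k : ℤ)]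
    push_cast; rfl
  have hmemL : ∀ o ∈ L.map Copy.o, o ∈ classes := fun o ho => by
    obtain ⟨q, hq, rfl⟩ := List.mem_map.1 ho; exact (hL q hq).mem
  obtain ⟨P, hP, hleaf⟩ := go_sound 200 classes target [] go_classes (fun o ho => ho) _ hmemL hgram
  rw [List.append_nil] at hP
  simp only [leafOk, Bool.or_eq_true, List.any_eq_true, List.isPerm_iff] at hleaf
  rcases hleaf with hsat | ⟨C, hC, hperm⟩
  · simp only [satFail, List.any_eq_true, Bool.and_eq_true, List.all_eq_true] at hsat
    obtain ⟨x, hx, ht, hall⟩ := hsat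
    obtain ⟨i, hi⟩ := D.sat x hx ht
    have h := hsum (fun r _ => if x.evenTest r then 0 else 1) fun r _ => by rw [evenTest_rot]
    have h0 : (L.map fun q => (q.o.k : ℚ) * if x.evenTest q.row then 0 else 1).sum = 0 := by
      refine List.sum_eq_zero fun v hv => ?_
      obtain ⟨q, hq, rfl⟩ := List.mem_map.1 hv
      rw [if_pos, mul_zero]
      show x.evenTest (q.o.r.smul q.s) = true
      rw [evenTest_smul x (hL q hq).sign]
      exact hall q.o (hP.mem_iff.2 (List.mem_map.2 ⟨q, hq, rfl⟩))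
    rw [h0, sum_eq_zero_iff_of_nonneg (fun j _ => by split_ifs <;> norm_num)] at h
    simpa [hi] using h i (mem_univ i)
  · obtain ⟨L', hL', hmap⟩ := exists_map_perm Copy.o (hP.symm.trans hperm.symm)
    have hd := List.all_eq_true.1 certs_dead C hC
    simp only [dead, Bool.and_eq_true, List.all_eq_true, decide_eq_true_eq] at hd
    obtain ⟨hpos, hsr⟩ := hd
    have hfit : ∀ L'' : List Copy, (∀ q ∈ L'', q ∈ L') →
        AllFit ((L''.map Copy.o).map fun o => opts o C.2) (L''.map Copy.val) := by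
      intro L''
      induction L'' with
      | nil => exact fun _ => trivial
      | cons q L'' ih =>
        intro h
        refine ⟨?_, ih fun x hx => h x (List.mem_cons_of_mem _ hx)⟩
        have hq := hL q (hL'.subset (h q List.mem_cons_self))
        refine hq.fits C.2 ?_
        have hp := hpos q.o (hmap ▸ List.mem_map.2 ⟨q, h q List.mem_cons_self, rfl⟩)
        rcases hq.sign with e | e
        · have : q.row = q.o.r := by simp [Copy.row, e, Row.smul]
          rw [this]; exact hp.1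
        · have : q.row = q.o.r.smul (-1) := by simp [Copy.row, e]
          rw [this]; exact hp.2
    have hfit' := hfit L' fun q hq => hq
    rw [hmap, ← withBounds_fst (C.1.map fun o => opts o C.2)] at hfit'
    refine srch_sound _ (goodBounds _) 0 [] 0 0 0 hsr Bnd.has_zero (by simp [reach]) _ hfit' ?_ ?_ ?_
    · rw [zero_add, vsum_eq, (hL'.map _).sum_eq]
      have h := hsum (fun r n => (r.c * (r.z * r.z) : ℚ) * 100000000 / (r.deg n : ℤ))
        fun r n => by rw [Row.deg_rot, Row.z_rot]; rfl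
      have h' : ∑ i, ((D.row i).c * ((D.row i).z * (D.row i).z) : ℚ) * 100000000 / ((D.row i).deg (D.n i) : ℤ) =
          -100000000 := by
        rw [sum_congr rfl fun i _ => mul_div_right_comm _ _ _, ← sum_mul, D.deg_c]; norm_num
      rw [← h', h]
      exact congrArg List.sum (List.map_congr_left fun q _ => by simp only [Copy.val]; ring)
    · rw [zero_add, vsum_eq]
      show (L'.map fun q => q.val.2.1).sum = _
      rw [(hL'.map _).sum_eq]
      have h := hsum (fun r n => ((4 * r.p - r.S) * (r.z * r.z) : ℚ) * 100000000 / (r.deg n : ℤ))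
        fun r n => by rw [Row.deg_rot, Row.z_rot, Row.S_rot]; rfl
      have h' : ∑ i, ((4 * (D.row i).p - (D.row i).S) * ((D.row i).z * (D.row i).z) : ℚ) * 100000000 /
          ((D.row i).deg (D.n i) : ℤ) = -400000000 := by
        rw [sum_congr rfl fun i _ => mul_div_right_comm _ _ _, ← sum_mul, D.deg_a]; norm_num
      rw [← h', h]
      exact congrArg List.sum (List.map_congr_left fun q _ => by simp only [Copy.val]; ring)
    · rw [vsum_eq, Tri.add_comm', Tri.add_zero', (hL'.map fun q => q.e * q.row.c).sum_eq,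
        (hL'.map fun q => q.e * q.row.p).sum_eq, (hL'.map fun q => q.e * q.row.S).sum_eq,
        ← hsumT (fun r => r.c) (fun _ => rfl), ← hsumT (fun r => r.p) (fun _ => rfl),
        ← hsumT (fun r => r.S) Row.S_rot, D.ν_c, D.ν_p, D.ν_S]

end CfsgLib.U34Sylow
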