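import Cfsg.Agent.U34Sylow.Coeff
import Cfsg.Agent.U34Sylow.Bounds
import Cfsg.Agent.U34Sylow.Rows
import Cfsg.Agent.Blocks.DefectZeroVanish

/-!
# U₃(4)-type Sylow 2-subgroups: `w` centralises `O(C(z))` in a simple group

The rows of the principal block satisfy every constraint of the finite certificate.
-/

set_option autoImplicit false
set_option linter.style.haveILetI false
set_option linter.unusedSectionVars false

namespace CfsgLib.U34Sylow.Ctx

open Finset Cfsg CfsgLib.Block CfsgLib.Block.Chr CfsgLib.Char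
open scoped ComplexConjugate

universe u

variable {G : Type u} [Group G] [Fintype G] (K : Ctx G)

/-- A principal block character takes one value on `S ∖ Z`. -/
theorem apply_off {χ : G → ℂ} (hχ : IsCharacter G χ) {v : G} (hv : v ∈ (K.S : Subgroup G))
    (hvZ : v ∉ K.Z) : χ v = χ K.root := by
  have hρ : ∀ u, χ (K.ρ * u * K.ρ⁻¹) = χ u := fun u => IsCharacter.isClassFunction hχ u K.ρ
  have key : ∀ u ∈ (K.S : Subgroup G), u * u = K.z → χ u = χ K.root := fun u hu huu => by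
    obtain ⟨i, s, -, rfl⟩ := K.exists_root_conj K.root_mem K.root_sq hu huu
    rw [IsCharacter.isClassFunction hχ _ s, IsCharacter.isClassFunction hχ _ (K.f ^ i)]
  rcases K.sq_cases hv hvZ with h | h | h
  · exact key v hv h
  · have h2 := K.conj_ρ_mem (K.conj_ρ_mem hv)
    rw [← hρ v, ← hρ (K.ρ * v * K.ρ⁻¹)]
    refine key _ h2 ?_
    simp only [conj_mul, h, K.ρ_w, K.ρ_zw]
  · rw [← hρ v]
    exact key _ (K.conj_ρ_mem hv) (by rw [conj_mul, h, K.ρ_zw])

theorem colZ_one (k : ℤ) : K.colZ k (oneIrr G : G → ℂ) = 1 := avg_eq_of_const _ _ fun _ _ => rfl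

theorem colX_one : K.colX (oneIrr G : G → ℂ) = 1 := avg_eq_of_const _ _ fun _ _ => rfl

theorem coefD_one (j : ℤ) : K.coefD j (oneIrr G : G → ℂ) = if (5 : ℤ) ∣ j then 1 else 0 := by
  simp only [coefD, K.colZ_one, mul_one]
  rw [sum_congr rfl fun (k : ℕ) _ => show ω ^ (-(j * (k : ℤ))) = ω ^ (-j * (k : ℤ)) by rw [neg_mul], sum_ω]
  simp only [dvd_neg]
  split_ifs <;> norm_num

/-- The entry `aⱼ`. -/
noncomputable def ent (j : ℤ) (χ : G → ℂ) : ℂ := K.coefD j χ + (K.colX χ - K.colZ 0 χ) / 4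

section ints

variable {M : Ideal AlgInt} [M.IsPrime] (hM : IsPModular 2 M)
include hM

theorem int_data (χ : IrrCharacter G) : ∃ c t : ℤ, K.colX (χ : G → ℂ) = c ∧ K.colZ 0 (χ : G → ℂ) = t ∧
    (4 : ℤ) ∣ c - t := by
  classical
  by_cases hχ : χ ∈ principalBlock M G
  · have hχc := IsIrrCharacter.isCharacter χ.2
    obtain ⟨c, hc⟩ := K.exists_int hχc K.root_mem
    obtain ⟨t, ht⟩ := K.exists_int hχc (K.Z_le K.z_mem)
    refine ⟨c, t, by rw [K.colX_principal hM hχ, hc], by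
      rw [K.colZ_principal hM 0 hχ, zpow_zero, mul_one, ht], ?_⟩
    exact K.dvd_value_sub hχc (d := (charDegree (χ : G → ℂ) : ℤ)) (by rw [(irr_one χ).1, Int.cast_natCast]) ht
      K.root_mem (K.root_not_mem_Z K.root_mem K.root_sq) hc
  · exact ⟨0, 0, by simp [K.colX_zero hM hχ], by simp [K.colZ_zero hM 0 hχ], dvd_zero _⟩

theorem exists_int_ent (χ : IrrCharacter G) (j : ℤ) : ∃ a : ℤ, K.ent j (χ : G → ℂ) = a := by
  obtain ⟨c, t, hc, ht, q, hq⟩ := K.int_data hM χ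
  obtain ⟨a, ha⟩ := K.exists_int_coefD hM χ j
  refine ⟨a + q, ?_⟩
  rw [ent, ha, hc, ht, show (c : ℂ) - t = ((4 * q : ℤ) : ℂ) by rw [← hq]; push_cast; ring]
  push_cast; ring

/-- The row of a character. -/
noncomputable def rowOf (χ : IrrCharacter G) : Row :=
  ⟨(K.int_data hM χ).choose, (K.exists_int_ent hM χ 0).choose, (K.exists_int_ent hM χ 1).choose,
    (K.exists_int_ent hM χ 2).choose, (K.exists_int_ent hM χ 4).choose, (K.exists_int_ent hM χ 3).choose⟩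

variable (χ : IrrCharacter G)

theorem rowOf_c : ((K.rowOf hM χ).c : ℂ) = K.colX (χ : G → ℂ) :=
  (K.int_data hM χ).choose_spec.choose_spec.1.symm

theorem rowOf_p : ((K.rowOf hM χ).p : ℂ) = K.ent 0 (χ : G → ℂ) := (K.exists_int_ent hM χ 0).choose_spec.symm

theorem rowOf_a : ((K.rowOf hM χ).a : ℂ) = K.ent 1 (χ : G → ℂ) := (K.exists_int_ent hM χ 1).choose_spec.symm

theorem rowOf_b : ((K.rowOf hM χ).b : ℂ) = K.ent 2 (χ : G → ℂ) := (K.exists_int_ent hM χ 2).choose_spec.symm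

theorem rowOf_d : ((K.rowOf hM χ).d : ℂ) = K.ent 4 (χ : G → ℂ) := (K.exists_int_ent hM χ 4).choose_spec.symm

theorem rowOf_e : ((K.rowOf hM χ).e : ℂ) = K.ent 3 (χ : G → ℂ) := (K.exists_int_ent hM χ 3).choose_spec.symm

omit hM in
theorem sum_ent (χ : G → ℂ) :
    K.ent 0 χ + (K.ent 1 χ + K.ent 2 χ + K.ent 4 χ + K.ent 3 χ) =
      K.colZ 0 χ + 5 * ((K.colX χ - K.colZ 0 χ) / 4) := by
  have h := K.sum_coefD χ
  simp only [sum_range_succ, sum_range_zero, zero_add, Nat.cast_zero, Nat.cast_one, Nat.cast_ofNat] at h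
  simp only [ent]
  linear_combination h

theorem rowOf_z : ((K.rowOf hM χ).z : ℂ) = K.colZ 0 (χ : G → ℂ) := by
  simp only [Row.z, Row.A, Row.S]
  push_cast
  rw [K.rowOf_c, K.rowOf_p, K.rowOf_a, K.rowOf_b, K.rowOf_d, K.rowOf_e, K.sum_ent]
  ring

theorem rowOf_mem (h : ¬((K.rowOf hM χ).c = 0 ∧ (K.rowOf hM χ).A = 0)) : χ ∈ principalBlock M G := by
  classical
  by_contra hχ
  have hc : ((K.rowOf hM χ).c : ℂ) = 0 := by rw [K.rowOf_c, K.colX_zero hM hχ]
  have ht : ((K.rowOf hM χ).z : ℂ) = 0 := by rw [K.rowOf_z, K.colZ_zero hM 0 hχ]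
  have hc' : (K.rowOf hM χ).c = 0 := by exact_mod_cast hc
  have ht' : (K.rowOf hM χ).z = 0 := by exact_mod_cast ht
  unfold Row.z at ht'
  exact h ⟨hc', by omega⟩

/-- The degree parameter of a principal block character. -/
theorem exists_deg (hχ : χ ∈ principalBlock M G) :
    ∃ n : ℤ, 0 ≤ n + (K.rowOf hM χ).c ∧ (K.rowOf hM χ).deg n = charDegree (χ : G → ℂ) := by
  classical
  have hχc := IsIrrCharacter.isCharacter χ.2
  set r := K.rowOf hM χ
  have hd : (χ : G → ℂ) 1 = ((charDegree (χ : G → ℂ) : ℤ) : ℂ) := by rw [(irr_one χ).1, Int.cast_natCast]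
  have ht : (χ : G → ℂ) K.z = (r.z : ℂ) := by rw [K.rowOf_z, K.colZ_principal hM 0 hχ, zpow_zero, mul_one]
  haveI : Fintype ((K.S : Subgroup G) ⧸ K.N) := Fintype.ofFinite _
  obtain ⟨m, hm⟩ := K.toBase.avg hχc hd ht ⊤ (univ.erase 1) (fun k => by simp [em]) (notMem_erase _ _)
  rw [sum_congr rfl fun k hk => show (χ : G → ℂ) ((k.out : _) : G) = (r.c : ℂ) by
      rw [K.apply_off hχc k.out.2 (K.out_notMem (mem_erase.1 hk).1), K.rowOf_c, K.colX_principal hM hχ],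
    sum_const, card_erase_of_mem (mem_univ _), card_univ, ← Nat.card_eq_fintype_card, K.card_quot,
    nsmul_eq_mul] at hm
  norm_num at hm
  have h64 : (charDegree (χ : G → ℂ) : ℤ) + 3 * r.z + 60 * r.c = 64 * m := by
    have : (((charDegree (χ : G → ℂ) : ℤ) + 3 * r.z + 60 * r.c : ℤ) : ℂ) = ((64 * m : ℤ) : ℂ) := by
      push_cast; linear_combination hm
    exact_mod_cast this
  refine ⟨(m : ℤ) - r.c, by omega, ?_⟩
  unfold Row.deg
  unfold Row.z at h64
  omega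

/-- A row with `c = A = 0` vanishes. -/
theorem rowOf_degenerate (h : (K.rowOf hM χ).c = 0 ∧ (K.rowOf hM χ).A = 0) :
    K.rowOf hM χ = ⟨0, 0, 0, 0, 0, 0⟩ := by
  classical
  haveI : Fact (Nat.Prime 2) := ⟨Nat.prime_two⟩
  have hc : K.colX (χ : G → ℂ) = 0 := by rw [← K.rowOf_c hM, h.1, Int.cast_zero]
  have ht : K.colZ 0 (χ : G → ℂ) = 0 := by
    rw [← K.rowOf_z hM, show (K.rowOf hM χ).z = 0 by unfold Row.z; omega, Int.cast_zero]
  have hv : ∀ k, K.colZ k (χ : G → ℂ) = 0 := fun k => by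
    by_cases hχ : χ ∈ principalBlock M G
    · obtain ⟨n, -, hn⟩ := K.exists_deg hM χ hχ
      have h64 : 2 ^ (Nat.card G).factorization 2 ∣ charDegree (χ : G → ℂ) := by
        rw [← K.S.card_eq_multiplicity, K.card_S]
        refine Int.natCast_dvd_natCast.1 ⟨n, ?_⟩
        rw [← hn, Row.deg, h.1, h.2]; push_cast; ring
      rw [K.colZ_principal hM k hχ]
      refine eq_zero_of_defectZero Nat.prime_two χ h64 ?_
      have hc1 : Commute K.z (K.f ^ k) := (K.zpow_commute_Z k K.z_mem).symm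
      have hfo : Odd (orderOf (K.f ^ k)) := by simpa using K.odd_order_coset k (one_mem _)
      rw [hc1.orderOf_mul_eq_mul_orderOf_of_coprime (by rw [K.orderOf_z]; exact Nat.coprime_two_left.2 hfo),
        K.orderOf_z]
      exact dvd_mul_right 2 _
    · exact K.colZ_zero hM k hχ
  have hD : ∀ j, K.ent j (χ : G → ℂ) = 0 := fun j => by simp [ent, coefD, hv, hc]
  have h0 : ∀ a : ℤ, (a : ℂ) = 0 → a = 0 := fun a ha => by exact_mod_cast ha
  obtain ⟨r1, r2, r3, r4, r5, r6⟩ :=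
    And.intro h.1 (And.intro (h0 _ ((K.rowOf_p hM χ).trans (hD 0))) (And.intro (h0 _ ((K.rowOf_a hM χ).trans (hD 1)))
      (And.intro (h0 _ ((K.rowOf_b hM χ).trans (hD 2))) (And.intro (h0 _ ((K.rowOf_d hM χ).trans (hD 4)))
        (h0 _ ((K.rowOf_e hM χ).trans (hD 3)))))))
  revert r1 r2 r3 r4 r5 r6
  rcases K.rowOf hM χ with ⟨a1, a2, a3, a4, a5, a6⟩
  rintro rfl rfl rfl rfl rfl rfl
  rfl

theorem rowOf_one : K.rowOf hM (oneIrr G) = ⟨1, 1, 0, 0, 0, 0⟩ := by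
  have he : ∀ j, K.ent j (oneIrr G : G → ℂ) = if (5 : ℤ) ∣ j then 1 else 0 := fun j => by
    rw [ent, K.colX_one, K.colZ_one, K.coefD_one, sub_self, zero_div, add_zero]
  have h0 := K.rowOf_c hM (oneIrr G)
  have h1 := K.rowOf_p hM (oneIrr G)
  have h2 := K.rowOf_a hM (oneIrr G)
  have h3 := K.rowOf_b hM (oneIrr G)
  have h4 := K.rowOf_d hM (oneIrr G)
  have h5 := K.rowOf_e hM (oneIrr G)
  rw [K.colX_one] at h0
  rw [he, if_pos (dvd_zero _)] at h1
  rw [he, if_neg (by norm_num)] at h2 h3 h4 h5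
  revert h0 h1 h2 h3 h4 h5
  rcases K.rowOf hM (oneIrr G) with ⟨a1, a2, a3, a4, a5, a6⟩
  intro h0 h1 h2 h3 h4 h5
  simp only [Row.mk.injEq]
  refine ⟨?_, ?_, ?_, ?_, ?_, ?_⟩ <;> norm_cast at *

end ints

section sums

variable [Fintype (IrrCharacter G)] {M : Ideal AlgInt} [M.IsPrime] (hM : IsPModular 2 M)
include hM

theorem real_colX (χ : IrrCharacter G) : conj (K.colX (χ : G → ℂ)) = K.colX (χ : G → ℂ) := by
  rw [← K.rowOf_c hM, map_intCast]

theorem real_colZ (χ : IrrCharacter G) : conj (K.colZ 0 (χ : G → ℂ)) = K.colZ 0 (χ : G → ℂ) := by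
  rw [← K.rowOf_z hM, map_intCast]

theorem real_coefD (χ : IrrCharacter G) (j : ℤ) : conj (K.coefD j (χ : G → ℂ)) = K.coefD j (χ : G → ℂ) := by
  obtain ⟨a, ha⟩ := K.exists_int_coefD hM χ j
  rw [ha, map_intCast]

theorem prod_XX : ∑ χ : IrrCharacter G, K.colX (χ : G → ℂ) * K.colX (χ : G → ℂ) = 16 := by
  rw [← K.colX_colX hM]; exact sum_congr rfl fun χ _ => by rw [K.real_colX hM]

theorem prod_XZ : ∑ χ : IrrCharacter G, K.colX (χ : G → ℂ) * K.colZ 0 (χ : G → ℂ) = 0 := by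
  rw [← K.colX_colZ hM 0]; exact sum_congr rfl fun χ _ => by rw [K.real_colZ hM]

theorem prod_ZZ : ∑ χ : IrrCharacter G, K.colZ 0 (χ : G → ℂ) * K.colZ 0 (χ : G → ℂ) = 320 := by
  have h := K.conj_colZ hM 0 0
  rw [if_pos (by simp), if_pos (dvd_zero _)] at h
  rw [← h]; exact sum_congr rfl fun χ _ => by rw [K.real_colZ hM]

theorem prod_XD (j : ℤ) : ∑ χ : IrrCharacter G, K.colX (χ : G → ℂ) * K.coefD j (χ : G → ℂ) = 0 := by
  rw [← K.colX_coefD hM j]; exact sum_congr rfl fun χ _ => by rw [K.real_coefD hM]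

theorem prod_ZD (j : ℤ) : ∑ χ : IrrCharacter G, K.colZ 0 (χ : G → ℂ) * K.coefD j (χ : G → ℂ) = 64 := by
  rw [← K.coefD_colZ_zero hM j]; exact sum_congr rfl fun χ _ => by rw [K.real_colZ hM]; ring

theorem prod_DD (i j : ℤ) : ∑ χ : IrrCharacter G, K.coefD i (χ : G → ℂ) * K.coefD j (χ : G → ℂ) =
    12 + if (5 : ℤ) ∣ i - j then 4 else 0 := by
  rw [← K.coefD_coefD hM i j]; exact sum_congr rfl fun χ _ => by rw [K.real_coefD hM χ j]

theorem prod_entD (i j : ℤ) : ∑ χ : IrrCharacter G, K.ent i (χ : G → ℂ) * K.coefD j (χ : G → ℂ) =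
    -4 + if (5 : ℤ) ∣ i - j then 4 else 0 := by
  rw [sum_congr rfl fun (χ : IrrCharacter G) _ => show K.ent i (χ : G → ℂ) * K.coefD j (χ : G → ℂ) =
      K.coefD i (χ : G → ℂ) * K.coefD j (χ : G → ℂ) + (K.colX (χ : G → ℂ) * K.coefD j (χ : G → ℂ)) / 4 -
        (K.colZ 0 (χ : G → ℂ) * K.coefD j (χ : G → ℂ)) / 4 by rw [ent]; ring,
    sum_sub_distrib, sum_add_distrib, ← sum_div, ← sum_div, K.prod_DD hM, K.prod_XD hM, K.prod_ZD hM]
  ring

theorem prod_entX (i : ℤ) : ∑ χ : IrrCharacter G, K.colX (χ : G → ℂ) * K.ent i (χ : G → ℂ) = 4 := by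
  rw [sum_congr rfl fun (χ : IrrCharacter G) _ => show K.colX (χ : G → ℂ) * K.ent i (χ : G → ℂ) =
      K.colX (χ : G → ℂ) * K.coefD i (χ : G → ℂ) + (K.colX (χ : G → ℂ) * K.colX (χ : G → ℂ)) / 4 -
        (K.colX (χ : G → ℂ) * K.colZ 0 (χ : G → ℂ)) / 4 by rw [ent]; ring,
    sum_sub_distrib, sum_add_distrib, ← sum_div, ← sum_div, K.prod_XD hM, K.prod_XX hM, K.prod_XZ hM]
  norm_num

theorem prod_ent (i j : ℤ) : ∑ χ : IrrCharacter G, K.ent i (χ : G → ℂ) * K.ent j (χ : G → ℂ) =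
    1 + if (5 : ℤ) ∣ i - j then 4 else 0 := by
  have hz : ∑ χ : IrrCharacter G, K.ent i (χ : G → ℂ) * K.colZ 0 (χ : G → ℂ) = -16 := by
    rw [sum_congr rfl fun (χ : IrrCharacter G) _ => show K.ent i (χ : G → ℂ) * K.colZ 0 (χ : G → ℂ) =
        K.colZ 0 (χ : G → ℂ) * K.coefD i (χ : G → ℂ) + (K.colX (χ : G → ℂ) * K.colZ 0 (χ : G → ℂ)) / 4 -
          (K.colZ 0 (χ : G → ℂ) * K.colZ 0 (χ : G → ℂ)) / 4 by rw [ent]; ring,
      sum_sub_distrib, sum_add_distrib, ← sum_div, ← sum_div, K.prod_ZD hM, K.prod_XZ hM, K.prod_ZZ hM]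
    norm_num
  rw [sum_congr rfl fun (χ : IrrCharacter G) _ => show K.ent i (χ : G → ℂ) * K.ent j (χ : G → ℂ) =
      K.ent i (χ : G → ℂ) * K.coefD j (χ : G → ℂ) + (K.colX (χ : G → ℂ) * K.ent i (χ : G → ℂ)) / 4 -
        (K.ent i (χ : G → ℂ) * K.colZ 0 (χ : G → ℂ)) / 4 by rw [ent, ent]; ring,
    sum_sub_distrib, sum_add_distrib, ← sum_div, ← sum_div, K.prod_entD hM, K.prod_entX hM, hz]
  ring

/-- The pairings with elements of odd order vanish. -/
theorem sum_col_odd (i : ℤ) :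
    (∀ k, ∑ χ : IrrCharacter G, K.colZ k (χ : G → ℂ) * (χ : G → ℂ) (K.f ^ i) = 0) ∧
      ∑ χ : IrrCharacter G, K.colX (χ : G → ℂ) * (χ : G → ℂ) (K.f ^ i) = 0 := by
  classical
  have hh : ∀ χ : IrrCharacter G, (χ : G → ℂ) (K.f ^ i) = conj ((χ : G → ℂ) (K.f ^ (-i))) := fun χ => by
    rw [conj_irr, zpow_neg, inv_inv]
  have key : ∀ (g a l : G) (N : ℕ), g * K.f ^ (-i) * g⁻¹ = a * l → Odd N → (K.f ^ (-i)) ^ N = 1 →
      (a * l) ^ N ≠ 1 → False := fun g a l N e _ h1 h2 => h2 (by rw [← e, conj_pow, h1, mul_one, mul_inv_cancel])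
  obtain ⟨N0, hN0, hN1, -⟩ := K.exists_pow_z (-i) (one_mem _)
  rw [mul_one] at hN1
  simp only [hh]
  refine ⟨fun k => ?_, ?_⟩
  · simp only [colZ]
    rw [sum_avg_conj, mul_eq_zero, Nat.cast_eq_zero, card_eq_zero, filter_eq_empty_iff]
    refine Or.inr fun g _ h => ?_
    set l := (K.z * K.f ^ k)⁻¹ * (g * K.f ^ (-i) * g⁻¹) with hl
    obtain ⟨N, hN, -, hNz⟩ := K.exists_pow_z k h
    refine key g K.z (K.f ^ k * l) (N * N0) (by rw [hl]; group) (hN.mul hN0)
      (by rw [pow_mul', hN1, one_pow]) ?_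
    obtain ⟨j, rfl⟩ := hN0
    rw [pow_mul, hNz, pow_succ, pow_mul, pow_two, K.z_sq, one_pow, one_mul]
    exact K.z_ne
  · simp only [colX]
    rw [sum_avg_conj, mul_eq_zero, Nat.cast_eq_zero, card_eq_zero, filter_eq_empty_iff]
    refine Or.inr fun g _ h => ?_
    set l := K.root⁻¹ * (g * K.f ^ (-i) * g⁻¹) with hl
    refine key g K.root l (orderOf l * N0) (by rw [hl]; group) ((K.odd_rootCore h).mul hN0)
      (by rw [pow_mul', hN1, one_pow]) ?_
    rw [(K.root_commute h).mul_pow, pow_mul l, pow_orderOf_eq_one, one_pow, mul_one]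
    intro e
    have hdvd := orderOf_dvd_of_pow_eq_one e
    rw [K.orderOf_root K.root_sq] at hdvd
    obtain ⟨j, hj⟩ := (K.odd_rootCore h).mul hN0
    omega

omit hM in
theorem ind_int (χ : IrrCharacter G) : ∃ e : ℤ, ind (χ : G → ℂ) = e ∧ -1 ≤ e ∧ e ≤ 1 ∧
    (e ≠ 0 → ∀ g, ((χ : G → ℂ) g).im = 0) ∧ (Odd (charDegree (χ : G → ℂ)) → 0 ≤ e) := by
  have hconj : ind (χ : G → ℂ) = conj ((Nat.card G : ℂ)⁻¹ * ∑ g : G, (χ : G → ℂ) (g * g)) := by
    rw [ind, map_mul, map_sum, map_inv₀, Complex.conj_natCast]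
  rcases IsIrrCharacter.fs_indicator χ.2 with ⟨-, h⟩ | ⟨hr, h | ⟨h, he⟩⟩
  · exact ⟨0, by rw [hconj, h]; simp, by norm_num, by norm_num, fun h => absurd rfl h, fun _ => le_rfl⟩
  · exact ⟨1, by rw [hconj, h]; simp, by norm_num, by norm_num, fun _ => hr, fun _ => by norm_num⟩
  · exact ⟨-1, by rw [hconj, h]; simp, by norm_num, by norm_num, fun _ => hr,
      fun ho => absurd (he _ (irr_one χ).1) (Nat.not_even_iff_odd.2 ho)⟩

theorem sum_indD (j : ℤ) : ∑ χ : IrrCharacter G, ind (χ : G → ℂ) * K.coefD j (χ : G → ℂ) = 4 := by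
  classical
  simp only [coefD, mul_sum]
  rw [sum_comm]
  have hk : ∀ k ∈ range 5, ∑ χ : IrrCharacter G, ind (χ : G → ℂ) * ((5 : ℂ)⁻¹ * (ω ^ (-(j * (k : ℤ))) * K.colZ k (χ : G → ℂ))) =
      if k = 0 then 4 else 0 := by
    intro k hk
    rw [sum_congr rfl fun (χ : IrrCharacter G) _ => show ind (χ : G → ℂ) * ((5 : ℂ)⁻¹ * (ω ^ (-(j * (k : ℤ))) * K.colZ k (χ : G → ℂ))) =
      ((5 : ℂ)⁻¹ * ω ^ (-(j * (k : ℤ)))) * (K.colZ k (χ : G → ℂ) * ind (χ : G → ℂ)) by ring, ← mul_sum,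
      K.sum_colZ_ind]
    by_cases h0 : k = 0
    · subst h0; norm_num
    · have := mem_range.1 hk
      rw [if_neg (by omega), if_neg h0, mul_zero]
  rw [sum_congr rfl hk, sum_ite_eq', if_pos (mem_range.2 (by norm_num : 0 < 5))]

theorem sum_ind_ent (j : ℤ) : ∑ χ : IrrCharacter G, ind (χ : G → ℂ) * K.ent j (χ : G → ℂ) = -1 := by
  rw [sum_congr rfl fun (χ : IrrCharacter G) _ => show ind (χ : G → ℂ) * K.ent j (χ : G → ℂ) =
      ind (χ : G → ℂ) * K.coefD j (χ : G → ℂ) + (K.colX (χ : G → ℂ) * ind (χ : G → ℂ)) / 4 -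
        (K.colZ 0 (χ : G → ℂ) * ind (χ : G → ℂ)) / 4 by rw [ent]; ring,
    sum_sub_distrib, sum_add_distrib, ← sum_div, ← sum_div, K.sum_indD hM, K.sum_colX_ind,
    K.sum_colZ_ind, if_pos (dvd_zero _)]
  norm_num

/-- Integral combinations of the row cannot be all even on a witness. -/
theorem not_all_even {x : Row} (hx : x ∈ witnesses)
    (heven : ∀ χ : IrrCharacter G, (2 : ℤ) ∣ x.c * (K.rowOf hM χ).c + x.p * (K.rowOf hM χ).p +
      x.a * (K.rowOf hM χ).a + x.b * (K.rowOf hM χ).b + x.d * (K.rowOf hM χ).d + x.e * (K.rowOf hM χ).e) :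
    False := by
  classical
  choose F hF using heven
  set N := orderOf K.f
  set E : IrrCharacter G → ℂ := fun χ =>
    (N : ℂ)⁻¹ * ∑ i ∈ range N, ω ^ (-(3 * (i : ℤ))) * (χ : G → ℂ) (K.f ^ (i : ℤ))
  have hFc : ∀ χ : IrrCharacter G, (2 : ℂ) * (F χ : ℂ) = x.c * K.colX (χ : G → ℂ) + x.p * K.ent 0 (χ : G → ℂ) +
      x.a * K.ent 1 (χ : G → ℂ) + x.b * K.ent 2 (χ : G → ℂ) + x.d * K.ent 4 (χ : G → ℂ) +
        x.e * K.ent 3 (χ : G → ℂ) := fun χ => by
    have := congrArg (fun a : ℤ => (a : ℂ)) (hF χ)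
    push_cast at this
    rw [K.rowOf_c, K.rowOf_p, K.rowOf_a, K.rowOf_b, K.rowOf_d, K.rowOf_e] at this
    exact this.symm
  -- the pairing with `coefD 3`
  have hD : ∑ χ : IrrCharacter G, (2 : ℂ) * ((F χ : ℂ) * K.coefD 3 (χ : G → ℂ)) =
      -4 * ((x.p : ℂ) + x.a + x.b + x.d) := by
    simp only [← mul_assoc, hFc, add_mul, sum_add_distrib]
    simp only [mul_assoc, ← mul_sum, K.prod_XD hM, K.prod_entD hM]
    norm_num
    ring
  -- the pairing with the elements of odd order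
  have hE : ∀ i : ℤ, ∑ χ : IrrCharacter G, (2 : ℂ) * ((F χ : ℂ) * (χ : G → ℂ) (K.f ^ i)) = 0 := by
    intro i
    obtain ⟨hz, hx0⟩ := K.sum_col_odd hM i
    have he : ∀ j, ∑ χ : IrrCharacter G, K.ent j (χ : G → ℂ) * (χ : G → ℂ) (K.f ^ i) = 0 := fun j => by
      rw [sum_congr rfl fun (χ : IrrCharacter G) _ => show K.ent j (χ : G → ℂ) * (χ : G → ℂ) (K.f ^ i) =
          K.coefD j (χ : G → ℂ) * (χ : G → ℂ) (K.f ^ i) + (K.colX (χ : G → ℂ) * (χ : G → ℂ) (K.f ^ i)) / 4 -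
            (K.colZ 0 (χ : G → ℂ) * (χ : G → ℂ) (K.f ^ i)) / 4 by rw [ent]; ring,
        sum_sub_distrib, sum_add_distrib, ← sum_div, ← sum_div, hx0, hz]
      simp only [coefD, mul_assoc, sum_mul, ← mul_sum]
      rw [sum_comm, sum_congr rfl fun k _ => by rw [← mul_sum, hz, mul_zero]]
      simp
    simp only [← mul_assoc, hFc, add_mul, sum_add_distrib]
    simp only [mul_assoc, ← mul_sum, hx0, he]
    ring
  have hEsum : ∑ χ : IrrCharacter G, (2 : ℂ) * ((F χ : ℂ) * E χ) = 0 := by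
    simp only [E, mul_sum]
    rw [sum_comm]
    refine sum_eq_zero fun i _ => ?_
    rw [sum_congr rfl fun (χ : IrrCharacter G) _ => show (2 : ℂ) * ((F χ : ℂ) * ((N : ℂ)⁻¹ * (ω ^ (-(3 * (i : ℤ))) * (χ : G → ℂ) (K.f ^ (i : ℤ))))) =
      ((N : ℂ)⁻¹ * ω ^ (-(3 * (i : ℤ)))) * ((2 : ℂ) * ((F χ : ℂ) * (χ : G → ℂ) (K.f ^ (i : ℤ)))) by ring,
      ← mul_sum, hE, mul_zero]
  have hn : ∀ χ : IrrCharacter G, ∃ n : ℤ, (F χ : ℂ) * (E χ + 3 * K.coefD 3 (χ : G → ℂ)) = (F χ : ℂ) * (4 * n) := by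
    intro χ
    by_cases hχ : χ ∈ principalBlock M G
    · obtain ⟨n, -, h, -⟩ := K.exists_mult_coefD hM hχ 3
      exact ⟨n, by rw [Int.cast_natCast, ← h]⟩
    · have h0 : F χ = 0 := by
        have h2 := hFc χ
        have hv : ∀ k, K.colZ k (χ : G → ℂ) = 0 := fun k => K.colZ_zero hM k hχ
        simp [ent, coefD, hv, K.colX_zero hM hχ] at h2
        exact h2
      exact ⟨0, by simp [h0]⟩
  choose n hn using hn
  have htot : ∑ χ : IrrCharacter G, (2 : ℂ) * ((F χ : ℂ) * (E χ + 3 * K.coefD 3 (χ : G → ℂ))) =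
      ((8 * ∑ χ : IrrCharacter G, F χ * n χ : ℤ) : ℂ) := by
    push_cast
    rw [mul_sum]
    exact sum_congr rfl fun χ _ => by rw [hn χ]; ring
  rw [sum_congr rfl fun (χ : IrrCharacter G) _ => show (2 : ℂ) * ((F χ : ℂ) * (E χ + 3 * K.coefD 3 (χ : G → ℂ))) =
    (2 : ℂ) * ((F χ : ℂ) * E χ) + 3 * ((2 : ℂ) * ((F χ : ℂ) * K.coefD 3 (χ : G → ℂ))) by ring,
    sum_add_distrib, hEsum, zero_add, ← mul_sum, hD] at htot
  have hint : (3 : ℤ) * (-4 * (x.p + x.a + x.b + x.d)) = 8 * ∑ χ : IrrCharacter G, F χ * n χ := by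
    exact_mod_cast htot
  simp only [witnesses, List.mem_cons, List.not_mem_nil, or_false] at hx
  rcases hx with rfl | rfl | rfl <;> simp only at hint <;> omega

end sums

/-- In a simple group `w` centralises `O(C(z))`. -/
theorem core_le [IsSimpleGroup G] : coreCent K.z ≤ Subgroup.centralizer ({K.w} : Set G) := by
  classical
  by_contra hne
  obtain ⟨M, hM⟩ := exists_isPModular Nat.prime_two
  haveI := hM.2.1.isPrime
  letI := irrFintype (G := G)
  set R := K.rowOf hM with hR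
  let P : IrrCharacter G → Prop := fun χ => χ ≠ oneIrr G ∧ ¬((R χ).c = 0 ∧ (R χ).A = 0)
  let ι := {χ : IrrCharacter G // P χ}
  have hone : R (oneIrr G) = ⟨1, 1, 0, 0, 0, 0⟩ := K.rowOf_one hM
  have hmem : ∀ i : ι, (i : IrrCharacter G) ∈ principalBlock M G := fun i => K.rowOf_mem hM i i.2.2
  -- sums over the rows
  have hsum : ∀ {A : Type} [AddCommGroup A] (F : IrrCharacter G → A),
      (∀ χ, R χ = ⟨0, 0, 0, 0, 0, 0⟩ → F χ = 0) → ∑ i : ι, F i = ∑ χ, F χ - F (oneIrr G) := by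
    intro A _ F hF
    rw [← sum_subtype (univ.filter P) (fun χ => by simp) F, eq_sub_iff_add_eq, sum_filter,
      ← sum_erase_add univ F (mem_univ (oneIrr G)), ← sum_erase_add univ _ (mem_univ (oneIrr G)),
      if_neg (fun h => h.1 rfl), add_zero]
    congr 1
    refine sum_congr rfl fun χ hχ => ?_
    by_cases h : (R χ).c = 0 ∧ (R χ).A = 0
    · rw [if_neg (fun h' => h'.2 h), hF χ (K.rowOf_degenerate hM χ h)]
    · rw [if_pos ⟨(mem_erase.1 hχ).1, h⟩]
  choose nI hn0 hndeg using fun i : ι => K.exists_deg hM i (hmem i)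
  choose ν hν hν1 hν2 hνreal hνodd using fun χ : IrrCharacter G => ind_int χ
  have hνone : ν (oneIrr G) = 1 := by
    have h := hν (oneIrr G)
    simp only [ind, oneIrr_apply, map_one, sum_const, Finset.card_univ, nsmul_eq_mul, mul_one] at h
    rw [← Nat.card_eq_fintype_card, inv_mul_cancel₀ (Nat.cast_ne_zero.2 Nat.card_pos.ne')] at h
    exact_mod_cast h.symm
  have hdeg : ∀ i : ι, (((R i).deg (nI i) : ℤ) : ℂ) = (i.1 : G → ℂ) 1 := fun i => by
    rw [hndeg, Int.cast_natCast, (irr_one i.1).1]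
  -- the Galois twist
  obtain ⟨s, hcop, h4, h5⟩ : ∃ s : ℕ, s.Coprime (Nat.card G) ∧ s % 4 = 1 ∧ s % 5 = 2 := by
    haveI : Fact (Nat.Prime 5) := ⟨by norm_num⟩
    set a := (Nat.card G).factorization 5
    set m := Nat.card G / 5 ^ a
    have hm5 : Nat.Coprime (5 ^ a) m := (Nat.coprime_ordCompl (by norm_num) Nat.card_pos.ne').pow_left a
    have hmul : 5 ^ a * m = Nat.card G := Nat.ordProj_mul_ordCompl_eq_self _ 5
    have ha : 5 ∣ 5 ^ a := dvd_pow_self 5 ((Nat.Prime.factorization_pos_of_dvd (by norm_num) Nat.card_pos.ne'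
      (K.five_dvd_orderOf.trans (orderOf_dvd_natCard K.f))).ne')
    have h4m : 4 ∣ m := by
      have h := (show 4 ∣ Nat.card (K.S : Subgroup G) by rw [K.card_S]; norm_num).trans
        (Subgroup.card_subgroup_dvd_card _)
      rw [← hmul] at h
      exact (Nat.Coprime.pow_right a (by norm_num)).dvd_of_dvd_mul_left h
    obtain ⟨s, hs1, hs2⟩ := Nat.chineseRemainder hm5 2 1
    have hs5 : s % 5 = 2 := hs1.of_dvd ha
    refine ⟨s, ?_, hs2.of_dvd h4m, hs5⟩
    rw [← hmul]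
    refine Nat.Coprime.mul_right (Nat.Coprime.pow_right a ?_) ?_
    · exact ((Nat.Prime.coprime_iff_not_dvd (by norm_num)).2 (by omega)).symm
    · rw [Nat.Coprime, Nat.ModEq.gcd_eq hs2, Nat.gcd_one_left]
  let tw : IrrCharacter G → IrrCharacter G := fun χ =>
    ⟨fun g => (χ : G → ℂ) (g ^ s), PowTwist.isIrrCharacter_pow hcop χ.2⟩
  have htwinj : Function.Injective tw := fun χ ψ h => Subtype.ext (funext fun g => by
    obtain ⟨y, rfl⟩ := (powCoprime (G := G) hcop.symm).surjective g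
    exact congrFun (congrArg Subtype.val h) y)
  have hX : ∀ χ, K.colX (tw χ : G → ℂ) = K.colX (χ : G → ℂ) := fun χ => K.colX_pow hcop h4 _
  have hE : ∀ χ (j : ℤ), K.ent j (tw χ : G → ℂ) = K.ent (3 * j) (χ : G → ℂ) := fun χ j => by
    simp only [ent, tw]
    rw [K.coefD_pow hcop h4 h5, K.colX_pow hcop h4, K.colZ_pow hcop h4 h5, mul_zero]
  have hcongr : ∀ {i j : ℤ}, (5 : ℤ) ∣ i - j → ∀ χ, K.ent i χ = K.ent j χ := fun h χ => by
    rw [ent, ent, K.coefD_congr h]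
  have hrot : ∀ χ, R (tw χ) = (R χ).rot := by
    intro χ
    have e0 : (R (tw χ)).c = (R χ).c := by
      exact_mod_cast (K.rowOf_c hM _).trans ((hX χ).trans (K.rowOf_c hM χ).symm)
    have e1 : (R (tw χ)).p = (R χ).p := by
      exact_mod_cast (K.rowOf_p hM _).trans (((hE χ 0).trans (by rw [mul_zero])).trans (K.rowOf_p hM χ).symm)
    have e2 : (R (tw χ)).a = (R χ).e := by
      exact_mod_cast (K.rowOf_a hM _).trans (((hE χ 1).trans (by rw [mul_one])).trans (K.rowOf_e hM χ).symm)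
    have e3 : (R (tw χ)).b = (R χ).a := by
      exact_mod_cast (K.rowOf_b hM _).trans (((hE χ 2).trans (hcongr (by norm_num) _)).trans (K.rowOf_a hM χ).symm)
    have e4 : (R (tw χ)).d = (R χ).b := by
      exact_mod_cast (K.rowOf_d hM _).trans (((hE χ 4).trans (hcongr (by norm_num) _)).trans (K.rowOf_b hM χ).symm)
    have e5 : (R (tw χ)).e = (R χ).d := by
      exact_mod_cast (K.rowOf_e hM _).trans (((hE χ 3).trans (hcongr (by norm_num) _)).trans (K.rowOf_d hM χ).symm)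
    revert e0 e1 e2 e3 e4 e5
    rcases R (tw χ) with ⟨a1, a2, a3, a4, a5, a6⟩
    rintro rfl rfl rfl rfl rfl rfl
    rfl
  have htwone : tw (oneIrr G) = oneIrr G := Subtype.ext rfl
  let twι : ι → ι := fun i => ⟨tw i, fun h => i.2.1 (htwinj (h.trans htwone.symm)), by
    rw [hrot]
    unfold Row.A
    rw [Row.S_rot]
    exact i.2.2⟩
  have htwbij : Function.Bijective twι := Finite.injective_iff_bijective.1 fun i j h =>
    Subtype.ext (htwinj (congrArg Subtype.val h))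
  have hbound : ∀ i : ι, 64 ≤ (R i).deg (nI i) + 3 * (R i).z ∧ 64 ≤ (R i).deg (nI i) - (R i).z := by
    intro i
    obtain ⟨b1, b2⟩ := K.bounds hne hM (hmem i) i.2.1
    have ht : ((R i).z : ℂ) = (i.1 : G → ℂ) K.z := by
      rw [K.rowOf_z, K.colZ_principal hM 0 (hmem i), zpow_zero, mul_one]
    rw [← ht, ← hdeg i] at b1 b2
    constructor
    · have : ((64 : ℤ) : ℝ) ≤ (((R i).deg (nI i) + 3 * (R i).z : ℤ) : ℝ) := by
        simpa using b1
      exact_mod_cast this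
    · have : ((64 : ℤ) : ℝ) ≤ (((R i).deg (nI i) - (R i).z : ℤ) : ℝ) := by
        simpa using b2
      exact_mod_cast this
  have hgram : ∀ (u v : Row → ℤ) (U V : (G → ℂ) → ℂ) (r : ℤ),
      (∀ χ : IrrCharacter G, (u (R χ) : ℂ) = U χ) → (∀ χ : IrrCharacter G, (v (R χ) : ℂ) = V χ) →
      (∑ χ : IrrCharacter G, U χ * V χ = r) → ∑ χ : IrrCharacter G, u (R χ) * v (R χ) = r := by
    intro u v U V r hu hv h
    have : ((∑ χ : IrrCharacter G, u (R χ) * v (R χ) : ℤ) : ℂ) = (r : ℂ) := by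
      push_cast; simp only [hu, hv]; exact h
    exact_mod_cast this
  have hXe : ∀ (j : ℤ) (v : Row → ℤ), (∀ χ : IrrCharacter G, (v (R χ) : ℂ) = K.ent j (χ : G → ℂ)) →
      ∑ χ : IrrCharacter G, (R χ).c * v (R χ) = 4 := fun j v hv =>
    hgram (·.c) v K.colX (K.ent j) 4 (K.rowOf_c hM) hv (by rw [K.prod_entX hM]; norm_num)
  have hee : ∀ (i j : ℤ) (u v : Row → ℤ), (∀ χ : IrrCharacter G, (u (R χ) : ℂ) = K.ent i (χ : G → ℂ)) →
      (∀ χ : IrrCharacter G, (v (R χ) : ℂ) = K.ent j (χ : G → ℂ)) →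
      ∑ χ : IrrCharacter G, u (R χ) * v (R χ) = 1 + if (5 : ℤ) ∣ i - j then 4 else 0 := fun i j u v hu hv =>
    hgram u v (K.ent i) (K.ent j) _ hu hv (by rw [K.prod_ent hM]; split_ifs <;> norm_num)
  have gcc : ∑ χ : IrrCharacter G, (R χ).c * (R χ).c = 16 :=
    hgram (·.c) (·.c) K.colX K.colX 16 (K.rowOf_c hM) (K.rowOf_c hM) (by rw [K.prod_XX hM]; norm_num)
  have gcp := hXe 0 (·.p) (K.rowOf_p hM)
  have gca := hXe 1 (·.a) (K.rowOf_a hM)
  have gcb := hXe 2 (·.b) (K.rowOf_b hM)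
  have gcd' := hXe 4 (·.d) (K.rowOf_d hM)
  have gce := hXe 3 (·.e) (K.rowOf_e hM)
  have gpp := hee 0 0 (·.p) (·.p) (K.rowOf_p hM) (K.rowOf_p hM)
  have gpa := hee 0 1 (·.p) (·.a) (K.rowOf_p hM) (K.rowOf_a hM)
  have gpb := hee 0 2 (·.p) (·.b) (K.rowOf_p hM) (K.rowOf_b hM)
  have gpd := hee 0 4 (·.p) (·.d) (K.rowOf_p hM) (K.rowOf_d hM)
  have gpe := hee 0 3 (·.p) (·.e) (K.rowOf_p hM) (K.rowOf_e hM)
  have gaa := hee 1 1 (·.a) (·.a) (K.rowOf_a hM) (K.rowOf_a hM)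
  have gbb := hee 2 2 (·.b) (·.b) (K.rowOf_b hM) (K.rowOf_b hM)
  have gdd := hee 4 4 (·.d) (·.d) (K.rowOf_d hM) (K.rowOf_d hM)
  have gee := hee 3 3 (·.e) (·.e) (K.rowOf_e hM) (K.rowOf_e hM)
  have gab := hee 1 2 (·.a) (·.b) (K.rowOf_a hM) (K.rowOf_b hM)
  have gbd := hee 2 4 (·.b) (·.d) (K.rowOf_b hM) (K.rowOf_d hM)
  have gde := hee 4 3 (·.d) (·.e) (K.rowOf_d hM) (K.rowOf_e hM)
  have gea := hee 3 1 (·.e) (·.a) (K.rowOf_e hM) (K.rowOf_a hM)
  have gad := hee 1 4 (·.a) (·.d) (K.rowOf_a hM) (K.rowOf_d hM)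
  have gbe := hee 2 3 (·.b) (·.e) (K.rowOf_b hM) (K.rowOf_e hM)
  norm_num at gpp gpa gpb gpd gpe gaa gbb gdd gee gab gbd gde gea gad gbe
  -- the degree equations
  have hT : ∀ χ : IrrCharacter G, ((R χ).z : ℂ) * (R χ).z / (χ : G → ℂ) 1 * ((R χ).c : ℂ) =
      K.colX (χ : G → ℂ) * ((χ : G → ℂ) K.z * (χ : G → ℂ) K.z / (χ : G → ℂ) 1) := fun χ => by
    by_cases hχ : χ ∈ principalBlock M G
    · rw [K.rowOf_z, K.rowOf_c, K.colZ_principal hM 0 hχ, zpow_zero, mul_one]; ring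
    · rw [K.rowOf_c, K.colX_zero hM hχ, zero_mul, mul_zero]
  have hTa : ∀ χ : IrrCharacter G, ((R χ).z : ℂ) * (R χ).z / (χ : G → ℂ) 1 * (4 * ((R χ).p : ℂ) - (R χ).S) =
      (K.colZ 1 (χ : G → ℂ) + K.colZ 2 (χ : G → ℂ) + K.colZ 3 (χ : G → ℂ) + K.colZ 4 (χ : G → ℂ)) *
        ((χ : G → ℂ) K.z * (χ : G → ℂ) K.z / (χ : G → ℂ) 1) := fun χ => by
    have hcomb : 4 * ((R χ).p : ℂ) - (R χ).S =
        K.colZ 1 (χ : G → ℂ) + K.colZ 2 (χ : G → ℂ) + K.colZ 3 (χ : G → ℂ) + K.colZ 4 (χ : G → ℂ) := by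
      have h0 : 5 * K.coefD 0 (χ : G → ℂ) = K.colZ 0 (χ : G → ℂ) + K.colZ 1 (χ : G → ℂ) +
          K.colZ 2 (χ : G → ℂ) + K.colZ 3 (χ : G → ℂ) + K.colZ 4 (χ : G → ℂ) := by
        simp [coefD, sum_range_succ]
      have hs := K.sum_coefD (χ : G → ℂ)
      simp only [sum_range_succ, sum_range_zero, zero_add, Nat.cast_zero, Nat.cast_one, Nat.cast_ofNat] at hs
      simp only [Row.S]
      push_cast
      rw [K.rowOf_p, K.rowOf_a, K.rowOf_b, K.rowOf_d, K.rowOf_e]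
      simp only [ent]
      linear_combination h0 - hs
    by_cases hχ : χ ∈ principalBlock M G
    · rw [hcomb, K.rowOf_z, K.colZ_principal hM 0 hχ, zpow_zero, mul_one]; ring
    · rw [hcomb, K.colZ_zero hM 1 hχ, K.colZ_zero hM 2 hχ, K.colZ_zero hM 3 hχ, K.colZ_zero hM 4 hχ]; ring
  refine RowData.false
    { row := fun i : ι => R i
      n := nI
      ν := fun i => ν i
      π := Equiv.ofBijective twι htwbij
      row_π := fun i => hrot i
      n_π := fun i => by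
        have h1 := hndeg (twι i)
        rw [show K.rowOf hM ((twι i : ι) : IrrCharacter G) = (K.rowOf hM i.1).rot from hrot i, Row.deg_rot,
          show charDegree ((twι i : ι) : IrrCharacter G).1 = charDegree (i.1 : G → ℂ) by
            simp only [charDegree, twι, tw, one_pow], ← hndeg i] at h1
        show nI (twι i) = nI i
        unfold Row.deg at h1
        omega
      nonzero := fun i => i.2.2
      gram := fun f => by
        rw [hsum (fun χ => f.dot (Inv.ofRow 1 (R χ))) (fun χ h => by simp [h, Inv.dot, Inv.ofRow, Row.S]), hone]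
        simp only [Inv.dot, Inv.ofRow, Row.S, target, one_mul, mul_add, sum_add_distrib, ← mul_sum]
        rw [gcc, gcp, gca, gcb, gcd', gce, gpp, gpa, gpb, gpd, gpe, gaa, gbb, gdd, gee, gab, gbd, gde, gea,
          gad, gbe]
        ring
      sat := fun x hx htriv => by
        by_contra hall
        push Not at hall
        refine K.not_all_even hM hx fun χ => ?_
        have key : ∀ r : Row, x.evenTest r = true → (2 : ℤ) ∣ x.c * r.c + x.p * r.p + x.a * r.a +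
            x.b * r.b + x.d * r.d + x.e * r.e := fun r h => by
          simp only [Row.evenTest, Bool.and_eq_true, decide_eq_true_eq] at h
          exact Int.dvd_of_emod_eq_zero h.1.1.1
        by_cases h1 : χ = oneIrr G
        · rw [h1, K.rowOf_one hM]; exact key _ htriv
        by_cases hd : (R χ).c = 0 ∧ (R χ).A = 0
        · rw [K.rowOf_degenerate hM χ hd]; simp
        · exact key _ (by simpa using hall ⟨χ, h1, hd⟩)
      adm := fun i => by
        obtain ⟨b1, b2⟩ := hbound i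
        have b0 := hn0 i
        have hd0 : 0 < (R i).deg (nI i) := by
          rw [hndeg]; exact_mod_cast (irr_one i.1).2
        simp only [Row.adm, Bool.and_eq_true, decide_eq_true_eq]
        have hsq : (R i).z * (R i).z ≤ (R i).deg (nI i) * (R i).deg (nI i) := by
          nlinarith
        unfold Row.deg Row.z at b1 b2
        refine ⟨⟨⟨⟨⟨b0, ?_⟩, ?_⟩, ?_⟩, hd0⟩, hsq⟩ <;> omega
      deg_c := ?_
      deg_a := ?_
      ν_abs := fun i => ⟨hν1 i, hν2 i⟩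
      ν_odd := fun i hc => hνodd i (by
        have h16 := K.dvd_degree_sub (IsIrrCharacter.isCharacter i.1.2)
          (d := (charDegree (i.1 : G → ℂ) : ℤ)) (a := (R i).z) (by rw [(irr_one i.1).1, Int.cast_natCast])
          (by rw [K.rowOf_z, K.colZ_principal hM 0 (hmem i), zpow_zero, mul_one])
        rw [← hndeg i] at h16
        have hd := hndeg i
        rw [Nat.odd_iff]
        unfold Row.deg Row.z at *
        omega)
      ν_moved := fun i hf => by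
        by_contra h0
        have hreal := hνreal i h0
        have e1 : (R i).a = (R i).d := by
          have h := K.coefD_neg hM hreal 1
          rw [K.coefD_congr (i := -1) (j := 4) (by norm_num)] at h
          have : ((R i).a : ℂ) = (R i).d := by rw [K.rowOf_a, K.rowOf_d, ent, ent, h]
          exact_mod_cast this
        have e2 : (R i).b = (R i).e := by
          have h := K.coefD_neg hM hreal 2
          rw [K.coefD_congr (i := -2) (j := 3) (by norm_num)] at h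
          have : ((R i).b : ℂ) = (R i).e := by rw [K.rowOf_b, K.rowOf_e, ent, ent, h]
          exact_mod_cast this
        simp [Row.fixed, e1, e2] at hf
      ν_c := ?_
      ν_p := ?_
      ν_S := ?_ }
  · apply Rat.cast_injective (α := ℂ)
    push_cast
    rw [sum_congr rfl fun (i : ι) _ => show ((R i).c : ℂ) * ((R i).z * (R i).z) / ((R i).deg (nI i) : ℂ) =
        ((R i).z : ℂ) * (R i).z / (i.1 : G → ℂ) 1 * ((R i).c : ℂ) by rw [hdeg]; ring,
      hsum (fun χ => ((R χ).z : ℂ) * (R χ).z / (χ : G → ℂ) 1 * ((R χ).c : ℂ)) (fun χ h => by simp [h]),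
      sum_congr rfl fun χ _ => hT χ, K.sum_colX_square, hone, oneIrr_apply]
    norm_num [Row.z, Row.A, Row.S]
  · apply Rat.cast_injective (α := ℂ)
    push_cast
    rw [sum_congr rfl fun (i : ι) _ => show (4 * ((R i).p : ℂ) - (R i).S) * ((R i).z * (R i).z) / ((R i).deg (nI i) : ℂ) =
        ((R i).z : ℂ) * (R i).z / (i.1 : G → ℂ) 1 * (4 * ((R i).p : ℂ) - (R i).S) by rw [hdeg]; ring,
      hsum (fun χ => ((R χ).z : ℂ) * (R χ).z / (χ : G → ℂ) 1 * (4 * ((R χ).p : ℂ) - (R χ).S))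
        (fun χ h => by simp [h, Row.S]),
      sum_congr rfl fun χ _ => hTa χ]
    simp only [add_mul, sum_add_distrib]
    rw [K.sum_colZ_square (k := 1) (by norm_num), K.sum_colZ_square (k := 2) (by norm_num),
      K.sum_colZ_square (k := 3) (by norm_num), K.sum_colZ_square (k := 4) (by norm_num), hone, oneIrr_apply]
    norm_num [Row.z, Row.A, Row.S]
  · show ∑ i : ι, ν i * (R i).c = -1
    rw [hsum (fun χ => ν χ * (R χ).c) (fun χ h => by simp [h]), hone, hνone]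
    have h : ((∑ χ : IrrCharacter G, ν χ * (R χ).c : ℤ) : ℂ) = ((0 : ℤ) : ℂ) := by
      push_cast
      rw [← K.sum_colX_ind]
      exact sum_congr rfl fun χ _ => by rw [← hν, K.rowOf_c]; ring
    rw [show ∑ χ : IrrCharacter G, ν χ * (R χ).c = 0 by exact_mod_cast h]
    norm_num
  · show ∑ i : ι, ν i * (R i).p = -2
    rw [hsum (fun χ => ν χ * (R χ).p) (fun χ h => by simp [h]), hone, hνone]
    have h : ((∑ χ : IrrCharacter G, ν χ * (R χ).p : ℤ) : ℂ) = ((-1 : ℤ) : ℂ) := by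
      push_cast
      rw [← K.sum_ind_ent hM 0]
      exact sum_congr rfl fun χ _ => by rw [← hν, K.rowOf_p]
    rw [show ∑ χ : IrrCharacter G, ν χ * (R χ).p = -1 by exact_mod_cast h]
    norm_num
  · show ∑ i : ι, ν i * (R i).S = -4
    rw [hsum (fun χ => ν χ * (R χ).S) (fun χ h => by simp [h, Row.S]), hone, hνone]
    have h : ((∑ χ : IrrCharacter G, ν χ * (R χ).S : ℤ) : ℂ) = ((-4 : ℤ) : ℂ) := by
      have ea : ∀ χ, ((R χ).a : ℂ) = K.ent 1 (χ : G → ℂ) := K.rowOf_a hM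
      have eb : ∀ χ, ((R χ).b : ℂ) = K.ent 2 (χ : G → ℂ) := K.rowOf_b hM
      have ed : ∀ χ, ((R χ).d : ℂ) = K.ent 4 (χ : G → ℂ) := K.rowOf_d hM
      have ee : ∀ χ, ((R χ).e : ℂ) = K.ent 3 (χ : G → ℂ) := K.rowOf_e hM
      simp only [Row.S, mul_add, sum_add_distrib]
      push_cast
      simp only [← hν, ea, eb, ed, ee, K.sum_ind_ent hM]
      norm_num
    rw [show ∑ χ : IrrCharacter G, ν χ * (R χ).S = -4 by exact_mod_cast h]
    norm_num [Row.S]

end CfsgLib.U34Sylow.Ctx
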