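import Cfsg.Agent.U3Type.Local
import Cfsg.Agent.S0205
import Cfsg.Agent.S0217
import Cfsg.Agent.Invol.StrongEmbedded
import Cfsg.Agent.ZStar.Final
import Mathlib.GroupTheory.Transfer

/-!
Groups with a Sylow 2-subgroup of type U₃(4) whose involutions are central modulo the odd core:
such a group is `O(X) N(S)`.
-/

set_option autoImplicit false
set_option linter.unusedSectionVars false
set_option linter.style.haveILetI false

namespace CfsgLib.U34Sylow

open Subgroup CfsgLib.U3Type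
open scoped Pointwise

universe u

variable {X : Type u} [Group X] [Finite X]

/-- An element normalizing a Sylow 2-subgroup is a 2-element of it times an element of odd order. -/
theorem exists_parts (S : Sylow 2 X) {n : X} (hn : n ∈ normalizer ((S : Subgroup X) : Set X)) :
    ∃ s ∈ (S : Subgroup X), ∃ m ∈ normalizer ((S : Subgroup X) : Set X),
      Odd (orderOf m) ∧ n = s * m ∧ ∀ c : X, Commute c n → Commute c m := by
  haveI : Fact (Nat.Prime 2) := ⟨Nat.prime_two⟩
  obtain ⟨i, r, hr, ho⟩ := Nat.exists_eq_two_pow_mul_odd (orderOf_pos n).ne'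
  have hco : Nat.Coprime (2 ^ i) r := (Nat.coprime_two_left.2 hr).pow_left i
  have hbez : ((2 ^ i : ℕ) : ℤ) * Nat.gcdA (2 ^ i) r + (r : ℤ) * Nat.gcdB (2 ^ i) r = 1 := by
    rw [← Nat.gcd_eq_gcd_ab, hco, Nat.cast_one]
  set a := Nat.gcdA (2 ^ i) r
  set b := Nat.gcdB (2 ^ i) r
  have hs : (n ^ ((r : ℤ) * b)) ^ (2 ^ i) = 1 := by
    rw [← zpow_natCast, ← zpow_mul, show (r : ℤ) * b * ((2 ^ i : ℕ) : ℤ) = (orderOf n : ℤ) * b by
      rw [ho]; push_cast; ring, zpow_mul, zpow_natCast, pow_orderOf_eq_one, one_zpow]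
  have hm : (n ^ (((2 ^ i : ℕ) : ℤ) * a)) ^ r = 1 := by
    rw [← zpow_natCast, ← zpow_mul, show ((2 ^ i : ℕ) : ℤ) * a * (r : ℤ) = (orderOf n : ℤ) * a by
      rw [ho]; push_cast; ring, zpow_mul, zpow_natCast, pow_orderOf_eq_one, one_zpow]
  refine ⟨n ^ ((r : ℤ) * b), ?_, n ^ (((2 ^ i : ℕ) : ℤ) * a), zpow_mem hn _,
    hr.of_dvd_nat (orderOf_dvd_of_pow_eq_one hm), ?_, fun c hc => hc.zpow_right _⟩
  · have hz : IsPGroup 2 (zpowers (n ^ ((r : ℤ) * b))) := by
      obtain ⟨j, -, hj⟩ := (Nat.dvd_prime_pow Nat.prime_two).1 (orderOf_dvd_of_pow_eq_one hs)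
      exact IsPGroup.of_card (n := j) (by rw [Nat.card_zpowers, hj])
    rw [← S.3 (hz.to_sup_of_normal_right' S.2 (zpowers_le.2 (zpow_mem hn _))) le_sup_right]
    exact mem_sup_left (mem_zpowers _)
  · rw [← zpow_add, add_comm, hbez, zpow_one]

/-- An element of odd order moving `y` by an involution it centralizes fixes `y`. -/
theorem commute_of_fix {m y : X} (hm : Odd (orderOf m))
    (hu2 : m * y * m⁻¹ * y⁻¹ * (m * y * m⁻¹ * y⁻¹) = 1)
    (hum : Commute m (m * y * m⁻¹ * y⁻¹)) : Commute m y := by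
  set u := m * y * m⁻¹ * y⁻¹ with hu
  have hmy : m * y * m⁻¹ = u * y := by rw [hu, inv_mul_cancel_right]
  have hpow : ∀ j : ℕ, m ^ j * y * (m ^ j)⁻¹ = u ^ j * y := by
    intro j
    induction j with
    | zero => simp
    | succ j ih =>
      calc m ^ (j + 1) * y * (m ^ (j + 1))⁻¹ = m * (m ^ j * y * (m ^ j)⁻¹) * m⁻¹ := by
            rw [pow_succ']; group
        _ = m * u ^ j * y * m⁻¹ := by rw [ih]; group
        _ = u ^ j * (m * y * m⁻¹) := by rw [(hum.pow_right j).eq]; group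
        _ = u ^ (j + 1) * y := by rw [hmy, ← mul_assoc, ← pow_succ]
  have h1 := hpow (orderOf m)
  rw [pow_orderOf_eq_one, one_mul, inv_one, mul_one, right_eq_mul] at h1
  have h2 : u = 1 := Bender.Consumers.eq_one_of_two_of_odd (i := 1)
    (hm.of_dvd_nat (orderOf_dvd_of_pow_eq_one h1)) (by rw [pow_one, sq, hu2])
  rw [h2, one_mul] at hmy
  exact mul_inv_eq_iff_eq_mul.1 hmy

/-- An element of odd order commuting with the square commutes. -/
theorem commute_of_sq {m y : X} (hm : Odd (orderOf m)) (h : Commute (m * m) y) : Commute m y := by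
  obtain ⟨k, hk⟩ := hm
  have he : (m * m) ^ (k + 1) = m := by
    rw [← pow_two, ← pow_mul, show 2 * (k + 1) = orderOf m + 1 by omega, pow_succ,
      pow_orderOf_eq_one, one_mul]
  exact he ▸ h.pow_left (k + 1)

/-- The involutions of a group satisfying the facts, as a subgroup. -/
def invSub {S : Subgroup X} {n : ℕ} (h : Facts ↥S n) : Subgroup X where
  carrier := {g | g ∈ S ∧ g * g = 1}
  one_mem' := ⟨one_mem _, one_mul 1⟩
  mul_mem' := fun {a b} ha hb => ⟨mul_mem ha.1 hb.1, by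
    have hc : a * b = b * a := congrArg Subtype.val
      (h.central ⟨a, ha.1⟩ (Subtype.ext ha.2) ⟨b, hb.1⟩)
    rw [show a * b * (a * b) = a * (b * a) * b by group, ← hc,
      show a * (a * b) * b = a * a * (b * b) by group, ha.2, hb.2, one_mul]⟩
  inv_mem' := fun {a} ha => ⟨inv_mem ha.1, by rw [← mul_inv_rev, ha.2, inv_one]⟩

theorem invSub_le {S : Subgroup X} {n : ℕ} (h : Facts ↥S n) : invSub h ≤ S := fun _ hg => hg.1

theorem card_invSub {S : Subgroup X} {n : ℕ} (h : Facts ↥S n) : Nat.card (invSub h) = 2 ^ n := by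
  rw [← h.card_inv]
  exact Nat.card_congr
    { toFun := fun k => ⟨⟨k.1, k.2.1⟩, Subtype.ext k.2.2⟩
      invFun := fun k => ⟨k.1.1, k.1.2, congrArg Subtype.val k.2⟩
      left_inv := fun _ => rfl
      right_inv := fun _ => rfl }

/-- Rigidity: an element of odd order fixing the involutions and one further element modulo them
centralizes the whole group. -/
theorem cent_of_fix {S : Subgroup X} (h : Facts ↥S 2) {m x : X} (hm : m ∈ normalizer (S : Set X))
    (hmo : Odd (orderOf m)) (hmZ : ∀ e ∈ S, e * e = 1 → Commute m e) (hx : x ∈ S) (hx2 : x * x ≠ 1)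
    (hfix : m * x * m⁻¹ * x⁻¹ * (m * x * m⁻¹ * x⁻¹) = 1) : m ∈ centralizer (S : Set X) := by
  classical
  have hmS : ∀ g ∈ S, m * g * m⁻¹ ∈ S := fun g hg => (mem_normalizer_iff.1 hm g).1 hg
  have hmx : Commute m x := commute_of_fix hmo hfix
    (hmZ _ (mul_mem (hmS x hx) (inv_mem hx)) hfix)
  refine rigid hm hmo h hx fun p hp hpx => ?_
  have hcen : ∀ e ∈ S, e * e = 1 → ∀ g ∈ S, e * g = g * e := fun e he he2 g hg =>
    congrArg Subtype.val (h.central ⟨e, he⟩ (Subtype.ext he2) ⟨g, hg⟩)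
  have hsqsq : ∀ g ∈ S, g * g * (g * g) = 1 := fun g hg =>
    congrArg Subtype.val (h.sq_sq ⟨g, hg⟩)
  set A : Subgroup X := S ⊓ centralizer {x} with hA
  have hxA : x ∈ A := ⟨hx, mem_centralizer_singleton_iff.2 rfl⟩
  have hpA : p ∈ A := ⟨hp, mem_centralizer_singleton_iff.2 hpx⟩
  have hqA : m * p * m⁻¹ ∈ A := ⟨hmS p hp, mem_centralizer_singleton_iff.2 (by
    calc m * p * m⁻¹ * x = m * p * (m⁻¹ * x) := by group
      _ = m * (p * x) * m⁻¹ := by rw [hmx.inv_left.eq]; group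
      _ = m * x * (p * m⁻¹) := by rw [hpx]; group
      _ = x * (m * p * m⁻¹) := by rw [hmx.eq]; group)⟩
  have hZA : invSub h ≤ A := fun g hg =>
    ⟨hg.1, mem_centralizer_singleton_iff.2 (hcen g hg.1 hg.2 x hx)⟩
  set N : Subgroup A := (invSub h).subgroupOf A with hN
  haveI : N.Normal := ⟨fun k hk g => by
    show ((g * k * g⁻¹ : A) : X) ∈ invSub h
    have hc : (k : X) * g = g * k := hcen _ hk.1 hk.2 _ g.2.1
    rw [Subgroup.coe_mul, Subgroup.coe_mul, Subgroup.coe_inv, ← hc, mul_inv_cancel_right]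
    exact hk⟩
  have hcardA : Nat.card A = 16 := by
    have h1 := h.cent_card ⟨x, hx⟩ fun e => hx2 (congrArg Subtype.val e)
    rw [show (2 ^ 2) ^ 2 = 16 by norm_num] at h1
    rw [← h1]
    exact Nat.card_congr
      { toFun := fun k => ⟨⟨k.1, k.2.1⟩, Subtype.ext (mem_centralizer_singleton_iff.1 k.2.2)⟩
        invFun := fun k => ⟨k.1.1, k.1.2,
          mem_centralizer_singleton_iff.2 (congrArg Subtype.val k.2)⟩
        left_inv := fun _ => rfl
        right_inv := fun _ => rfl }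
  have hQ : Nat.card (A ⧸ N) = 4 := by
    have h1 : Nat.card N = 4 := by
      rw [hN, Nat.card_congr (subgroupOfEquivOfLe hZA).toEquiv, card_invSub h]; norm_num
    have h2 := card_eq_card_quotient_mul_card_subgroup N
    rw [h1, hcardA] at h2
    omega
  have h1iff : ∀ g : A, (g : A ⧸ N) = 1 ↔ (g : X) * g = 1 := fun g => by
    rw [QuotientGroup.eq_one_iff]
    exact ⟨fun hg => hg.2, fun hg => ⟨g.2.1, hg⟩⟩
  have hdiff : ∀ g k : A, (g : A ⧸ N) * (k : A ⧸ N)⁻¹ = 1 ↔
      (g : X) * (k : X)⁻¹ * ((g : X) * (k : X)⁻¹) = 1 := fun g k => by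
    rw [← QuotientGroup.mk_inv, ← QuotientGroup.mk_mul, h1iff]; rfl
  set a : A ⧸ N := ((⟨x, hxA⟩ : A) : A ⧸ N) with ha
  set q : A ⧸ N := ((⟨p, hpA⟩ : A) : A ⧸ N) with hq
  set q' : A ⧸ N := ((⟨m * p * m⁻¹, hqA⟩ : A) : A ⧸ N) with hq'
  have ha1 : a ≠ 1 := fun e => hx2 ((h1iff _).1 e)
  have ha2 : a * a = 1 := (h1iff _).2 (hsqsq x hx)
  have hkey : q' * q⁻¹ = 1 ∨ q' * q⁻¹ = a := by
    by_cases hq1 : q = 1
    · left
      have hp2 : p * p = 1 := (h1iff _).1 hq1
      have hq1' : q' = 1 := (h1iff _).2 (by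
        show m * p * m⁻¹ * (m * p * m⁻¹) = 1
        rw [show m * p * m⁻¹ * (m * p * m⁻¹) = m * (p * p) * m⁻¹ by group, hp2, mul_one,
          mul_inv_cancel])
      rw [hq1, hq1', inv_one, mul_one]
    by_cases hqa : q = a
    · left
      have h2 : p * x⁻¹ * (p * x⁻¹) = 1 := (hdiff ⟨p, hpA⟩ ⟨x, hxA⟩).1 (by
        show q * a⁻¹ = 1
        rw [hqa, mul_inv_cancel])
      have hqa' : q' * a⁻¹ = 1 := (hdiff ⟨m * p * m⁻¹, hqA⟩ ⟨x, hxA⟩).2 (by
        show m * p * m⁻¹ * x⁻¹ * (m * p * m⁻¹ * x⁻¹) = 1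
        have hxm : m⁻¹ * x⁻¹ = x⁻¹ * m⁻¹ := hmx.inv_inv.eq
        calc m * p * m⁻¹ * x⁻¹ * (m * p * m⁻¹ * x⁻¹)
            = m * p * (m⁻¹ * x⁻¹) * m * p * (m⁻¹ * x⁻¹) := by group
          _ = m * (p * x⁻¹ * (p * x⁻¹)) * m⁻¹ := by rw [hxm]; group
          _ = 1 := by rw [h2, mul_one, mul_inv_cancel])
      rw [hqa, mul_inv_eq_one.1 hqa', mul_inv_cancel]
    by_contra hne
    push Not at hne
    have hq1' : q' ≠ 1 := fun e => hq1 ((h1iff _).2 (by
      have hp2 : m * p * m⁻¹ * (m * p * m⁻¹) = 1 := (h1iff _).1 e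
      show p * p = 1
      calc p * p = m⁻¹ * (m * p * m⁻¹ * (m * p * m⁻¹)) * m := by group
        _ = 1 := by rw [hp2]; group))
    have hqa' : q' ≠ a := fun e => hqa (by
      have h2 : m * p * m⁻¹ * x⁻¹ * (m * p * m⁻¹ * x⁻¹) = 1 :=
        (hdiff ⟨m * p * m⁻¹, hqA⟩ ⟨x, hxA⟩).1 (by
          show q' * a⁻¹ = 1
          rw [e, mul_inv_cancel])
      refine mul_inv_eq_one.1 ((hdiff ⟨p, hpA⟩ ⟨x, hxA⟩).2 ?_)
      show p * x⁻¹ * (p * x⁻¹) = 1
      have hxm : m⁻¹ * x⁻¹ = x⁻¹ * m⁻¹ := hmx.inv_inv.eq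
      calc p * x⁻¹ * (p * x⁻¹) = m⁻¹ * (m * p * (x⁻¹ * m⁻¹) * (m * p * (x⁻¹ * m⁻¹))) * m := by group
        _ = m⁻¹ * (m * p * m⁻¹ * x⁻¹ * (m * p * m⁻¹ * x⁻¹)) * m := by rw [← hxm]; group
        _ = 1 := by rw [h2]; group)
    haveI := Fintype.ofFinite (A ⧸ N)
    have haq : a * q ≠ 1 := fun e => hqa (by
      calc q = a * a * q := by rw [ha2, one_mul]
        _ = a := by rw [mul_assoc, e, mul_one])
    have h5 : ({1, a, q, q', a * q} : Finset (A ⧸ N)).card = 5 := by
      rw [Finset.card_insert_of_notMem, Finset.card_insert_of_notMem,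
        Finset.card_insert_of_notMem, Finset.card_pair]
      · intro e; exact hne.2 (mul_inv_eq_iff_eq_mul.2 e)
      · simp only [Finset.mem_insert, Finset.mem_singleton, not_or]
        exact ⟨fun e => hne.1 (mul_inv_eq_one.2 e.symm), fun e => ha1 (right_eq_mul.1 e)⟩
      · simp only [Finset.mem_insert, Finset.mem_singleton, not_or]
        exact ⟨fun e => hqa e.symm, fun e => hqa' e.symm, fun e => hq1 (left_eq_mul.1 e)⟩
      · simp only [Finset.mem_insert, Finset.mem_singleton, not_or]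
        exact ⟨fun e => ha1 e.symm, fun e => hq1 e.symm, fun e => hq1' e.symm, fun e => haq e.symm⟩
    have h6 := Finset.card_le_univ ({1, a, q, q', a * q} : Finset (A ⧸ N))
    rw [h5, ← Nat.card_eq_fintype_card, hQ] at h6
    omega
  set u := m * p * m⁻¹ * p⁻¹ with hu
  have huS : u ∈ S := mul_mem (hmS p hp) (inv_mem hp)
  have humc : Commute m u := by
    rcases hkey with e | e
    · exact hmZ u huS ((hdiff ⟨m * p * m⁻¹, hqA⟩ ⟨p, hpA⟩).1 e)
    · have h2 : u * x⁻¹ * (u * x⁻¹) = 1 :=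
        (hdiff (⟨m * p * m⁻¹, hqA⟩ * (⟨p, hpA⟩ : A)⁻¹) ⟨x, hxA⟩).1 (by
          show q' * q⁻¹ * a⁻¹ = 1
          rw [e, mul_inv_cancel])
      have := (hmZ _ (mul_mem huS (inv_mem hx)) h2).mul_right hmx
      rwa [inv_mul_cancel_right] at this
  have hmp : m * p * m⁻¹ = u * p := by rw [hu, inv_mul_cancel_right]
  have hmm : m * m * p * (m * m)⁻¹ = u * u * p := by
    calc m * m * p * (m * m)⁻¹ = m * (m * p * m⁻¹) * m⁻¹ := by group
      _ = m * u * p * m⁻¹ := by rw [hmp]; group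
      _ = u * (m * p * m⁻¹) := by rw [humc.eq]; group
      _ = u * u * p := by rw [hmp, mul_assoc u u p]
  refine (commute_of_sq hmo (commute_of_fix (hmo.of_dvd_nat ?_) ?_ ?_)).eq
  · rw [← pow_two]; exact orderOf_pow_dvd 2
  · rw [hmm, mul_inv_cancel_right]; exact hsqsq u huS
  · rw [hmm, mul_inv_cancel_right]
    exact (humc.mul_left humc).mul_right (humc.mul_left humc)

/-- An elementary abelian Sylow group with rigid automiser and two classes of involutions. -/
theorem normal_of_classes (P : Sylow 2 X) (hO : Cfsg.oddCore X = ⊥)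
    (hP2 : ∀ p ∈ (P : Subgroup X), p * p = 1) (hcard : 8 ≤ Nat.card (P : Subgroup X))
    (hrig : ∀ a ∈ (P : Subgroup X), a ≠ 1 → ∀ m ∈ normalizer ((P : Subgroup X) : Set X),
      Commute m a → m ∈ centralizer ((P : Subgroup X) : Set X))
    (hcls : ∃ a ∈ (P : Subgroup X), ∃ b ∈ (P : Subgroup X), a ≠ 1 ∧ b ≠ 1 ∧ ¬ IsConj a b) :
    (P : Subgroup X).Normal := by
  haveI : Fact (Nat.Prime 2) := ⟨Nat.prime_two⟩
  have hab : ∀ a ∈ (P : Subgroup X), ∀ b ∈ (P : Subgroup X), a * b = b * a := fun a ha b hb => by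
    calc a * b = (a * b)⁻¹ := (inv_eq_of_mul_eq_one_right (hP2 _ (mul_mem ha hb))).symm
      _ = b * a := by rw [mul_inv_rev, inv_eq_of_mul_eq_one_right (hP2 a ha),
        inv_eq_of_mul_eq_one_right (hP2 b hb)]
  have hloc : ∀ a ∈ (P : Subgroup X), a ≠ 1 →
      (∀ d ∈ centralizer ({a} : Set X), Odd (orderOf d) → d ∈ core a) ∧
      centralizer ({a} : Set X) ≤ core a ⊔ (P : Subgroup X) := by
    intro a ha ha1
    set C := centralizer ({a} : Set X) with hC
    have hPC : (P : Subgroup X) ≤ C := fun p hp =>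
      mem_centralizer_singleton_iff.2 (hab p hp a ha)
    let Q : Sylow 2 C := P.subtype hPC
    have hQ : normalizer ((Q : Subgroup C) : Set C) ≤ centralizer ((Q : Subgroup C) : Set C) := by
      intro g hg
      have hg' : (g : X) ∈ normalizer ((P : Subgroup X) : Set X) := mem_normalizer_iff.2 fun k => by
        constructor
        · exact fun hk => (mem_normalizer_iff.1 hg ⟨k, hPC hk⟩).1 hk
        · intro hk
          have hkC : k ∈ C := by
            have := mul_mem (mul_mem (inv_mem g.2) (hPC hk)) g.2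
            simpa [mul_assoc] using this
          exact (mem_normalizer_iff.1 hg ⟨k, hkC⟩).2 hk
      have := hrig a ha ha1 g hg' (mem_centralizer_singleton_iff.1 g.2)
      exact mem_centralizer_iff.2 fun k hk => Subtype.ext (mem_centralizer_iff.1 this k.1 hk)
    set K : Subgroup C := (MonoidHom.transferSylow Q hQ).ker with hK
    have hcompl : IsComplement' K (Q : Subgroup C) := MonoidHom.ker_transferSylow_isComplement' Q hQ
    have hKodd : Odd (Nat.card K) := by
      have h2 : ¬ 2 ∣ Nat.card K := MonoidHom.not_dvd_card_ker_transferSylow Q hQ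
      rwa [← Nat.not_even_iff_odd, even_iff_two_dvd]
    have hKcore : K ≤ Cfsg.oddCore C := Bender.Core.le_oddCore inferInstance hKodd
    refine ⟨fun d hd hdo => ⟨⟨d, hd⟩, hKcore ?_, rfl⟩, fun c hc => ?_⟩
    · obtain ⟨j, hj⟩ := IsPGroup.iff_card.1 Q.2
      have hidx : Nat.card (C ⧸ K) = 2 ^ j := by
        rw [← index_eq_card, hcompl.symm.index_eq_card, hj]
      refine (QuotientGroup.eq_one_iff (⟨d, hd⟩ : C)).1
        (Bender.Consumers.eq_one_of_two_of_odd (i := j) ?_ ?_)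
      · refine hdo.of_dvd_nat ?_
        rw [show orderOf d = orderOf (⟨d, hd⟩ : C) from (orderOf_mk d hd).symm]
        exact orderOf_map_dvd (QuotientGroup.mk' K) _
      · rw [← hidx]; exact pow_card_eq_one'
    · have htop := hcompl.sup_eq_top
      obtain ⟨k, hk, p, hp, e⟩ := mem_sup_of_normal_left.1 (htop ▸ mem_top (⟨c, hc⟩ : C))
      have e' : (k : X) * p = c := congrArg Subtype.val e
      rw [← e']
      exact mul_mem (mem_sup_left ⟨k, hKcore hk, rfl⟩) (mem_sup_right hp)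
  have key : ∀ M : Subgroup X, normalizer ((P : Subgroup X) : Set X) ≤ M →
      (∀ a ∈ (P : Subgroup X), a ≠ 1 → core a ≤ M) → M = ⊤ := by
    intro M hN hcM
    by_contra hne
    obtain ⟨a, ha, b, hb, ha1, hb1, hconj⟩ := hcls
    refine hconj (StrongEmbed.isConj_of_invols (stronglyEmbedded_of P hne hN
      ⟨a, ha, Invol.orderOf_eq_two (hP2 a ha) ha1⟩ fun s hs ho => ?_)
      (Invol.orderOf_eq_two (hP2 a ha) ha1) (Invol.orderOf_eq_two (hP2 b hb) hb1))
    exact (hloc s hs (Invol.ne_one ho)).2.trans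
      (sup_le (hcM s hs (Invol.ne_one ho)) (le_normalizer.trans hN))
  have hbot : ∀ a ∈ (P : Subgroup X), a ≠ 1 → core a = ⊥ := by
    set W : Subgroup X := ⨆ a : {a : X // a ∈ (P : Subgroup X) ∧ a ≠ 1}, core (a : X) with hW
    have hle : ∀ a ∈ (P : Subgroup X), a ≠ 1 → core a ≤ W := fun a ha ha1 =>
      le_iSup (fun a : {a : X // a ∈ (P : Subgroup X) ∧ a ≠ 1} => core (a : X)) ⟨a, ha, ha1⟩
    have hWodd : Odd (Nat.card W) := by
      have h := Cfsg.Agent.S0217.result (p := 2) (P : Subgroup X) hab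
        (fun a ha => by rw [sq]; exact hP2 a ha) (by simpa using hcard) core
        (fun a _ _ => U3Type.core_le a)
        (fun a _ _ hd => Nat.not_even_iff_odd.2 (odd_core a) (even_iff_two_dvd.2 hd))
        (fun a ha _ b hb x hx =>
          conj_mem_core (mem_centralizer_singleton_iff.2 (hab b hb a ha)) hx)
        (fun a _ _ => Cfsg.Agent.S0205.result (odd_core a))
        (fun a _ _ b hb hb1 d hd => (hloc b hb hb1).1 d (mem_inf.1 hd).2
          ((odd_core a).of_dvd_nat (orderOf_dvd_natCard _ (mem_inf.1 hd).1)))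
      exact Nat.not_even_iff_odd.1 fun he => h.1 he.two_dvd
    have hNW : normalizer ((P : Subgroup X) : Set X) ≤ normalizer (W : Set X) := by
      intro g hg
      refine mem_normalizer_iff_map_conj_eq.2 (eq_of_le_of_card_ge ?_
        (card_map_of_injective (f := (MulAut.conj g).toMonoidHom) (MulAut.conj g).injective).ge)
      rw [hW, Subgroup.map_iSup]
      refine iSup_le fun a => (core_conj_le g a.1).trans (hle _ ?_ ?_)
      · exact (mem_normalizer_iff.1 hg a.1).1 a.2.1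
      · exact fun e => a.2.2 (by
          rwa [mul_inv_eq_one, mul_eq_left] at e)
    have hWn : W.Normal := normalizer_eq_top_iff.1
      (key _ hNW fun a ha ha1 => (hle a ha ha1).trans le_normalizer)
    intro a ha ha1
    exact le_bot_iff.1 ((hle a ha ha1).trans
      ((Bender.Core.le_oddCore hWn hWodd).trans hO.le))
  exact normalizer_eq_top_iff.1 (key _ le_rfl fun a ha ha1 => by rw [hbot a ha ha1]; exact bot_le)

/-- The quotient by a central 2-subgroup of a group without odd core has no odd core. -/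
theorem oddCore_quot_two (hO : Cfsg.oddCore X = ⊥) {Z : Subgroup X} [Z.Normal]
    (hc : Z ≤ center X) (hZ2 : ∀ g ∈ Z, g * g = 1) : Cfsg.oddCore (X ⧸ Z) = ⊥ := by
  set π := QuotientGroup.mk' Z
  set N := Cfsg.oddCore (X ⧸ Z) with hN
  have hNodd : Odd (Nat.card N) := IsoApps.odd_oddCore
  set K := N.comap π with hK
  set Z' := Z.subgroupOf K with hZ'
  have hidx : Odd Z'.index := by
    have h1 : Z.relIndex K = Nat.card N := by
      have h := relIndex_ker K π
      rwa [map_comap_eq_self_of_surjective (QuotientGroup.mk'_surjective _),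
        QuotientGroup.ker_mk'] at h
    rw [hZ', ← relIndex, h1]
    exact hNodd
  have hZp : IsPGroup 2 Z' := fun k => ⟨1, Subtype.ext (Subtype.ext (by
    rw [pow_one, sq]; exact hZ2 _ k.2))⟩
  let L : Subgroup X :=
    { carrier := {g | g ∈ K ∧ Odd (orderOf g)}
      one_mem' := ⟨one_mem _, by rw [orderOf_one]; exact odd_one⟩
      mul_mem' := fun {a b} ha hb => ⟨mul_mem ha.1 hb.1, by
        have := odd_mul_of_central (Z := Z') (fun z hz g => Subtype.ext
          (mem_center_iff.1 (hc (show (z : X) ∈ Z from hz)) (g : X)).symm) hZp hidx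
          (a := ⟨a, ha.1⟩) (b := ⟨b, hb.1⟩)
          (by rw [orderOf_mk]; exact ha.2) (by rw [orderOf_mk]; exact hb.2)
        rwa [MulMemClass.mk_mul_mk, orderOf_mk] at this⟩
      inv_mem' := fun {a} ha => ⟨inv_mem ha.1, by rw [orderOf_inv]; exact ha.2⟩ }
  have hLn : L.Normal := ⟨fun g hg k => ⟨
    (Normal.comap (inferInstance : N.Normal) π).conj_mem g hg.1 k,
    by rw [Invol.orderOf_conj_eq]; exact hg.2⟩⟩
  have hL : L = ⊥ := le_bot_iff.1 (hO ▸ Bender.Core.le_oddCore hLn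
    (odd_card_of_orderOf fun g hg => hg.2))
  refine (eq_bot_iff_forall _).2 fun w hw => ?_
  obtain ⟨g, rfl⟩ := QuotientGroup.mk_surjective w
  obtain ⟨i, r, hr, hgo⟩ := Nat.exists_eq_two_pow_mul_odd (orderOf_pos g).ne'
  have h1 : g ^ 2 ^ i ∈ L := ⟨pow_mem (show g ∈ K from hw) _, hr.of_dvd_nat
    (orderOf_dvd_of_pow_eq_one (by rw [← pow_mul, ← hgo, pow_orderOf_eq_one]))⟩
  rw [hL, mem_bot] at h1
  refine Bender.Consumers.eq_one_of_two_of_odd (i := i)
    (hNodd.of_dvd_nat (Subgroup.orderOf_dvd_natCard _ hw)) ?_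
  rw [← QuotientGroup.mk_pow, h1, QuotientGroup.mk_one]

/-- Central involutions and no odd core: the Sylow 2-subgroup is normal. -/
theorem normal_of_central (P : Sylow 2 X) (hO : Cfsg.oddCore X = ⊥)
    (h : Facts ↥(P : Subgroup X) 2)
    (hc : ∀ e ∈ (P : Subgroup X), e * e = 1 → ∀ g : X, Commute g e) : (P : Subgroup X).Normal := by
  haveI : Fact (Nat.Prime 2) := ⟨Nat.prime_two⟩
  set Z := invSub h with hZ
  have hZc : Z ≤ center X := fun e he => mem_center_iff.2 fun g => (hc e he.1 he.2 g).eq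
  haveI : Z.Normal := ⟨fun e he g => by
    rw [mem_center_iff.1 (hZc he) g, mul_inv_cancel_right]; exact he⟩
  set π := QuotientGroup.mk' Z with hπ
  let Q : Sylow 2 (X ⧸ Z) := P.mapSurjective (f := π) (QuotientGroup.mk'_surjective _)
  have hQ : (Q : Subgroup (X ⧸ Z)) = (P : Subgroup X).map π := rfl
  have hπ1 : ∀ g ∈ (P : Subgroup X), π g = 1 ↔ g * g = 1 := fun g hg =>
    ⟨fun e => ((QuotientGroup.eq_one_iff g).1 e).2, fun e => (QuotientGroup.eq_one_iff g).2 ⟨hg, e⟩⟩
  have hQ2 : ∀ q ∈ (Q : Subgroup (X ⧸ Z)), q * q = 1 := by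
    rintro _ ⟨p, hp, rfl⟩
    rw [← map_mul]
    exact (hπ1 _ (mul_mem hp hp)).2 (congrArg Subtype.val (h.sq_sq ⟨p, hp⟩))
  have hQcard : Nat.card (Q : Subgroup (X ⧸ Z)) = 16 := by
    have h1 := relIndex_ker (P : Subgroup X) π
    rw [QuotientGroup.ker_mk'] at h1
    have h2 := relIndex_mul_relIndex ⊥ Z (P : Subgroup X) bot_le (invSub_le h)
    rw [relIndex_bot_left, relIndex_bot_left, card_invSub h, h.card, h1] at h2
    rw [hQ]
    omega
  have hmemP : ∀ g : X, π g ∈ (Q : Subgroup (X ⧸ Z)) → g ∈ (P : Subgroup X) := by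
    rintro g ⟨p, hp, e⟩
    have := mul_mem hp (invSub_le h (QuotientGroup.eq.1 e))
    rwa [mul_inv_cancel_left] at this
  have hnorm : ∀ g : X, π g ∈ normalizer ((Q : Subgroup (X ⧸ Z)) : Set (X ⧸ Z)) →
      g ∈ normalizer ((P : Subgroup X) : Set X) := by
    intro g hg
    refine mem_normalizer_iff_map_conj_eq.2 (eq_of_le_of_card_ge ?_
      (card_map_of_injective (f := (MulAut.conj g).toMonoidHom) (MulAut.conj g).injective).ge)
    rintro _ ⟨s, hs, rfl⟩
    refine hmemP _ ?_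
    show π (g * s * g⁻¹) ∈ (Q : Subgroup (X ⧸ Z))
    rw [map_mul, map_mul, map_inv]
    exact (mem_normalizer_iff.1 hg (π s)).1 ⟨s, hs, rfl⟩
  have hrig : ∀ a ∈ (Q : Subgroup (X ⧸ Z)), a ≠ 1 →
      ∀ m ∈ normalizer ((Q : Subgroup (X ⧸ Z)) : Set (X ⧸ Z)), Commute m a →
        m ∈ centralizer ((Q : Subgroup (X ⧸ Z)) : Set (X ⧸ Z)) := by
    rintro _ ⟨x, hx, rfl⟩ hx1 m hm hma
    obtain ⟨g, rfl⟩ := QuotientGroup.mk'_surjective Z m
    obtain ⟨s, hs, n, hn, hno, rfl, -⟩ := exists_parts P (hnorm g hm)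
    have hsc : ∀ q ∈ (Q : Subgroup (X ⧸ Z)), Commute (π s) q := fun q hq => by
      have hsQ : π s ∈ (Q : Subgroup (X ⧸ Z)) := ⟨s, hs, rfl⟩
      calc π s * q = (π s * q)⁻¹ := (inv_eq_of_mul_eq_one_right (hQ2 _ (mul_mem hsQ hq))).symm
        _ = q * π s := by rw [mul_inv_rev, inv_eq_of_mul_eq_one_right (hQ2 _ hsQ),
          inv_eq_of_mul_eq_one_right (hQ2 _ hq)]
    have hna : Commute (π n) (π x) := by
      have := ((hsc _ ⟨x, hx, rfl⟩).inv_left).mul_left hma
      rwa [map_mul, inv_mul_cancel_left] at this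
    have hfix : n * x * n⁻¹ * x⁻¹ * (n * x * n⁻¹ * x⁻¹) = 1 := by
      refine (hπ1 _ (mul_mem ((mem_normalizer_iff.1 hn x).1 hx) (inv_mem hx))).1 ?_
      rw [map_mul, map_mul, map_mul, map_inv, map_inv, hna.eq, mul_inv_cancel_right, mul_inv_cancel]
    have hnc := cent_of_fix h hn hno (fun e he he2 => hc e he he2 n) hx
      (fun e => hx1 ((hπ1 x hx).2 e)) hfix
    refine mem_centralizer_iff.2 ?_
    rintro _ ⟨p, hp, rfl⟩
    have hnp : Commute (π n) (π p) :=
      (show Commute n p from (mem_centralizer_iff.1 hnc p hp).symm).map π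
    rw [map_mul]
    exact ((hsc _ ⟨p, hp, rfl⟩).mul_left hnp).eq.symm
  have hcls : ∃ a ∈ (Q : Subgroup (X ⧸ Z)), ∃ b ∈ (Q : Subgroup (X ⧸ Z)),
      a ≠ 1 ∧ b ≠ 1 ∧ ¬ IsConj a b := by
    obtain ⟨z, hz, hz1, w, hw, hw1, hzw⟩ : ∃ z ∈ Z, z ≠ 1 ∧ ∃ w ∈ Z, w ≠ 1 ∧ z ≠ w := by
      by_contra hno
      push Not at hno
      have h1 : Nat.card Z ≤ Nat.card Bool := Nat.card_le_card_of_injective
        (fun a => @decide ((a : X) = 1) (Classical.propDecidable _)) fun a b e => by
          have hiff : (a : X) = 1 ↔ (b : X) = 1 :=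
            (@decide_eq_decide ((a : X) = 1) ((b : X) = 1) (Classical.propDecidable _)
              (Classical.propDecidable _)).1 e
          refine Subtype.ext ?_
          by_cases ha : (a : X) = 1
          · rw [ha, hiff.1 ha]
          · exact hno _ a.2 ha _ b.2 fun hb => ha (hiff.2 hb)
      rw [hZ, card_invSub h, Nat.card_eq_fintype_card, Fintype.card_bool] at h1
      omega
    obtain ⟨x, hx⟩ := h.exists_sqrt ⟨z, hz.1⟩ (Subtype.ext hz.2)
    obtain ⟨y, hy⟩ := h.exists_sqrt ⟨w, hw.1⟩ (Subtype.ext hw.2)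
    have hxz : (x : X) * x = z := congrArg Subtype.val hx
    have hyw : (y : X) * y = w := congrArg Subtype.val hy
    refine ⟨π x, ⟨x, x.2, rfl⟩, π y, ⟨y, y.2, rfl⟩,
      fun e => hz1 (hxz ▸ (hπ1 _ x.2).1 e), fun e => hw1 (hyw ▸ (hπ1 _ y.2).1 e), fun hconj => ?_⟩
    obtain ⟨c, hcc⟩ := isConj_iff.1 hconj
    obtain ⟨g, rfl⟩ := QuotientGroup.mk'_surjective Z c
    set e := (y : X)⁻¹ * (g * x * g⁻¹) with he
    have heZ : e ∈ Z := QuotientGroup.eq.1 (by
      show π (y : X) = π (g * x * g⁻¹)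
      rw [map_mul, map_mul, map_inv]
      exact hcc.symm)
    refine hzw ?_
    have h1 : g * x * g⁻¹ = (y : X) * e := by rw [he, mul_inv_cancel_left]
    have h2 : g * z * g⁻¹ = w := by
      calc g * z * g⁻¹ = (g * x * g⁻¹) * (g * x * g⁻¹) := by rw [← hxz]; group
        _ = (y : X) * (e * y) * e := by rw [h1]; group
        _ = (y : X) * ((y : X) * e) * e := by rw [mem_center_iff.1 (hZc heZ) (y : X)]
        _ = (y : X) * y * (e * e) := by group
        _ = w := by rw [heZ.2, mul_one, hyw]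
    rw [← h2, mem_center_iff.1 (hZc hz) g, mul_inv_cancel_right]
  have hn := normal_of_classes Q (oddCore_quot_two hO hZc fun g hg => hg.2) hQ2
    (by rw [hQcard]; norm_num) hrig hcls
  refine ⟨fun p hp g => hmemP _ ?_⟩
  rw [map_mul, map_mul, map_inv]
  exact hn.conj_mem (π p) ⟨p, hp, rfl⟩ (π g)

/-- Involutions central modulo the odd core give `O(X) N(S)`. -/
theorem decomp_of_central (S : Sylow 2 X) (h : Facts ↥(S : Subgroup X) 2)
    (hc : ∀ e ∈ (S : Subgroup X), e * e = 1 → ∀ g : X, e * g * e⁻¹ * g⁻¹ ∈ Cfsg.oddCore X) (g : X) :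
    ∃ o ∈ Cfsg.oddCore X, ∃ m ∈ normalizer ((S : Subgroup X) : Set X), g = o * m := by
  haveI : Fact (Nat.Prime 2) := ⟨Nat.prime_two⟩
  set π := QuotientGroup.mk' (Cfsg.oddCore X) with hπ
  let P : Sylow 2 (X ⧸ Cfsg.oddCore X) := S.mapSurjective (f := π) (QuotientGroup.mk'_surjective _)
  have hker : ∀ s ∈ (S : Subgroup X), π s = 1 → s = 1 := fun s hs e => by
    obtain ⟨i, hi⟩ := S.2 ⟨s, hs⟩
    exact eq_one_of_mem_odd IsoApps.odd_oddCore ((QuotientGroup.eq_one_iff s).1 e)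
      (congrArg Subtype.val hi :)
  let e : ↥(S : Subgroup X) ≃* ↥(P : Subgroup (X ⧸ Cfsg.oddCore X)) :=
    MulEquiv.ofBijective (π.subgroupMap (S : Subgroup X)) ⟨fun a b hab => by
      have h1 : π (a : X) = π (b : X) := congrArg Subtype.val hab
      have h2 := hker ((a : X) * (b : X)⁻¹) (mul_mem a.2 (inv_mem b.2))
        (by rw [map_mul, map_inv, h1, mul_inv_cancel])
      exact Subtype.ext (mul_inv_eq_one.1 h2), π.subgroupMap_surjective _⟩
  have hP := h.congr e
  have hn := normal_of_central P LocalB.oddCore_quotient hP (by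
    rintro _ ⟨s, hs, rfl⟩ hs2 q
    obtain ⟨k, rfl⟩ := QuotientGroup.mk'_surjective _ q
    have h1 : π (s * k * s⁻¹ * k⁻¹) = 1 := (QuotientGroup.eq_one_iff _).2 (hc s hs
      (hker _ (mul_mem hs hs) (by rw [map_mul]; exact hs2)) k)
    rw [map_mul, map_mul, map_mul, map_inv, map_inv] at h1
    exact (mul_inv_eq_iff_eq_mul.1 (mul_inv_eq_one.1 h1)).symm)
  set C := Cfsg.oddCore X ⊔ (S : Subgroup X) with hC
  have hCeq : C = (P : Subgroup (X ⧸ Cfsg.oddCore X)).comap π := by
    rw [show (P : Subgroup (X ⧸ Cfsg.oddCore X)) = (S : Subgroup X).map π from rfl,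
      comap_map_eq, hπ, QuotientGroup.ker_mk', hC, sup_comm]
  haveI hCn : C.Normal := hCeq ▸ hn.comap π
  obtain ⟨c, hcC, m, hm, rfl⟩ := exists_mul_normalizer (C := C) (T := (S : Subgroup X))
    le_sup_right S.2 (fun Q hQ _ hle => S.3 hQ hle) (g := g)
    (by rw [normalizer_eq_top_iff.2 hCn]; exact mem_top g)
  obtain ⟨o, ho, s, hs, rfl⟩ := mem_sup_of_normal_left.1 (show c ∈ _ from hcC)
  exact ⟨o, ho, s * m, mul_mem (le_normalizer hs) hm, mul_assoc _ _ _⟩

/-- The elements of a group of order four. -/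
theorem four_cases {Z : Subgroup X} (h4 : Nat.card Z = 4) {a b c : X} (ha : a ∈ Z) (hb : b ∈ Z)
    (hc : c ∈ Z) (ha1 : a ≠ 1) (hb1 : b ≠ 1) (hab : a ≠ b) (hab1 : a * b ≠ 1) :
    c = 1 ∨ c = a ∨ c = b ∨ c = a * b := by
  classical
  by_contra hne
  push Not at hne
  have h5 : ({1, a, b, a * b, c} : Finset X).card = 5 := by
    rw [Finset.card_insert_of_notMem, Finset.card_insert_of_notMem,
      Finset.card_insert_of_notMem, Finset.card_pair hne.2.2.2.symm]
    · simp only [Finset.mem_insert, Finset.mem_singleton, not_or]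
      exact ⟨fun e => ha1 (right_eq_mul.1 e), hne.2.2.1.symm⟩
    · simp only [Finset.mem_insert, Finset.mem_singleton, not_or]
      exact ⟨hab, fun e => hb1 (left_eq_mul.1 e), hne.2.1.symm⟩
    · simp only [Finset.mem_insert, Finset.mem_singleton, not_or]
      exact ⟨ha1.symm, hb1.symm, hab1.symm, hne.1.symm⟩
  have h6 : ({1, a, b, a * b, c} : Finset X).card ≤ Nat.card Z := by
    rw [← Nat.card_eq_finsetCard]
    refine Nat.card_le_card_of_injective (fun k => ⟨k.1, ?_⟩) fun k l e =>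
      Subtype.ext (congrArg (fun t : Z => (t : X)) e)
    have := k.2
    simp only [Finset.mem_insert, Finset.mem_singleton] at this
    rcases this with e | e | e | e | e <;> rw [e]
    exacts [one_mem _, ha, hb, mul_mem ha hb, hc]
  omega

/-- A central involution makes the others central modulo the odd core. -/
theorem central_mod_core (S : Sylow 2 X) (h : Facts ↥(S : Subgroup X) 2) {z : X}
    (hzS : z ∈ (S : Subgroup X)) (hz2 : z * z = 1) (hz1 : z ≠ 1) (hzc : z ∈ center X) {e : X}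
    (he : e ∈ (S : Subgroup X)) (he2 : e * e = 1) (g : X) :
    e * g * e⁻¹ * g⁻¹ ∈ Cfsg.oddCore X := by
  haveI : Fact (Nat.Prime 2) := ⟨Nat.prime_two⟩
  by_cases he1 : e = 1
  · simp [he1]
  by_cases hez : e = z
  · rw [hez, ← mem_center_iff.1 hzc g, mul_inv_cancel_right, mul_inv_cancel]
    exact one_mem _
  have hze2 : z * e * (z * e) = 1 := by
    rw [show z * e * (z * e) = z * (e * z) * e by group, mem_center_iff.1 hzc e, ← mul_assoc,
      hz2, one_mul, he2]
  have hcent : ∀ k ∈ (S : Subgroup X), k * k = 1 → k ∈ centralizer ((S : Subgroup X) : Set X) :=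
    fun k hk hk2 => mem_centralizer_iff.2 fun s hs =>
      (congrArg Subtype.val (h.central ⟨k, hk⟩ (Subtype.ext hk2) ⟨s, hs⟩) :).symm
  have hiso : ∀ c : X, c * e * c⁻¹ ∈ (S : Subgroup X) → c * e * c⁻¹ = e := by
    intro c hc
    have hce2 : c * e * c⁻¹ * (c * e * c⁻¹) = 1 := by
      rw [show c * e * c⁻¹ * (c * e * c⁻¹) = c * (e * e) * c⁻¹ by group, he2, mul_one,
        mul_inv_cancel]
    have hz4 : Nat.card (invSub h) = 4 := by rw [card_invSub h]; norm_num
    rcases four_cases hz4 (a := z) (b := e) (c := c * e * c⁻¹) ⟨hzS, hz2⟩ ⟨he, he2⟩ ⟨hc, hce2⟩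
      hz1 he1 (Ne.symm hez) (fun e' => hez (by
        calc e = z * z * e := by rw [hz2, one_mul]
          _ = z := by rw [mul_assoc, e', mul_one])) with h1 | h1 | h1 | h1
    · exact absurd (conj_eq_one_iff.1 h1) he1
    · refine absurd ?_ hez
      calc e = c⁻¹ * (c * e * c⁻¹) * c := by group
        _ = c⁻¹ * (z * c) := by rw [h1, mul_assoc]
        _ = z := by rw [← mem_center_iff.1 hzc c, inv_mul_cancel_left]
    · exact h1
    · exfalso
      obtain ⟨n, hn, hne⟩ := Sylow.conj_eq_normalizer_conj_of_mem_centralizer S e c⁻¹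
        (hcent e he he2) (by rw [inv_inv, h1]; exact hcent _ (mul_mem hzS he) hze2)
      rw [inv_inv, h1] at hne
      obtain ⟨s, hs, m, hm, hmo, hsm, -⟩ := exists_parts S (inv_mem hn)
      have h2 : m * e * m⁻¹ = z * e := by
        have hc' : s * (z * e) = z * e * s :=
          mem_centralizer_iff.1 (hcent _ (mul_mem hzS he) hze2) s hs
        calc m * e * m⁻¹ = s⁻¹ * (s * m * e * (s * m)⁻¹) * s := by group
          _ = s⁻¹ * (n⁻¹ * e * n) * s := by rw [← hsm, inv_inv]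
          _ = s⁻¹ * (s * (z * e)) := by rw [← hne, mul_assoc, hc']
          _ = z * e := inv_mul_cancel_left _ _
      have h3 : Commute (m * m) e := by
        refine (mul_inv_eq_iff_eq_mul.1 ?_ : m * m * e = e * (m * m))
        calc m * m * e * (m * m)⁻¹ = m * (m * e * m⁻¹) * m⁻¹ := by group
          _ = m * z * e * m⁻¹ := by rw [h2]; group
          _ = z * (m * e * m⁻¹) := by rw [mem_center_iff.1 hzc m]; group
          _ = e := by rw [h2, ← mul_assoc, hz2, one_mul]
      rw [(commute_of_sq hmo h3).eq, mul_inv_cancel_right] at h2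
      exact hz1 (right_eq_mul.1 h2)
  obtain ⟨N, hN, hNodd, hNc⟩ :=
    ZStar.zstar_of_sylow S (Invol.orderOf_eq_two he2 he1) hiso
  exact Bender.Core.le_oddCore hN hNodd (hNc g)

/-- `O(X) N(S)` from a central involution. -/
theorem decomp_of_central_invol (S : Sylow 2 X) (h : Facts ↥(S : Subgroup X) 2) {z : X}
    (hzS : z ∈ (S : Subgroup X)) (hz2 : z * z = 1) (hz1 : z ≠ 1) (hzc : z ∈ center X) (g : X) :
    ∃ o ∈ Cfsg.oddCore X, ∃ m ∈ normalizer ((S : Subgroup X) : Set X), g = o * m :=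
  decomp_of_central S h (fun _ he he2 => central_mod_core S h hzS hz2 hz1 hzc he he2) g

/-- Without odd core a central involution makes the Sylow 2-subgroup normal. -/
theorem normal_of_central_invol (S : Sylow 2 X) (hO : Cfsg.oddCore X = ⊥)
    (h : Facts ↥(S : Subgroup X) 2) {z : X}
    (hzS : z ∈ (S : Subgroup X)) (hz2 : z * z = 1) (hz1 : z ≠ 1) (hzc : z ∈ center X) :
    (S : Subgroup X).Normal := by
  rw [← normalizer_eq_top_iff, eq_top_iff]
  intro g _
  obtain ⟨o, ho, m, hm, rfl⟩ := decomp_of_central_invol S h hzS hz2 hz1 hzc g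
  rw [hO, mem_bot] at ho
  rw [ho, one_mul]
  exact hm

end CfsgLib.U34Sylow
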