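import Cfsg.Agent.U34Sylow.Setup
import Cfsg.Agent.U34Sylow.Decomp
import Mathlib.GroupTheory.Perm.Cycle.Type

/-!
Simple groups with a Sylow 2-subgroup of type U₃(4): the three involutions are fused by an element
`ρ` of `N(S)` and `C(z) = O(C(z)) S ⟨f⟩` with `f = ρ ^ 3`, or `C(z) = O(C(z)) S`.
-/

set_option autoImplicit false
set_option linter.unusedSectionVars false
set_option linter.style.haveILetI false

namespace CfsgLib.U34Sylow

open Subgroup CfsgLib.U3Type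

universe u

variable {G : Type u} [Group G] [Finite G]

section

variable {S : Sylow 2 G} (h : Facts ↥(S : Subgroup G) 2)

/-- The involutions inside the Sylow subgroup. -/
def zSub : Subgroup ↥(S : Subgroup G) := (invSub h).subgroupOf (S : Subgroup G)

theorem mem_zSub {x : ↥(S : Subgroup G)} : x ∈ zSub h ↔ (x : G) * x = 1 :=
  ⟨fun hx => hx.2, fun hx => ⟨x.2, hx⟩⟩

instance : (zSub h).Normal := ⟨fun e he x => by
  have hc : e * x = x * e := h.central e (Subtype.ext ((mem_zSub h).1 he)) x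
  rwa [← hc, mul_inv_cancel_right]⟩

/-- The action of `N(S)` on the Sylow subgroup modulo its involutions. -/
noncomputable def quotPerm : ↥(normalizer ((S : Subgroup G) : Set G)) →*
    Equiv.Perm (↥(S : Subgroup G) ⧸ zSub h) where
  toFun n := (QuotientGroup.congr (zSub h) (zSub h) ((S : Subgroup G).normalizerMonoidHom n) (by
    refine eq_of_le_of_card_ge ?_ (card_map_of_injective
      ((S : Subgroup G).normalizerMonoidHom n).injective).ge
    rintro _ ⟨x, hx, rfl⟩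
    refine (mem_zSub h).2 ?_
    show (n : G) * x * (n : G)⁻¹ * ((n : G) * x * (n : G)⁻¹) = 1
    rw [show (n : G) * x * (n : G)⁻¹ * ((n : G) * x * (n : G)⁻¹) =
      (n : G) * ((x : G) * x) * (n : G)⁻¹ by group, (mem_zSub h).1 hx, mul_one,
      mul_inv_cancel])).toEquiv
  map_one' := Equiv.ext fun q => by
    induction q using QuotientGroup.induction_on with
    | H x => simp
  map_mul' a b := Equiv.ext fun q => by
    induction q using QuotientGroup.induction_on with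
    | H x => simp [map_mul]

theorem quotPerm_mk (n : ↥(normalizer ((S : Subgroup G) : Set G))) (x : ↥(S : Subgroup G)) :
    quotPerm h n (x : ↥(S : Subgroup G) ⧸ zSub h) =
      (((⟨(n : G) * x * (n : G)⁻¹, (mem_normalizer_iff.1 n.2 x.1).1 x.2⟩ : ↥(S : Subgroup G))) :
        ↥(S : Subgroup G) ⧸ zSub h) := rfl

theorem quotPerm_fix_iff (n : ↥(normalizer ((S : Subgroup G) : Set G))) (x : ↥(S : Subgroup G)) :
    quotPerm h n (x : ↥(S : Subgroup G) ⧸ zSub h) = x ↔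
      (n : G) * x * (n : G)⁻¹ * (x : G)⁻¹ * ((n : G) * x * (n : G)⁻¹ * (x : G)⁻¹) = 1 := by
  rw [quotPerm_mk, ← mul_inv_eq_one, ← QuotientGroup.mk_inv, ← QuotientGroup.mk_mul,
    QuotientGroup.eq_one_iff, mem_zSub]
  rfl

theorem quotPerm_of_mem (n : ↥(normalizer ((S : Subgroup G) : Set G)))
    (hn : (n : G) ∈ (S : Subgroup G)) : quotPerm h n = 1 := by
  refine Equiv.ext fun q => ?_
  induction q using QuotientGroup.induction_on with
  | H x =>
    rw [Equiv.Perm.one_apply, quotPerm_fix_iff]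
    exact congrArg Subtype.val (h.comm_sq ⟨n, hn⟩ x)

theorem quotPerm_of_cent (n : ↥(normalizer ((S : Subgroup G) : Set G)))
    (hn : (n : G) ∈ centralizer ((S : Subgroup G) : Set G)) : quotPerm h n = 1 := by
  refine Equiv.ext fun q => ?_
  induction q using QuotientGroup.induction_on with
  | H x =>
    rw [Equiv.Perm.one_apply, quotPerm_fix_iff, ← mem_centralizer_iff.1 hn x x.2,
      mul_inv_cancel_right, mul_inv_cancel, one_mul]

end

/-- In a simple group with this Sylow 2-subgroup no involution of it is isolated. -/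
theorem exists_moved [IsSimpleGroup G] (S : Sylow 2 G) (h : Facts ↥(S : Subgroup G) 2) {e : G}
    (he2 : e * e = 1) (he1 : e ≠ 1) : ∃ g : G, g * e * g⁻¹ ∈ (S : Subgroup G) ∧ g * e * g⁻¹ ≠ e := by
  haveI : Fact (Nat.Prime 2) := ⟨Nat.prime_two⟩
  by_contra hno
  push Not at hno
  obtain ⟨N, hN, hNodd, hNc⟩ := ZStar.zstar_of_sylow S (Invol.orderOf_eq_two he2 he1) hno
  rcases hN.eq_bot_or_eq_top with hb | ht
  · have hec : e ∈ center G := mem_center_iff.2 fun g => by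
      have h1 := hNc g
      rw [hb, mem_bot] at h1
      exact (mul_inv_eq_iff_eq_mul.1 (mul_inv_eq_one.1 h1)).symm
    rcases (inferInstance : (center G).Normal).eq_bot_or_eq_top with hb' | ht'
    · exact he1 (mem_bot.1 (hb' ▸ hec))
    · obtain ⟨x, hx⟩ : ∃ x : ↥(S : Subgroup G), x * x ≠ 1 := by
        by_contra hall
        push Not at hall
        have h1 : Nat.card {g : ↥(S : Subgroup G) // g * g = 1} = Nat.card ↥(S : Subgroup G) :=
          Nat.card_congr (Equiv.subtypeUnivEquiv hall)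
        rw [h.card_inv, h.card] at h1
        norm_num at h1
      have h1 : Nat.card {g : ↥(S : Subgroup G) // g * x = x * g} = Nat.card ↥(S : Subgroup G) :=
        Nat.card_congr (Equiv.subtypeUnivEquiv fun g => Subtype.ext
          (mem_center_iff.1 (ht' ▸ mem_top (x : G) : (x : G) ∈ center G) g))
      rw [h.cent_card x hx, h.card] at h1
      norm_num at h1
  · refine Nat.not_even_iff_odd.2 hNodd (even_iff_two_dvd.2 ?_)
    rw [ht, card_top]
    exact Invol.orderOf_eq_two he2 he1 ▸ orderOf_dvd_natCard e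

/-- The centralizer of an involution of the centre of `S`, as `O(C(z)) N(S)`. -/
theorem cent_decomp (S : Sylow 2 G) (h : Facts ↥(S : Subgroup G) 2) {z : G}
    (hzS : z ∈ (S : Subgroup G)) (hz2 : z * z = 1) (hz1 : z ≠ 1) :
    (∀ c ∈ centralizer ({z} : Set G), ∃ o ∈ coreCent z,
      ∃ m ∈ normalizer ((S : Subgroup G) : Set G), m ∈ centralizer ({z} : Set G) ∧ c = o * m) ∧
    (∀ n ∈ normalizer ((S : Subgroup G) : Set G), n ∈ centralizer ({z} : Set G) →
      ∀ e ∈ (S : Subgroup G), e * e = 1 → Commute n e) ∧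
    (∀ n : G, Odd (orderOf n) → n ∈ centralizer ((S : Subgroup G) : Set G) → n ∈ coreCent z) := by
  haveI : Fact (Nat.Prime 2) := ⟨Nat.prime_two⟩
  set H := centralizer ({z} : Set G) with hH
  have hSH : (S : Subgroup G) ≤ H := fun s hs => mem_centralizer_singleton_iff.2
    (congrArg Subtype.val (h.central ⟨z, hzS⟩ (Subtype.ext hz2) ⟨s, hs⟩) :).symm
  let SH : Sylow 2 H := S.subtype hSH
  have hSHf : Facts ↥(SH : Subgroup H) 2 := h.congr (subgroupOfEquivOfLe hSH).symm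
  let zH : H := ⟨z, hSH hzS⟩
  have hzc : zH ∈ center H := mem_center_iff.2 fun g =>
    Subtype.ext (mem_centralizer_singleton_iff.1 g.2)
  have hz2' : zH * zH = 1 := Subtype.ext hz2
  have hz1' : zH ≠ 1 := fun e => hz1 (congrArg Subtype.val e)
  have hdec := decomp_of_central_invol SH hSHf (z := zH) hzS hz2' hz1' hzc
  have hcoe : ∀ o ∈ Cfsg.oddCore H, (o : G) ∈ coreCent z := fun o ho => ⟨o, ho, rfl⟩
  refine ⟨fun c hc => ?_, fun n hn hnz e he he2 => ?_, fun n hno hn => ?_⟩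
  · obtain ⟨o, ho, m, hm, hcm⟩ := hdec ⟨c, hc⟩
    refine ⟨o, hcoe o ho, m, mem_normalizer_iff.2 fun k => ?_, m.2, congrArg Subtype.val hcm⟩
    constructor
    · exact fun hk => (mem_normalizer_iff.1 hm ⟨k, hSH hk⟩).1 hk
    · intro hk
      have hkH : k ∈ H := by
        have := mul_mem (mul_mem (inv_mem m.2) (hSH hk)) m.2
        simpa [mul_assoc] using this
      exact (mem_normalizer_iff.1 hm ⟨k, hkH⟩).2 hk
  · have h1 := central_mod_core SH hSHf (z := zH) hzS hz2' hz1' hzc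
      (e := ⟨e, hSH he⟩) he (Subtype.ext he2) ⟨n, hnz⟩
    have h2 : e * n * e⁻¹ * n⁻¹ ∈ coreCent z := hcoe _ h1
    have h3 : e * n * e⁻¹ * n⁻¹ ∈ (S : Subgroup G) := by
      rw [show e * n * e⁻¹ * n⁻¹ = e * (n * e⁻¹ * n⁻¹) by group]
      exact mul_mem he ((mem_normalizer_iff.1 hn e⁻¹).1 (inv_mem he))
    obtain ⟨i, hi⟩ := S.2 ⟨_, h3⟩
    exact ((mul_inv_eq_iff_eq_mul.1 (mul_inv_eq_one.1
      (eq_one_of_mem_odd (U3Type.odd_core z) h2 (congrArg Subtype.val hi :))))).symm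
  · have hnH : n ∈ H := mem_centralizer_singleton_iff.2 (mem_centralizer_iff.1 hn z hzS).symm
    exact hcoe _ (mem_oddCore_of_centralizes SH hdec (m := ⟨n, hnH⟩) (by rwa [orderOf_mk])
      (mem_centralizer_iff.2 fun k hk => Subtype.ext (mem_centralizer_iff.1 hn k.1 hk)))

/-- An element of `N(S)` permuting the three involutions cyclically. -/
theorem exists_rho [IsSimpleGroup G] (S : Sylow 2 G) (h : Facts ↥(S : Subgroup G) 2) :
    ∃ z w r : G, z ∈ invSub h ∧ w ∈ invSub h ∧ z ≠ 1 ∧ w ≠ 1 ∧ z ≠ w ∧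
      r ∈ normalizer ((S : Subgroup G) : Set G) ∧ r * z * r⁻¹ = w ∧ r * w * r⁻¹ = z * w := by
  haveI : Fact (Nat.Prime 2) := ⟨Nat.prime_two⟩
  obtain ⟨z, hz, hz1⟩ : ∃ z ∈ invSub h, z ≠ 1 := by
    by_contra hno
    push Not at hno
    have h1 : invSub h = ⊥ := (eq_bot_iff_forall _).2 hno
    have h2 := card_invSub h
    rw [h1, card_bot] at h2
    norm_num at h2
  obtain ⟨g, hg, hgz⟩ := exists_moved S h hz.2 hz1
  set w := g * z * g⁻¹ with hw
  have hw2 : w * w = 1 := by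
    rw [hw, show g * z * g⁻¹ * (g * z * g⁻¹) = g * (z * z) * g⁻¹ by group, hz.2, mul_one,
      mul_inv_cancel]
  have hw1 : w ≠ 1 := fun e => hz1 (conj_eq_one_iff.1 e)
  have hcent : ∀ k ∈ invSub h, k ∈ centralizer ((S : Subgroup G) : Set G) :=
    fun k hk => mem_centralizer_iff.2 fun s hs =>
      (congrArg Subtype.val (h.central ⟨k, hk.1⟩ (Subtype.ext hk.2) ⟨s, hs⟩) :).symm
  obtain ⟨n, hn, hne⟩ := Sylow.conj_eq_normalizer_conj_of_mem_centralizer S z g⁻¹ (hcent z hz)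
    (by rw [inv_inv]; exact hcent w ⟨hg, hw2⟩)
  rw [inv_inv] at hne
  obtain ⟨s, hs, r, hr, hro, hsr, -⟩ := exists_parts S (inv_mem hn)
  have hrz : r * z * r⁻¹ = w := by
    have hc : s * w = w * s := mem_centralizer_iff.1 (hcent w ⟨hg, hw2⟩) s hs
    calc r * z * r⁻¹ = s⁻¹ * (s * r * z * (s * r)⁻¹) * s := by group
      _ = s⁻¹ * (n⁻¹ * z * n) * s := by rw [← hsr, inv_inv]
      _ = s⁻¹ * (s * w) := by rw [← hne, mul_assoc, hc]
      _ = w := inv_mul_cancel_left _ _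
  have hrw2 : r * w * r⁻¹ * (r * w * r⁻¹) = 1 := by
    rw [show r * w * r⁻¹ * (r * w * r⁻¹) = r * (w * w) * r⁻¹ by group, hw2, mul_one, mul_inv_cancel]
  refine ⟨z, w, r, hz, ⟨hg, hw2⟩, hz1, hw1, Ne.symm hgz, hr, hrz, ?_⟩
  have hz4 : Nat.card (invSub h) = 4 := by rw [card_invSub h]; norm_num
  rcases four_cases hz4 (a := z) (b := w) (c := r * w * r⁻¹) hz ⟨hg, hw2⟩
    ⟨(mem_normalizer_iff.1 hr w).1 hg, hrw2⟩ hz1 hw1 (Ne.symm hgz) (fun e => hgz (by
      calc w = z * z * w := by rw [hz.2, one_mul]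
        _ = z := by rw [mul_assoc, e, mul_one])) with h1 | h1 | h1 | h1
  · exact absurd (conj_eq_one_iff.1 h1) hw1
  · refine absurd ?_ hgz
    have h2 : Commute (r * r) z := by
      refine (mul_inv_eq_iff_eq_mul.1 ?_ : r * r * z = z * (r * r))
      calc r * r * z * (r * r)⁻¹ = r * (r * z * r⁻¹) * r⁻¹ := by group
        _ = z := by rw [hrz, h1]
    rw [(commute_of_sq hro h2).eq, mul_inv_cancel_right] at hrz
    exact hrz.symm
  · exact absurd (mul_left_cancel (mul_right_cancel (h1.trans hrz.symm))) hgz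
  · exact h1

/-- Exponents of an automorphism of order dividing three of a group of order five. -/
theorem five_dvd_sub_one {j : ℤ} (hj : (5 : ℤ) ∣ j * (j * j) - 1) : (5 : ℤ) ∣ j - 1 := by
  have key : ∀ a : ZMod 5, a * (a * a) - 1 = 0 → a - 1 = 0 := by decide
  have h1 : ((j * (j * j) - 1 : ℤ) : ZMod 5) = 0 := (ZMod.intCast_zmod_eq_zero_iff_dvd _ 5).2 hj
  push_cast at h1
  have h2 : ((j - 1 : ℤ) : ZMod 5) = 0 := by
    push_cast
    exact key _ h1
  exact (ZMod.intCast_zmod_eq_zero_iff_dvd _ 5).1 h2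

/-- A simple group with a Sylow 2-subgroup of type U₃(4) has one of the two shapes. -/
theorem exists_ctx [IsSimpleGroup G] (S : Sylow 2 G) (h : Facts ↥(S : Subgroup G) 2) :
    (∃ C : Ctx G, C.S = S) ∨ (∃ C : CtxThree G, C.S = S) := by
  classical
  haveI : Fact (Nat.Prime 2) := ⟨Nat.prime_two⟩
  obtain ⟨z, w, r, hz, hw, hz1, hw1, hzw, hr, hrz, hrw⟩ := exists_rho S h
  obtain ⟨hdec, hNZ, hCS⟩ := cent_decomp S h hz.1 hz.2 hz1
  set H := centralizer ({z} : Set G) with hH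
  have hcen : ∀ x ∈ (S : Subgroup G), ∀ e ∈ invSub h, Commute x e := fun x hx e he =>
    (congrArg Subtype.val (h.central ⟨e, he.1⟩ (Subtype.ext he.2) ⟨x, hx⟩) :).symm
  have hSH : (S : Subgroup G) ≤ H := fun s hs =>
    mem_centralizer_singleton_iff.2 (hcen s hs z hz).eq
  have hsqsq : ∀ g ∈ (S : Subgroup G), g * g ∈ invSub h := fun g hg =>
    ⟨mul_mem hg hg, congrArg Subtype.val (h.sq_sq ⟨g, hg⟩)⟩
  have hfull : ∀ x ∈ (S : Subgroup G), x ∉ invSub h → ∀ y ∈ invSub h,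
      ∃ v ∈ (S : Subgroup G), v * x * v⁻¹ * x⁻¹ = y := by
    intro x hx hxZ y hy
    let φ : ↥(S : Subgroup G) →* invSub h := MonoidHom.mk'
      (fun v => ⟨(v : G) * x * (v : G)⁻¹ * x⁻¹,
        mul_mem (mul_mem (mul_mem v.2 hx) (inv_mem v.2)) (inv_mem hx),
        congrArg Subtype.val (h.comm_sq v ⟨x, hx⟩)⟩) fun a b => Subtype.ext (by
        show ((a : G) * b) * x * ((a : G) * b)⁻¹ * x⁻¹ =
          (a : G) * x * (a : G)⁻¹ * x⁻¹ * ((b : G) * x * (b : G)⁻¹ * x⁻¹)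
        have hc : Commute ((a : G) * x * (a : G)⁻¹ * x⁻¹) ((b : G) * x * (b : G)⁻¹ * x⁻¹) :=
          hcen _ (mul_mem (mul_mem (mul_mem a.2 hx) (inv_mem a.2)) (inv_mem hx)) _
            ⟨mul_mem (mul_mem (mul_mem b.2 hx) (inv_mem b.2)) (inv_mem hx),
              congrArg Subtype.val (h.comm_sq b ⟨x, hx⟩)⟩
        have hc2 : Commute (a : G) ((b : G) * x * (b : G)⁻¹ * x⁻¹) := hcen _ a.2 _
            ⟨mul_mem (mul_mem (mul_mem b.2 hx) (inv_mem b.2)) (inv_mem hx),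
              congrArg Subtype.val (h.comm_sq b ⟨x, hx⟩)⟩
        calc (a : G) * b * x * ((a : G) * b)⁻¹ * x⁻¹
            = (a : G) * ((b : G) * x * (b : G)⁻¹ * x⁻¹) * x * (a : G)⁻¹ * x⁻¹ := by group
          _ = ((b : G) * x * (b : G)⁻¹ * x⁻¹) * ((a : G) * x * (a : G)⁻¹ * x⁻¹) := by
            rw [hc2.eq]; group
          _ = _ := hc.eq.symm)
    have hker : Nat.card φ.ker = 16 := by
      rw [show (16 : ℕ) = (2 ^ 2) ^ 2 by norm_num,
        ← h.cent_card ⟨x, hx⟩ fun e => hxZ ⟨hx, congrArg Subtype.val e⟩]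
      exact Nat.card_congr (Equiv.subtypeEquivRight fun v => by
        rw [MonoidHom.mem_ker]
        constructor
        · intro e
          exact Subtype.ext (mul_inv_eq_iff_eq_mul.1 (mul_inv_eq_one.1 (congrArg Subtype.val e)))
        · intro e
          refine Subtype.ext ?_
          show (v : G) * x * (v : G)⁻¹ * x⁻¹ = 1
          rw [show (v : G) * x = x * v from congrArg Subtype.val e, mul_inv_cancel_right,
            mul_inv_cancel])
    have h1 := φ.ker.card_mul_index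
    rw [index_ker, hker, h.card] at h1
    have hr4 : Nat.card φ.range = Nat.card (invSub h) := by
      rw [card_invSub h]
      norm_num at h1 ⊢
      omega
    obtain ⟨v, hv⟩ := (eq_top_of_card_eq φ.range hr4).ge (mem_top (⟨y, hy⟩ : invSub h))
    exact ⟨v, v.2, congrArg Subtype.val hv⟩
  let mkBase : (ρ : G) → ρ ∈ normalizer ((S : Subgroup G) : Set G) → ρ * z * ρ⁻¹ = w →
      ρ * w * ρ⁻¹ = z * w → Base G := fun ρ h1 h2 h3 =>
    { S := S
      Z := invSub h
      z := z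
      w := w
      ρ := ρ
      Z_le := invSub_le h
      card_S := by rw [h.card]; norm_num
      card_Z := by rw [card_invSub h]; norm_num
      z_mem := hz
      w_mem := hw
      z_ne := hz1
      w_ne := hw1
      zw_ne := hzw
      invol := fun x hx => ⟨fun e => ⟨hx, e⟩, fun e => e.2⟩
      sq_mem := hsqsq
      central := hcen
      full := hfull
      ρ_mem := h1
      ρ_z := h2
      ρ_w := h3 }
  -- an element of `N(S) ∩ H` of odd order fixing a point outside the involutions centralizes `S`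
  have hrig : ∀ m : ↥(normalizer ((S : Subgroup G) : Set G)), (m : G) ∈ H → Odd (orderOf (m : G)) →
      ∀ x : ↥(S : Subgroup G), (x : G) * x ≠ 1 →
        quotPerm h m (x : ↥(S : Subgroup G) ⧸ zSub h) = x →
          (m : G) ∈ centralizer ((S : Subgroup G) : Set G) := fun m hm hmo x hx2 hfix =>
    cent_of_fix h m.2 hmo (hNZ m m.2 hm) x.2 hx2 ((quotPerm_fix_iff h m x).1 hfix)
  by_cases hthree : ∀ m ∈ normalizer ((S : Subgroup G) : Set G), m ∈ H → Odd (orderOf m) →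
      m ∈ centralizer ((S : Subgroup G) : Set G)
  · refine Or.inr ⟨{ toBase := mkBase r hr hrz hrw, cent_eq := ?_ }, rfl⟩
    refine le_antisymm (fun c hc => ?_) (sup_le (map_subtype_le _) hSH)
    obtain ⟨o, ho, n, hn, hnH, rfl⟩ := hdec c hc
    obtain ⟨s, hs, m, hm, hmo, rfl, -⟩ := exists_parts S hn
    have hmH : m ∈ H := by simpa using mul_mem (inv_mem (hSH hs)) hnH
    exact mul_mem (mem_sup_left ho)
      (mul_mem (mem_sup_right hs) (mem_sup_left (hCS m hmo (hthree m hm hmH hmo))))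
  push Not at hthree
  obtain ⟨f₀, hf₀, hf₀H, hf₀o, hf₀C⟩ := hthree
  let N := normalizer ((S : Subgroup G) : Set G)
  let ψ : ↥N →* Equiv.Perm (↥(S : Subgroup G) ⧸ zSub h) := quotPerm h
  set K : Subgroup (Equiv.Perm (↥(S : Subgroup G) ⧸ zSub h)) :=
    (H.subgroupOf N).map ψ with hK
  -- reduction to odd order
  have hodd : ∀ n : ↥N, (n : G) ∈ H → ∃ m : ↥N, (m : G) ∈ H ∧ Odd (orderOf (m : G)) ∧
      ψ n = ψ m ∧ ∃ s ∈ (S : Subgroup G), (n : G) = s * m := fun n hn => by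
    obtain ⟨s, hs, m, hm, hmo, hsm, -⟩ := exists_parts S n.2
    refine ⟨⟨m, hm⟩, ?_, hmo, ?_, s, hs, hsm⟩
    · show m ∈ H
      have := mul_mem (inv_mem (hSH hs)) hn
      rwa [hsm, inv_mul_cancel_left] at this
    · have hn' : n = ⟨s, le_normalizer hs⟩ * ⟨m, hm⟩ := Subtype.ext hsm
      rw [hn', map_mul, show ψ ⟨s, le_normalizer hs⟩ = 1 from quotPerm_of_mem h _ hs, one_mul]
  have hsemi : ∀ k ∈ K, ∀ x : ↥(S : Subgroup G), (x : G) * x ≠ 1 →
      k (x : ↥(S : Subgroup G) ⧸ zSub h) = x → k = 1 := by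
    rintro _ ⟨n, hn, rfl⟩ x hx2 hfix
    obtain ⟨m, hm, hmo, hψ, -⟩ := hodd n hn
    rw [hψ] at hfix ⊢
    exact quotPerm_of_cent h m (hrig m hm hmo x hx2 hfix)
  -- the classes with square `z`
  let Q := ↥(S : Subgroup G) ⧸ zSub h
  let sqv : Q → G := Quotient.lift (fun x : ↥(S : Subgroup G) => (x : G) * x) fun a b hab => by
    have he : a⁻¹ * b ∈ zSub h := QuotientGroup.leftRel_apply.1 hab
    obtain ⟨e, he', rfl⟩ : ∃ e ∈ zSub h, b = a * e := ⟨_, he, (mul_inv_cancel_left a b).symm⟩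
    have hc := (hcen (a : G) a.2 (e : G) ⟨e.2, (mem_zSub h).1 he'⟩).eq
    show (a : G) * a = (a : G) * e * ((a : G) * e)
    rw [show (a : G) * e * ((a : G) * e) = (a : G) * ((e : G) * a) * e by group, ← hc,
      show (a : G) * ((a : G) * e) * e = (a : G) * a * ((e : G) * e) by group,
      (mem_zSub h).1 he', mul_one]
  have hsqv : ∀ x : ↥(S : Subgroup G), sqv (x : Q) = (x : G) * x := fun x => rfl
  have hψsq : ∀ (n : ↥N) (q : Q), sqv (ψ n q) = (n : G) * sqv q * (n : G)⁻¹ := by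
    intro n q
    induction q using QuotientGroup.induction_on with
    | H x =>
      show (n : G) * x * (n : G)⁻¹ * ((n : G) * x * (n : G)⁻¹) =
        (n : G) * ((x : G) * x) * (n : G)⁻¹
      group
  haveI := Fintype.ofFinite Q
  let rN : ↥N := ⟨r, hr⟩
  let Fz := {q : Q // sqv q = z}
  have hFz : Nat.card Fz = 5 := by
    let fib : G → Finset Q := fun e => Finset.univ.filter fun q => sqv q = e
    have h0 : (fib 1).card = 1 := by
      rw [Finset.card_eq_one]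
      refine ⟨1, Finset.ext fun q => ?_⟩
      simp only [fib, Finset.mem_filter, Finset.mem_univ, true_and, Finset.mem_singleton]
      induction q using QuotientGroup.induction_on with
      | H x => rw [hsqv, QuotientGroup.eq_one_iff, mem_zSub]
    have hmove : ∀ e : G, (fib e).card = (fib (r * e * r⁻¹)).card := fun e => by
      refine Finset.card_equiv (ψ rN) fun q => ?_
      simp only [fib, Finset.mem_filter, Finset.mem_univ, true_and]
      rw [hψsq]
      exact ⟨fun e' => by rw [e'], fun e' => mul_left_cancel (mul_right_cancel e')⟩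
    have h1 := hmove z
    rw [hrz] at h1
    have h2 := hmove w
    rw [hrw] at h2
    have hsum := Finset.card_eq_sum_card_fiberwise (f := sqv) (s := (Finset.univ : Finset Q))
      (t := ({1, z, w, z * w} : Finset G)) fun q _ => by
        induction q using QuotientGroup.induction_on with
        | H x =>
          rw [hsqv]
          have hz4 : Nat.card (invSub h) = 4 := by rw [card_invSub h]; norm_num
          have h4 := four_cases hz4 (a := z) (b := w) hz hw (hsqsq x x.2) hz1 hw1 hzw fun e =>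
            hzw (by rw [← mul_inv_eq_one, inv_eq_of_mul_eq_one_right hw.2, e])
          simp only [Finset.mem_coe, Finset.mem_insert, Finset.mem_singleton]
          exact h4
    have hzw1 : z * w ≠ 1 := fun e =>
      hzw (by rw [← mul_inv_eq_one, inv_eq_of_mul_eq_one_right hw.2, e])
    rw [Finset.sum_insert (by simp [Ne.symm hz1, Ne.symm hw1, Ne.symm hzw1]),
      Finset.sum_insert (by simp [hzw, hw1]),
      Finset.sum_insert (by simp [hz1]), Finset.sum_singleton] at hsum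
    have hQ : (Finset.univ : Finset Q).card = 16 := by
      rw [Finset.card_univ, ← Nat.card_eq_fintype_card]
      have h3 := card_eq_card_quotient_mul_card_subgroup (zSub h)
      rw [h.card, show Nat.card (zSub h) = 4 by
        rw [zSub, Nat.card_congr (subgroupOfEquivOfLe (invSub_le h)).toEquiv, card_invSub h]
        norm_num] at h3
      change (2 ^ 2) ^ 3 = Nat.card Q * 4 at h3
      have h64 : ((2 : ℕ) ^ 2) ^ 3 = 64 := by norm_num
      omega
    have hFc : Nat.card Fz = (fib z).card := by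
      rw [Nat.card_eq_fintype_card, Fintype.card_subtype]
    simp only [fib] at h0 h1 h2 hFc
    rw [hQ] at hsum
    omega
  obtain ⟨x₀, hx₀⟩ : ∃ x : ↥(S : Subgroup G), (x : G) * x = z := by
    obtain ⟨x, hx⟩ := h.exists_sqrt ⟨z, hz.1⟩ (Subtype.ext hz.2)
    exact ⟨x, congrArg Subtype.val hx⟩
  have hKF : ∀ k ∈ K, ∀ q : Q, sqv q = z → sqv (k q) = z := by
    rintro _ ⟨n, hn, rfl⟩ q hq
    rw [hψsq, hq, mem_centralizer_singleton_iff.1 (show (n : G) ∈ H from hn), mul_inv_cancel_right]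
  have hKle : Nat.card K ≤ 5 := by
    rw [← hFz]
    refine Nat.card_le_card_of_injective
      (fun k => (⟨k.1 (x₀ : Q), hKF k.1 k.2 _ hx₀⟩ : Fz)) fun a b e => ?_
    have e' : a.1 (x₀ : Q) = b.1 (x₀ : Q) := congrArg Subtype.val e
    have h1 := hsemi _ (mul_mem (inv_mem b.2) a.2) x₀ (by rw [hx₀]; exact hz1) (by
      rw [Equiv.Perm.mul_apply, e', ← Equiv.Perm.mul_apply, inv_mul_cancel, Equiv.Perm.one_apply])
    exact Subtype.ext (inv_mul_eq_one.1 h1).symm
  have hKodd : Odd (Nat.card K) := odd_card_of_orderOf fun k hk => by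
    obtain ⟨n, hn, rfl⟩ := hk
    obtain ⟨m, hm, hmo, hψ, -⟩ := hodd n hn
    rw [hψ]
    exact hmo.of_dvd_nat (orderOf_coe m ▸ orderOf_map_dvd ψ m)
  set κ := ψ ⟨f₀, hf₀⟩ with hκ
  have hκK : κ ∈ K := ⟨⟨f₀, hf₀⟩, hf₀H, rfl⟩
  have hκ1 : κ ≠ 1 := fun e => hf₀C (hrig ⟨f₀, hf₀⟩ hf₀H hf₀o x₀ (by rw [hx₀]; exact hz1)
    (by show κ (x₀ : Q) = _; rw [e, Equiv.Perm.one_apply]))
  have hK5 : Nat.card K = 5 := by
    have hne1 : Nat.card K ≠ 1 := fun e => hκ1 (mem_bot.1 (card_eq_one.1 e ▸ hκK))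
    have hne3 : Nat.card K ≠ 3 := by
      intro e
      haveI : Fact (Nat.Prime 3) := ⟨Nat.prime_three⟩
      have h3 : κ ^ 3 = 1 := orderOf_dvd_iff_pow_eq_one.1 (e ▸ orderOf_dvd_natCard K hκK)
      have hpres : ∀ q : Q, sqv (κ q) = z ↔ sqv q = z := fun q => by
        refine ⟨fun hq => ?_, hKF κ hκK q⟩
        have := hKF _ (inv_mem hκK) _ hq
        rwa [← Equiv.Perm.mul_apply, inv_mul_cancel, Equiv.Perm.one_apply] at this
      obtain ⟨⟨q, hq⟩, hfix⟩ := Equiv.Perm.exists_fixed_point_of_prime (p := 3) (n := 1)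
        (show ¬ 3 ∣ Fintype.card Fz by rw [← Nat.card_eq_fintype_card, hFz]; norm_num)
        (σ := κ.subtypePerm hpres) (by
          rw [pow_one, Equiv.Perm.subtypePerm_pow]
          ext q
          simp [h3])
      induction q using QuotientGroup.induction_on with
      | H x => exact hκ1 (hsemi κ hκK x (fun e' => hz1 (by rw [← hq, hsqv, e']))
          (congrArg Subtype.val hfix))
    obtain ⟨j, hj⟩ := hKodd
    omega
  haveI : Fact (Nat.Prime 5) := ⟨by norm_num⟩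
  have hκ5 : κ ^ 5 = 1 := orderOf_dvd_iff_pow_eq_one.1 (hK5 ▸ orderOf_dvd_natCard K hκK)
  have hKgen : ∀ a ∈ K, a ≠ 1 → ∀ b ∈ K, ∃ i : ℤ, a ^ i = b := fun a ha ha1 b hb => by
    have := mem_zpowers_of_prime_card (G := K) (p := 5) hK5 (g := ⟨a, ha⟩) (g' := ⟨b, hb⟩)
      fun e => ha1 (congrArg Subtype.val e)
    obtain ⟨i, hi⟩ := mem_zpowers_iff.1 this
    exact ⟨i, by simpa using congrArg Subtype.val hi⟩
  -- `ρ` commutes with `f₀` modulo the kernel
  set σ := ψ rN with hσ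
  have hr3 : ∀ n : G, n * z * n⁻¹ = w → n * w * n⁻¹ = z * w → n * n * n ∈ H ∧
      n * n * n * w * (n * n * n)⁻¹ = w := fun n h1 h2 => by
    have h3 : n * (z * w) * n⁻¹ = z := by
      rw [show n * (z * w) * n⁻¹ = n * z * n⁻¹ * (n * w * n⁻¹) by group, h1, h2,
        ← mul_assoc, (hcen w hw.1 z hz).eq, mul_assoc, hw.2, mul_one]
    refine ⟨mem_centralizer_singleton_iff.2 (mul_inv_eq_iff_eq_mul.1 ?_), ?_⟩
    · calc n * n * n * z * (n * n * n)⁻¹ = n * (n * (n * z * n⁻¹) * n⁻¹) * n⁻¹ := by group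
        _ = z := by rw [h1, h2, h3]
    · calc n * n * n * w * (n * n * n)⁻¹ = n * (n * (n * w * n⁻¹) * n⁻¹) * n⁻¹ := by group
        _ = w := by rw [h2, h3, h1]
  have hσ3 : σ * σ * σ ∈ K := ⟨rN * rN * rN, (hr3 r hrz hrw).1, by rw [map_mul, map_mul]⟩
  have hcomm : Commute σ κ := by
    have hconj : σ * κ * σ⁻¹ ∈ K := by
      refine ⟨rN * ⟨f₀, hf₀⟩ * rN⁻¹, mem_centralizer_singleton_iff.2 ?_,
        by rw [map_mul, map_mul, map_inv]⟩
      refine mul_inv_eq_iff_eq_mul.1 ?_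
      show r * f₀ * r⁻¹ * z * (r * f₀ * r⁻¹)⁻¹ = z
      have h3 : r⁻¹ * z * r = z * w := by
        have h4 : r * (z * w) * r⁻¹ = z := by
          rw [show r * (z * w) * r⁻¹ = r * z * r⁻¹ * (r * w * r⁻¹) by group, hrz, hrw,
            ← mul_assoc, (hcen w hw.1 z hz).eq, mul_assoc, hw.2, mul_one]
        nth_rewrite 1 [← h4]
        group
      have h5 : f₀ * (z * w) * f₀⁻¹ = z * w := by
        rw [← mul_assoc, (hNZ f₀ hf₀ hf₀H z hz.1 hz.2).eq, mul_assoc z f₀,
          (hNZ f₀ hf₀ hf₀H w hw.1 hw.2).eq]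
        group
      calc r * f₀ * r⁻¹ * z * (r * f₀ * r⁻¹)⁻¹ = r * (f₀ * (r⁻¹ * z * r) * f₀⁻¹) * r⁻¹ := by group
        _ = z := by rw [h3, h5, ← h3]; group
    obtain ⟨j, hj⟩ := hKgen κ hκK hκ1 _ hconj
    obtain ⟨i, hi⟩ := hKgen κ hκK hκ1 _ hσ3
    have hpow : ∀ k : ℤ, σ * κ ^ k * σ⁻¹ = κ ^ (j * k) := fun k => by
      rw [← conj_zpow, ← hj, zpow_mul]
    have h3 : κ ^ (j * (j * j)) = κ := by
      calc κ ^ (j * (j * j)) = σ * (σ * (σ * κ * σ⁻¹) * σ⁻¹) * σ⁻¹ := by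
            rw [← hj, hpow, hpow]
        _ = σ * σ * σ * κ * (σ * σ * σ)⁻¹ := by group
        _ = κ := by rw [← hi, ((Commute.refl κ).zpow_left i).eq, mul_inv_cancel_right]
    have hord : orderOf κ = 5 := orderOf_eq_prime hκ5 hκ1
    have h5 : (5 : ℤ) ∣ j * (j * j) - 1 := by
      have h6 : κ ^ (j * (j * j) - 1) = 1 := by rw [zpow_sub, h3, zpow_one, mul_inv_cancel]
      have := orderOf_dvd_iff_zpow_eq_one.2 h6
      rwa [hord] at this
    have hj1 : κ ^ j = κ := by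
      obtain ⟨t, ht⟩ := five_dvd_sub_one h5
      rw [show j = 5 * t + 1 by omega, zpow_add, zpow_one, zpow_mul,
        show κ ^ (5 : ℤ) = 1 by exact_mod_cast hκ5, one_zpow, one_mul]
    exact mul_inv_eq_iff_eq_mul.1 (hj.symm.trans hj1)
  -- choose the element
  obtain ⟨r', hr'z, hr'w, hr'3⟩ : ∃ r' : ↥N, (r' : G) * z * (r' : G)⁻¹ = w ∧
      (r' : G) * w * (r' : G)⁻¹ = z * w ∧ ψ (r' * r' * r') ≠ 1 := by
    by_cases hc : σ * σ * σ = 1
    · refine ⟨rN * ⟨f₀, hf₀⟩, ?_, ?_, fun e => ?_⟩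
      · show r * f₀ * z * (r * f₀)⁻¹ = w
        rw [mul_assoc r f₀ z, (hNZ f₀ hf₀ hf₀H z hz.1 hz.2).eq, mul_inv_rev, ← mul_assoc r z f₀,
          ← mul_assoc, mul_inv_cancel_right, hrz]
      · show r * f₀ * w * (r * f₀)⁻¹ = z * w
        rw [mul_assoc r f₀ w, (hNZ f₀ hf₀ hf₀H w hw.1 hw.2).eq, mul_inv_rev, ← mul_assoc r w f₀,
          ← mul_assoc, mul_inv_cancel_right, hrw]
      · rw [map_mul, map_mul, map_mul, ← hκ, ← hσ] at e
        have h1 : (σ * κ) * (σ * κ) * (σ * κ) = (σ * σ * σ) * κ ^ 3 := by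
          rw [← sq, ← pow_succ, hcomm.mul_pow, pow_succ, sq]
        rw [h1, hc, one_mul] at e
        have h2 : orderOf κ ∣ 3 := orderOf_dvd_of_pow_eq_one e
        rw [orderOf_eq_prime hκ5 hκ1] at h2
        norm_num at h2
    · exact ⟨rN, hrz, hrw, by rw [map_mul, map_mul]; exact hc⟩
  obtain ⟨s, hs, ρ, hρ, hρo, hsρ, -⟩ := exists_parts S r'.2
  have hρconj : ∀ e ∈ invSub h, (r' : G) * e * (r' : G)⁻¹ = ρ * e * ρ⁻¹ := fun e he => by
    have hρe : ρ * e * ρ⁻¹ ∈ invSub h := ⟨(mem_normalizer_iff.1 hρ e).1 he.1, by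
      rw [show ρ * e * ρ⁻¹ * (ρ * e * ρ⁻¹) = ρ * (e * e) * ρ⁻¹ by group, he.2, mul_one,
        mul_inv_cancel]⟩
    rw [hsρ, show s * ρ * e * (s * ρ)⁻¹ = s * (ρ * e * ρ⁻¹) * s⁻¹ by group,
      (hcen s hs _ hρe).eq, mul_inv_cancel_right]
  have hρz : ρ * z * ρ⁻¹ = w := by rw [← hρconj z hz, hr'z]
  have hρw : ρ * w * ρ⁻¹ = z * w := by rw [← hρconj w hw, hr'w]
  set f := ρ * ρ * ρ with hf
  have hfN : f ∈ N := mul_mem (mul_mem hρ hρ) hρ
  obtain ⟨hfH, hfw⟩ := hr3 ρ hρz hρw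
  have hψρ : ψ r' = ψ ⟨ρ, hρ⟩ := by
    have : r' = ⟨s, le_normalizer hs⟩ * ⟨ρ, hρ⟩ := Subtype.ext hsρ
    rw [this, map_mul, show ψ ⟨s, le_normalizer hs⟩ = 1 from quotPerm_of_mem h _ hs, one_mul]
  have hψf : ψ ⟨f, hfN⟩ ≠ 1 := by
    rw [show (⟨f, hfN⟩ : ↥N) = ⟨ρ, hρ⟩ * ⟨ρ, hρ⟩ * ⟨ρ, hρ⟩ from rfl, map_mul, map_mul, ← hψρ,
      ← map_mul, ← map_mul]
    exact hr'3
  have hψfK : ψ ⟨f, hfN⟩ ∈ K := ⟨⟨f, hfN⟩, hfH, rfl⟩
  have hfo : Odd (orderOf f) := hρo.of_dvd_nat (by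
    rw [hf, show ρ * ρ * ρ = ρ ^ 3 by rw [pow_succ, sq]]
    exact orderOf_pow_dvd 3)
  have hf5 : f ^ 5 ∈ centralizer ((S : Subgroup G) : Set G) := by
    refine hrig (⟨f, hfN⟩ ^ 5) (pow_mem hfH 5) (hfo.of_dvd_nat (orderOf_pow_dvd 5)) x₀
      (by rw [hx₀]; exact hz1) ?_
    show ψ (⟨f, hfN⟩ ^ 5) (x₀ : Q) = _
    rw [map_pow, orderOf_dvd_iff_pow_eq_one.1 (hK5 ▸ orderOf_dvd_natCard K hψfK),
      Equiv.Perm.one_apply]
  have hfz : Commute f z := mem_centralizer_singleton_iff.1 hfH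
  refine Or.inl ⟨{
    toBase := mkBase ρ hρ hρz hρw
    f := f
    f_five := hCS _ (hfo.of_dvd_nat (orderOf_pow_dvd 5)) hf5
    f_five_S := fun x hx => (mem_centralizer_iff.1 hf5 x hx).symm
    f_odd := hfo
    f_ne := fun e => hψf (by
      rw [show (⟨f, hfN⟩ : ↥N) = 1 from Subtype.ext e, map_one])
    f_mem := hfN
    f_z := hfz
    f_w := mul_inv_eq_iff_eq_mul.1 hfw
    f_fpf := fun x hx hxZ => by
      by_contra hxn
      exact hψf (hsemi _ hψfK ⟨x, hx⟩ (fun e => hxn ⟨hx, e⟩)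
        ((quotPerm_fix_iff h ⟨f, hfN⟩ ⟨x, hx⟩).2 hxZ.2))
    ρ_f := ((Commute.refl ρ).mul_right (Commute.refl ρ)).mul_right (Commute.refl ρ)
    cent_eq := ?_ }, rfl⟩
  show centralizer ({z} : Set G) = coreCent z ⊔ (S : Subgroup G) ⊔ zpowers f
  refine le_antisymm (fun c hc => ?_)
    (sup_le (sup_le (map_subtype_le _) hSH) (zpowers_le.2 hfH))
  obtain ⟨o, ho, n, hn, hnH, rfl⟩ := hdec c hc
  refine mul_mem (mem_sup_left (mem_sup_left ho)) ?_
  obtain ⟨i, hi⟩ := hKgen _ hψfK hψf _ (⟨⟨n, hn⟩, hnH, rfl⟩ : ψ ⟨n, hn⟩ ∈ K)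
  set n' : ↥N := (⟨f, hfN⟩ ^ i)⁻¹ * ⟨n, hn⟩ with hn'
  have hn'H : (n' : G) ∈ H := by
    show (f ^ i)⁻¹ * n ∈ H
    exact mul_mem (inv_mem (zpow_mem hfH i)) hnH
  obtain ⟨m, hm, hmo, hψm, t, ht, hnm⟩ := hodd n' hn'H
  have hm1 : ψ m = 1 := by
    rw [← hψm, hn', map_mul, map_inv, map_zpow, hi, inv_mul_cancel]
  have hmC : (m : G) ∈ coreCent z := hCS m hmo (hrig m hm hmo x₀ (by rw [hx₀]; exact hz1)
    (by show ψ m (x₀ : Q) = _; rw [hm1, Equiv.Perm.one_apply]))
  have hn0 : n = f ^ i * (n' : G) := by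
    show n = f ^ i * ((f ^ i)⁻¹ * n)
    rw [mul_inv_cancel_left]
  rw [hn0, hnm]
  exact mul_mem (mem_sup_right (zpow_mem (mem_zpowers f) i))
    (mul_mem (mem_sup_left (mem_sup_right ht)) (mem_sup_left (mem_sup_left hmC)))

end CfsgLib.U34Sylow
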