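import Cfsg.Agent.U34Sylow.Setup
import Cfsg.Agent.Char.Values
import Cfsg.Agent.Char.CenterValues
import Cfsg.Agent.Char.Orthogonality

/-!
# U₃(4)-type Sylow 2-subgroups: congruences for character values

With `d = χ 1`, `a = χ z` and `c = χ x` for an element `x` of order four of the Sylow subgroup we get
`d ≡ a (mod 16)`, `0 ≤ d + 3 a` and `c ≡ a (mod 4)`.
-/

set_option autoImplicit false
set_option linter.style.haveILetI false
set_option linter.unusedSectionVars false

namespace CfsgLib.U34Sylow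

open Subgroup Finset Cfsg CfsgLib.Char
open scoped Classical ComplexConjugate

universe u

variable {G : Type u} [Group G] [Finite G]

namespace Base

variable (B : Base G)

theorem z_sq : B.z * B.z = 1 := (B.invol _ (B.Z_le B.z_mem)).2 B.z_mem

theorem w_sq : B.w * B.w = 1 := (B.invol _ (B.Z_le B.w_mem)).2 B.w_mem

theorem zw_one : B.z * B.w ≠ 1 := fun h => B.zw_ne (by
  rw [← mul_one B.z, ← B.w_sq, ← mul_assoc, h, one_mul])

/-- The centre of the Sylow subgroup, listed. -/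
noncomputable def zList : Finset G := {1, B.z, B.w, B.z * B.w}

theorem card_zList : #B.zList = 4 :=
  card_eq_four.2 ⟨1, B.z, B.w, B.z * B.w, B.z_ne.symm, B.w_ne.symm, B.zw_one.symm, B.zw_ne,
    fun h => B.w_ne (mul_eq_left.1 h.symm), fun h => B.z_ne (mul_eq_right.1 h.symm), rfl⟩

theorem mem_zList {y : G} : y ∈ B.zList ↔ y ∈ B.Z := by
  haveI : Fintype G := Fintype.ofFinite G
  suffices h : B.zList = univ.filter (· ∈ B.Z) by simp [h]
  refine eq_of_subset_of_card_le (fun x hx => mem_filter.2 ⟨mem_univ _, ?_⟩) ?_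
  · simp only [zList, Finset.mem_insert, Finset.mem_singleton] at hx
    rcases hx with rfl | rfl | rfl | rfl
    exacts [one_mem _, B.z_mem, B.w_mem, mul_mem B.z_mem B.w_mem]
  · rw [card_zList, ← Fintype.card_subtype, ← Nat.card_eq_fintype_card]
    exact B.card_Z.le

theorem sq_ne {x : G} (hx : x ∈ (B.S : Subgroup G)) (hxZ : x ∉ B.Z) : x * x ≠ 1 :=
  fun h => hxZ ((B.invol x hx).1 h)

theorem sq_cases {x : G} (hx : x ∈ (B.S : Subgroup G)) (hxZ : x ∉ B.Z) :
    x * x = B.z ∨ x * x = B.w ∨ x * x = B.z * B.w := by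
  have h := B.mem_zList.2 (B.sq_mem x hx)
  simp only [zList, Finset.mem_insert, Finset.mem_singleton] at h
  exact h.resolve_left (B.sq_ne hx hxZ)

theorem sq_mul {x y : G} (hx : x ∈ (B.S : Subgroup G)) (hy : y ∈ B.Z) :
    x * y * (x * y) = x * x := by
  calc x * y * (x * y) = x * (y * x) * y := by group
    _ = x * x * (y * y) := by rw [← (B.central x hx y hy).eq]; group
    _ = x * x := by rw [(B.invol y (B.Z_le hy)).2 hy, mul_one]

theorem conj_ρ_mem {x : G} (hx : x ∈ (B.S : Subgroup G)) :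
    B.ρ * x * B.ρ⁻¹ ∈ (B.S : Subgroup G) := (mem_normalizer_iff.1 B.ρ_mem x).1 hx

theorem conj_inv_ρ_mem {x : G} (hx : x ∈ (B.S : Subgroup G)) :
    B.ρ⁻¹ * x * B.ρ ∈ (B.S : Subgroup G) :=
  (mem_normalizer_iff.1 B.ρ_mem _).2 (by simpa [mul_assoc] using hx)

theorem conj_ρ_Z {x : G} (hx : x ∈ (B.S : Subgroup G)) :
    B.ρ * x * B.ρ⁻¹ ∈ B.Z ↔ x ∈ B.Z := by
  rw [← B.invol x hx, ← B.invol _ (B.conj_ρ_mem hx), conj_mul, conj_eq_one_iff]

theorem comm_mem {s x : G} (hs : s ∈ (B.S : Subgroup G)) (hx : x ∈ (B.S : Subgroup G)) :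
    s * x * s⁻¹ * x⁻¹ ∈ B.Z := by
  have h1 := B.sq_mem _ (mul_mem hs hx)
  have hc1 := (B.central x hx _ (inv_mem (B.sq_mem s hs))).eq
  have : s * x * s⁻¹ * x⁻¹ = s * x * (s * x) * ((s * s)⁻¹ * (x * x)⁻¹) := by
    calc s * x * s⁻¹ * x⁻¹ = s * x * s * (s * s)⁻¹ * x⁻¹ := by group
      _ = s * x * s * ((s * s)⁻¹ * x) * x⁻¹ * x⁻¹ := by group
      _ = s * x * s * (x * (s * s)⁻¹) * x⁻¹ * x⁻¹ := by rw [hc1]
      _ = _ := by group
  rw [this]
  exact mul_mem h1 (mul_mem (inv_mem (B.sq_mem s hs)) (inv_mem (B.sq_mem x hx)))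

/-- The centre inside the Sylow subgroup. -/
def N : Subgroup (B.S : Subgroup G) := B.Z.subgroupOf (B.S : Subgroup G)

theorem mem_N {x : (B.S : Subgroup G)} : x ∈ B.N ↔ (x : G) ∈ B.Z := mem_subgroupOf

instance : B.N.Normal := ⟨fun n hn g => by
  have h : g * n * g⁻¹ = n :=
    mul_inv_eq_of_eq_mul (Subtype.ext (B.central g g.2 n (B.mem_N.1 hn)))
  rwa [h]⟩

theorem card_N : Nat.card B.N = 4 :=
  (Nat.card_congr (subgroupOfEquivOfLe B.Z_le).toEquiv).trans B.card_Z

theorem card_quot : Nat.card ((B.S : Subgroup G) ⧸ B.N) = 16 := by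
  have h := card_eq_card_quotient_mul_card_subgroup B.N
  rw [B.card_N, B.card_S] at h
  omega

theorem quot_comm (a b : (B.S : Subgroup G) ⧸ B.N) : a * b = b * a := by
  induction a using QuotientGroup.induction_on with | H s =>
  induction b using QuotientGroup.induction_on with | H x =>
  rw [← mul_inv_eq_one, ← QuotientGroup.mk_mul, ← QuotientGroup.mk_mul, ← QuotientGroup.mk_inv,
    ← QuotientGroup.mk_mul, QuotientGroup.eq_one_iff, mem_N]
  simpa [mul_assoc] using B.comm_mem s.2 x.2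

theorem quot_sq (a : (B.S : Subgroup G) ⧸ B.N) : a * a = 1 := by
  induction a using QuotientGroup.induction_on with | H s =>
  rw [← QuotientGroup.mk_mul, QuotientGroup.eq_one_iff, mem_N]
  exact B.sq_mem s s.2

theorem out_notMem {k : (B.S : Subgroup G) ⧸ B.N} (hk : k ≠ 1) : ((k.out : _) : G) ∉ B.Z :=
  fun h => hk (by rw [← QuotientGroup.out_eq' k]; exact (QuotientGroup.eq_one_iff _).2 (B.mem_N.2 h))

/-- The product of an element with its conjugate under `ρ`, modulo the centre. -/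
noncomputable def twist : (B.S : Subgroup G) →* (B.S : Subgroup G) ⧸ B.N :=
  MonoidHom.mk' (fun g => (g : (B.S : Subgroup G) ⧸ B.N) *
      ((⟨B.ρ * g * B.ρ⁻¹, B.conj_ρ_mem g.2⟩ : (B.S : Subgroup G)) : (B.S : Subgroup G) ⧸ B.N))
    fun a b => by
      have e : (⟨B.ρ * (a * b : (B.S : Subgroup G)) * B.ρ⁻¹, B.conj_ρ_mem (a * b).2⟩ :
          (B.S : Subgroup G)) =
          (⟨B.ρ * a * B.ρ⁻¹, B.conj_ρ_mem a.2⟩ : (B.S : Subgroup G)) *
            ⟨B.ρ * b * B.ρ⁻¹, B.conj_ρ_mem b.2⟩ := Subtype.ext (by simp [mul_assoc])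
      letI : CommGroup ((B.S : Subgroup G) ⧸ B.N) :=
        { (inferInstance : Group ((B.S : Subgroup G) ⧸ B.N)) with mul_comm := B.quot_comm }
      rw [e, QuotientGroup.mk_mul, QuotientGroup.mk_mul]
      exact mul_mul_mul_comm _ _ _ _

theorem twist_ker : B.twist.ker = B.N := by
  refine le_antisymm (fun g hg => B.mem_N.2 ?_) fun g hg => ?_
  · rw [MonoidHom.mem_ker, twist, MonoidHom.mk'_apply, ← QuotientGroup.mk_mul,
      QuotientGroup.eq_one_iff, mem_N] at hg
    by_contra hgZ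
    have h := B.sq_mul (inv_mem g.2) hg
    simp only [Subgroup.coe_mul, inv_mul_cancel_left, conj_mul] at h
    have h' : B.ρ * (g * g : G) * B.ρ⁻¹ = g * g := by
      rw [h, ← _root_.mul_inv_rev, inv_eq_of_mul_eq_one_right
        ((B.invol _ (B.Z_le (B.sq_mem g g.2))).2 (B.sq_mem g g.2))]
    rcases B.sq_cases g.2 hgZ with e | e | e <;> rw [e] at h'
    · exact B.zw_ne (h'.symm.trans B.ρ_z)
    · exact B.z_ne (mul_eq_right.1 (B.ρ_w.symm.trans h'))
    · rw [← conj_mul, B.ρ_z, B.ρ_w] at h'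
      exact B.w_ne (mul_eq_right.1 h')
  · rw [MonoidHom.mem_ker, twist, MonoidHom.mk'_apply, (QuotientGroup.eq_one_iff _).2 hg, one_mul,
      QuotientGroup.eq_one_iff, mem_N, B.conj_ρ_Z g.2]
    exact B.mem_N.1 hg

theorem twist_surjective : Function.Surjective B.twist :=
  MonoidHom.range_eq_top.1 (Subgroup.eq_top_of_card_eq _ (by
    rw [← index_ker, twist_ker, index_eq_card]))

/-! ### Sums over the Sylow subgroup -/

theorem sum_coset [Fintype (B.S : Subgroup G)] [Fintype ((B.S : Subgroup G) ⧸ B.N)]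
    (F : G → ℂ) :
    ∑ x : (B.S : Subgroup G), F x =
      ∑ k : (B.S : Subgroup G) ⧸ B.N, ∑ y ∈ B.zList, F (((k.out : _) : G) * y) := by
  haveI : Fintype B.Z := Fintype.ofFinite _
  have e : ∀ k : (B.S : Subgroup G) ⧸ B.N, ∑ y ∈ B.zList, F (((k.out : _) : G) * y) =
      ∑ n : B.N, F ((k.out * n : (B.S : Subgroup G)) : G) := fun k =>
    (sum_subtype (p := fun y => y ∈ B.Z) B.zList (fun y => B.mem_zList) _).trans
      (Fintype.sum_equiv (subgroupOfEquivOfLe B.Z_le).toEquiv _ _ fun n => rfl).symm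
  simp only [e]
  rw [← Fintype.sum_prod_type']
  refine (Fintype.sum_bijective (fun q : ((B.S : Subgroup G) ⧸ B.N) × B.N => q.1.out * q.2)
    ((Fintype.bijective_iff_injective_and_card _).2 ⟨fun q q' h => ?_, ?_⟩) _ _ fun _ => rfl).symm
  · have h1 : q.1 = q'.1 := by
      have := congrArg (QuotientGroup.mk (s := B.N)) h
      simpa using this
    exact Prod.ext h1 (Subtype.ext (by simp only [h1] at h; exact mul_left_cancel h))
  · rw [← Nat.card_eq_fintype_card, ← Nat.card_eq_fintype_card, Nat.card_prod]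
    exact (card_eq_card_quotient_mul_card_subgroup B.N).symm

/-! ### Values of characters -/

variable {χ : G → ℂ}

theorem apply_coset (hχ : IsCharacter G χ) {x y : G} (hx : x ∈ (B.S : Subgroup G))
    (hxZ : x ∉ B.Z) (hy : y ∈ B.Z) : χ (x * y) = χ x := by
  obtain ⟨v, -, hv⟩ := B.full x hx hxZ y hy
  rw [(B.central x hx y hy).eq, ← hv, inv_mul_cancel_right]
  exact IsCharacter.isClassFunction hχ x v

theorem apply_w (hχ : IsCharacter G χ) : χ B.w = χ B.z := by
  rw [← B.ρ_z]; exact IsCharacter.isClassFunction hχ _ _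

theorem apply_zw (hχ : IsCharacter G χ) : χ (B.z * B.w) = χ B.z := by
  rw [← B.ρ_w, ← B.apply_w hχ]; exact IsCharacter.isClassFunction hχ _ _

/-- A character is an integer on the Sylow subgroup. -/
theorem exists_int (hχ : IsCharacter G χ) {x : G} (hx : x ∈ (B.S : Subgroup G)) :
    ∃ c : ℤ, χ x = c := by
  obtain ⟨s, -, hs, hk⟩ := IsCharacter.exists_roots hχ x
  have h1 : χ x = s.sum := by simpa using hk 1
  have hx4 : x ^ 4 = 1 := by
    rw [pow_succ, pow_succ, pow_succ, pow_one, mul_assoc (x * x)]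
    exact (B.invol _ (B.Z_le (B.sq_mem x hx))).2 (B.sq_mem x hx)
  have hreal : conj (χ x) = χ x := by
    rw [← IsCharacter.apply_inv hχ]
    by_cases hxZ : x ∈ B.Z
    · rw [inv_eq_of_mul_eq_one_right ((B.invol x hx).2 hxZ)]
    · rw [show x⁻¹ = x * (x * x)⁻¹ by group]
      exact B.apply_coset hχ hx hxZ (inv_mem (B.sq_mem x hx))
  have hre : ∀ r ∈ s, ∃ n : ℤ, (r.re : ℝ) = n := by
    intro r hr
    obtain ⟨j, hj⟩ := orderOf_dvd_of_pow_eq_one hx4
    have h4 : r ^ 4 = 1 := by rw [hj, pow_mul, hs r hr, one_pow]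
    have : (r - 1) * (r + 1) * (r - Complex.I) * (r + Complex.I) = 0 := by
      linear_combination h4 + (1 - r ^ 2) * Complex.I_sq
    rcases mul_eq_zero.1 this with h | h
    · rcases mul_eq_zero.1 h with h | h
      · rcases mul_eq_zero.1 h with h | h
        · exact ⟨1, by rw [sub_eq_zero.1 h]; simp⟩
        · exact ⟨-1, by rw [eq_neg_of_add_eq_zero_left h]; simp⟩
      · exact ⟨0, by rw [sub_eq_zero.1 h]; simp⟩
    · exact ⟨0, by rw [eq_neg_of_add_eq_zero_left h]; simp⟩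
  have hsum : ∀ t : Multiset ℂ, (∀ r ∈ t, ∃ n : ℤ, (r.re : ℝ) = n) → ∃ n : ℤ, (t.sum.re : ℝ) = n := by
    intro t
    induction t using Multiset.induction_on with
    | empty => exact fun _ => ⟨0, by simp⟩
    | cons r t ih =>
      intro h
      obtain ⟨n, hn⟩ := h r (Multiset.mem_cons_self r t)
      obtain ⟨m, hm⟩ := ih fun r' hr' => h r' (Multiset.mem_cons_of_mem hr')
      exact ⟨n + m, by simp [hn, hm]⟩
  obtain ⟨n, hn⟩ := hsum s hre
  refine ⟨n, ?_⟩
  rw [← h1] at hn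
  exact Complex.ext (by simpa using hn) (by simpa using Complex.conj_eq_iff_im.1 hreal)

/-- The sum of a character over a subgroup is a multiple of its order. -/
theorem exists_sum_eq {H : Type u} [Group H] [Fintype H] {θ : H → ℂ} (hθ : IsCharacter H θ) :
    ∃ n : ℕ, ∑ h : H, θ h = (Fintype.card H : ℂ) * n := by
  obtain ⟨n, hn⟩ := IsCharacter.exists_classInner_eq_natCast' hθ (isCharacter_one (G := H))
  refine ⟨n, ?_⟩
  rw [← hn, classInner_def, Nat.card_eq_fintype_card, ← mul_assoc,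
    mul_inv_cancel₀ (Nat.cast_ne_zero.2 Fintype.card_ne_zero), one_mul]
  simp

/-- The sum over the preimage of a subgroup of the quotient by the centre. -/
theorem avg (hχ : IsCharacter G χ) {d a : ℤ} (hd : χ 1 = d) (ha : χ B.z = a)
    (K : Subgroup ((B.S : Subgroup G) ⧸ B.N)) (T : Finset ((B.S : Subgroup G) ⧸ B.N))
    (hT : ∀ k, k ∈ K ↔ k = 1 ∨ k ∈ T) (h1 : (1 : (B.S : Subgroup G) ⧸ B.N) ∉ T) :
    ∃ n : ℕ, (d : ℂ) + 3 * a + 4 * ∑ k ∈ T, χ ((k.out : _) : G) = 4 * (#T + 1 : ℕ) * n := by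
  haveI : Fintype G := Fintype.ofFinite G
  haveI : Fintype ((B.S : Subgroup G) ⧸ B.N) := Fintype.ofFinite _
  set U := K.comap (QuotientGroup.mk' B.N) with hU
  haveI : Fintype U := Fintype.ofFinite _
  have key : ∀ F : G → ℂ, ∑ x : U, F ((x : (B.S : Subgroup G)) : G) =
      ∑ y ∈ B.zList, F (((1 : (B.S : Subgroup G) ⧸ B.N).out : G) * y) +
        ∑ k ∈ T, ∑ y ∈ B.zList, F (((k.out : _) : G) * y) := by
    intro F
    rw [← sum_subtype (univ.filter fun x : (B.S : Subgroup G) => (x : (B.S : Subgroup G) ⧸ B.N) ∈ K)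
      (fun x => by simp [hU, Subgroup.mem_comap]) (fun x : (B.S : Subgroup G) => F x), sum_filter]
    rw [← sum_insert h1 (f := fun k => ∑ y ∈ B.zList, F (((k.out : _) : G) * y)),
      show insert 1 T = univ.filter (· ∈ K) by ext k; simp [hT], sum_filter]
    let E : G → ℂ := fun g => if h : g ∈ (B.S : Subgroup G) then
      (if ((⟨g, h⟩ : (B.S : Subgroup G)) : (B.S : Subgroup G) ⧸ B.N) ∈ K then F g else 0) else 0
    have hE := B.sum_coset E
    simp only [E, SetLike.coe_mem, dite_true, Subtype.coe_eta] at hE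
    rw [hE]
    refine sum_congr rfl fun k _ => ?_
    have hk : ∀ y ∈ B.zList, (((k.out : _) : G) * y) ∈ (B.S : Subgroup G) ∧
        ∀ h, (((⟨((k.out : _) : G) * y, h⟩ : (B.S : Subgroup G))) : (B.S : Subgroup G) ⧸ B.N) = k := by
      intro y hy
      refine ⟨mul_mem k.out.2 (B.Z_le (B.mem_zList.1 hy)), fun h => ?_⟩
      conv_rhs => rw [← QuotientGroup.out_eq' k]
      rw [QuotientGroup.eq, mem_N]
      have : ((((k.out : _) : G) * y)⁻¹ * ((k.out : _) : G)) = y⁻¹ := by group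
      simpa [this] using inv_mem (B.mem_zList.1 hy)
    split_ifs with hK
    · exact sum_congr rfl fun y hy => by
        rw [dif_pos (hk y hy).1, if_pos (by rwa [(hk y hy).2 _])]
    · exact sum_eq_zero fun y hy => by
        rw [dif_pos (hk y hy).1, if_neg (by rwa [(hk y hy).2 _])]
  have h0 : ∑ y ∈ B.zList, χ (((1 : (B.S : Subgroup G) ⧸ B.N).out : G) * y) = d + 3 * a := by
    set o := ((1 : (B.S : Subgroup G) ⧸ B.N).out : G) with ho
    have hoZ : o ∈ B.Z := by
      rw [ho, ← mem_N, ← QuotientGroup.eq_one_iff, QuotientGroup.out_eq']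
    rw [show ∑ y ∈ B.zList, χ (o * y) = ∑ y ∈ B.zList, χ y from
      sum_nbij' (o * ·) (o⁻¹ * ·)
        (fun y hy => B.mem_zList.2 (mul_mem hoZ (B.mem_zList.1 hy)))
        (fun y hy => B.mem_zList.2 (mul_mem (inv_mem hoZ) (B.mem_zList.1 hy)))
        (fun y _ => inv_mul_cancel_left o y) (fun y _ => mul_inv_cancel_left o y) fun y _ => rfl]
    rw [zList, sum_insert, sum_insert, sum_insert, sum_singleton, B.apply_w hχ, B.apply_zw hχ, hd, ha]
    · ring
    all_goals simp [B.zw_ne, B.z_ne.symm, B.w_ne.symm, B.w_ne, B.z_ne, B.zw_one.symm]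
  have hk : ∀ k ∈ T, ∑ y ∈ B.zList, χ (((k.out : _) : G) * y) = 4 * χ ((k.out : _) : G) := fun k hk => by
    rw [sum_congr rfl fun y hy => B.apply_coset hχ k.out.2
      (B.out_notMem fun e => h1 (by rwa [← e])) (B.mem_zList.1 hy), sum_const, card_zList]
    simp
  have hcard := key fun _ => 1
  simp only [sum_const, card_zList, Finset.card_univ, nsmul_eq_mul, mul_one] at hcard
  obtain ⟨n, hn⟩ := exists_sum_eq (IsCharacter.restrict (IsCharacter.restrict hχ (B.S : Subgroup G)) U)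
  refine ⟨n, ?_⟩
  rw [key χ, h0, sum_congr rfl hk, ← mul_sum, hcard] at hn
  rw [hn]
  push_cast
  ring

theorem low (hχ : IsCharacter G χ) {d a : ℤ} (hd : χ 1 = d) (ha : χ B.z = a) : 0 ≤ d + 3 * a := by
  obtain ⟨n, hn⟩ := B.avg hχ hd ha ⊥ ∅ (by simp) (by simp)
  simp only [sum_empty, mul_zero, add_zero, Finset.card_empty] at hn
  have : d + 3 * a = 4 * n := by exact_mod_cast hn
  omega

/-- The degree is congruent to the value at an involution modulo sixteen. -/
theorem dvd_degree_sub (hχ : IsCharacter G χ) {d a : ℤ} (hd : χ 1 = d) (ha : χ B.z = a) :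
    (16 : ℤ) ∣ d - a := by
  haveI : Fintype G := Fintype.ofFinite G
  haveI : Fintype ((B.S : Subgroup G) ⧸ B.N) := Fintype.ofFinite _
  set z' : (B.S : Subgroup G) := ⟨B.z, B.Z_le B.z_mem⟩
  set w' : (B.S : Subgroup G) := ⟨B.w, B.Z_le B.w_mem⟩ with hw'
  obtain ⟨ψ, hψ, hne⟩ : ∃ ψ, IsIrrCharacter (B.S : Subgroup G) ψ ∧ ψ w' ≠ ψ 1 := by
    by_contra h
    push Not at h
    have hc := (isConj_iff_irr_eq w' 1).2 fun ψ hψ => h ψ hψ
    have e : w' = 1 := by simpa using hc
    exact B.w_ne (congrArg Subtype.val e)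
  have hcen : ∀ x : (B.S : Subgroup G), x ∈ center (B.S : Subgroup G) ↔ (x : G) ∈ B.Z := by
    refine fun x => ⟨fun hx => ?_, fun hx => mem_center_iff.2 fun g =>
      Subtype.ext (B.central g g.2 x hx)⟩
    by_contra hxZ
    obtain ⟨v, hv, hvx⟩ := B.full x x.2 hxZ B.z B.z_mem
    have := congrArg Subtype.val (mem_center_iff.1 hx ⟨v, hv⟩)
    simp only [Subgroup.coe_mul] at this
    rw [this, mul_inv_cancel_right, mul_inv_cancel] at hvx
    exact B.z_ne hvx.symm
  obtain ⟨hvan, hsq⟩ := IsIrrCharacter.vanish_of_center_commutator hψ fun g hg => by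
    obtain ⟨v, hv, hvx⟩ := B.full g g.2 (fun h => hg ((hcen g).2 h)) B.w B.w_mem
    refine ⟨⟨v, hv⟩, ?_⟩
    have e : (⟨v, hv⟩ : (B.S : Subgroup G)) * g * ⟨v, hv⟩⁻¹ * g⁻¹ = w' := Subtype.ext hvx
    rw [e]
    exact ⟨(hcen w').2 B.w_mem, hne⟩
  have hidx : (center (B.S : Subgroup G)).index = 16 := by
    rw [show center (B.S : Subgroup G) = B.N from Subgroup.ext fun x => (hcen x).trans B.mem_N.symm,
      index_eq_card, B.card_quot]
  rw [hidx] at hsq
  obtain ⟨m, -, hm⟩ := IsIrrCharacter.exists_degree hψ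
  have hm4 : m = 4 := by
    rw [hm] at hsq
    have : m ^ 2 = 4 ^ 2 := by norm_num; exact_mod_cast hsq
    exact (pow_left_inj₀ (Nat.zero_le _) (Nat.zero_le _) two_ne_zero).1 this
  -- the extension by zero of `conj ψ`
  set p : G → ℂ := fun g => if h : g ∈ (B.S : Subgroup G) then conj (ψ ⟨g, h⟩) else 0 with hp
  have hsum : ∀ F : G → ℂ, ∑ x : (B.S : Subgroup G), F x * conj (ψ x) =
      F 1 * 4 + (F B.z * p B.z + (F B.w * p B.w + F (B.z * B.w) * p (B.z * B.w))) := by
    intro F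
    have hF : ∑ x : (B.S : Subgroup G), F x * conj (ψ x) =
        ∑ x : (B.S : Subgroup G), (fun g => F g * p g) x :=
      sum_congr rfl fun x _ => by simp [hp]
    rw [hF]
    refine (B.sum_coset fun g => F g * p g).trans ?_
    rw [sum_eq_single (1 : (B.S : Subgroup G) ⧸ B.N)]
    · set o := ((1 : (B.S : Subgroup G) ⧸ B.N).out : G) with ho
      have hoZ : o ∈ B.Z := by
        rw [ho, ← mem_N, ← QuotientGroup.eq_one_iff, QuotientGroup.out_eq']
      rw [show ∑ y ∈ B.zList, F (o * y) * p (o * y) = ∑ y ∈ B.zList, F y * p y from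
        sum_nbij' (o * ·) (o⁻¹ * ·)
          (fun y hy => B.mem_zList.2 (mul_mem hoZ (B.mem_zList.1 hy)))
          (fun y hy => B.mem_zList.2 (mul_mem (inv_mem hoZ) (B.mem_zList.1 hy)))
          (fun y _ => inv_mul_cancel_left o y) (fun y _ => mul_inv_cancel_left o y) fun y _ => rfl]
      rw [zList, sum_insert, sum_insert, sum_insert, sum_singleton]
      · have h1 : p 1 = 4 := by
          have e : (⟨1, one_mem _⟩ : (B.S : Subgroup G)) = 1 := rfl
          simp [hp, e, hm, hm4, Complex.conj_ofNat]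
        rw [h1]
      all_goals simp [B.zw_ne, B.z_ne.symm, B.w_ne.symm, B.w_ne, B.z_ne, B.zw_one.symm]
    · intro k _ hk
      refine sum_eq_zero fun y hy => ?_
      have hS := mul_mem k.out.2 (B.Z_le (B.mem_zList.1 hy))
      rw [hp]
      simp only [dif_pos hS]
      rw [hvan _ fun hc => B.out_notMem hk ((mul_mem_cancel_right (B.mem_zList.1 hy)).1
        ((hcen _).1 hc)), map_zero, mul_zero]
    · simp
  have horth : (4 : ℂ) + (p B.z + (p B.w + p (B.z * B.w))) = 0 := by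
    have h := IsIrrCharacter.classInner_of_ne (isIrrCharacter_one (G := (B.S : Subgroup G))) hψ
      (fun e => hne (by rw [← e]))
    rw [classInner_def] at h
    have h' := (mul_eq_zero.1 h).resolve_left (inv_ne_zero (Nat.cast_ne_zero.2 Nat.card_pos.ne'))
    rw [hsum fun _ => 1] at h'
    simpa using h'
  obtain ⟨n, hn⟩ := IsCharacter.exists_classInner_eq_natCast
    (IsCharacter.restrict hχ (B.S : Subgroup G)) hψ
  rw [classInner_def, hsum χ, hd, B.apply_w hχ, B.apply_zw hχ, ha, B.card_S] at hn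
  refine ⟨n, ?_⟩
  have : (d : ℂ) - a = 16 * n := by
    field_simp at hn
    linear_combination hn / 4 - (a : ℂ) / 4 * horth
  exact_mod_cast this

/-- The value at an element of order four is congruent to the value at an involution modulo four. -/
theorem dvd_value_sub (hχ : IsCharacter G χ) {d a c : ℤ} (hd : χ 1 = d) (ha : χ B.z = a)
    {x : G} (hx : x ∈ (B.S : Subgroup G)) (hxZ : x ∉ B.Z) (hc : χ x = c) : (4 : ℤ) ∣ c - a := by
  have h16 := B.dvd_degree_sub hχ hd ha
  -- the value at a coset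
  have hout : ∀ g : (B.S : Subgroup G), (g : G) ∉ B.Z →
      χ (((g : (B.S : Subgroup G) ⧸ B.N).out : _) : G) = χ g := by
    intro g hg
    have h : g⁻¹ * (g : (B.S : Subgroup G) ⧸ B.N).out ∈ B.N :=
      QuotientGroup.eq.1 (QuotientGroup.out_eq' (g : (B.S : Subgroup G) ⧸ B.N)).symm
    rw [mem_N] at h
    have := B.apply_coset hχ g.2 hg h
    simpa using this
  obtain ⟨g, hg⟩ := B.twist_surjective (⟨x, hx⟩ : (B.S : Subgroup G))
  set h : (B.S : Subgroup G) := ⟨B.ρ * g * B.ρ⁻¹, B.conj_ρ_mem g.2⟩ with hh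
  set α : (B.S : Subgroup G) ⧸ B.N := (g : _ ⧸ B.N)
  set β : (B.S : Subgroup G) ⧸ B.N := (h : _ ⧸ B.N)
  have hαβ : α * β = ((⟨x, hx⟩ : (B.S : Subgroup G)) : _ ⧸ B.N) := hg
  have hne : α * β ≠ 1 := by
    rw [hαβ, Ne, QuotientGroup.eq_one_iff, mem_N]; exact hxZ
  have hgZ : (g : G) ∉ B.Z := fun hm => hne (by
    show (g : (B.S : Subgroup G) ⧸ B.N) * (h : (B.S : Subgroup G) ⧸ B.N) = 1
    rw [(QuotientGroup.eq_one_iff g).2 (B.mem_N.2 hm), one_mul, QuotientGroup.eq_one_iff, mem_N]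
    exact (B.conj_ρ_Z g.2).2 hm)
  have hhZ : (h : G) ∉ B.Z := fun hm => hgZ ((B.conj_ρ_Z g.2).1 hm)
  have hα : α ≠ 1 := fun e => hgZ (B.mem_N.1 ((QuotientGroup.eq_one_iff g).1 e))
  have hβ : β ≠ 1 := fun e => hhZ (B.mem_N.1 ((QuotientGroup.eq_one_iff h).1 e))
  have hab : α ≠ β := fun e => hne (by rw [e, B.quot_sq])
  obtain ⟨cg, hcg⟩ := B.exists_int hχ g.2
  have hch : χ h = cg := by rw [hh, ← hcg]; exact IsCharacter.isClassFunction hχ _ _
  -- the subgroup of order two
  let K₂ : Subgroup ((B.S : Subgroup G) ⧸ B.N) :=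
    { carrier := {1, α}
      one_mem' := Or.inl rfl
      mul_mem' := by rintro _ _ (rfl | rfl) (rfl | rfl) <;> simp [B.quot_sq]
      inv_mem' := by
        rintro _ (rfl | rfl)
        · simp
        · simp [inv_eq_of_mul_eq_one_right (B.quot_sq α)] }
  obtain ⟨n, hn⟩ := B.avg hχ hd ha K₂ {α} (fun k => by simp only [Finset.mem_singleton]; exact Iff.rfl) (by simp [hα.symm])
  rw [sum_singleton, hout g hgZ, hcg, Finset.card_singleton] at hn
  have h2 : d + 3 * a + 4 * cg = 8 * n := by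
    have : ((d + 3 * a + 4 * cg : ℤ) : ℂ) = ((8 * n : ℤ) : ℂ) := by push_cast at hn ⊢; rw [hn]; ring
    exact_mod_cast this
  -- the subgroup of order four
  have hba : β * α = α * β := B.quot_comm _ _
  let K₄ : Subgroup ((B.S : Subgroup G) ⧸ B.N) :=
    { carrier := {1, α, β, α * β}
      one_mem' := Or.inl rfl
      mul_mem' := by
        have e1 : α * (α * β) = β := by rw [← mul_assoc, B.quot_sq, one_mul]
        have e2 : β * (α * β) = α := by rw [← hba, ← mul_assoc, B.quot_sq, one_mul]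
        rintro _ _ (rfl | rfl | rfl | rfl) (rfl | rfl | rfl | rfl) <;>
          simp [B.quot_sq, hba, e1, e2, mul_assoc]
      inv_mem' := by
        intro k hk
        rwa [inv_eq_of_mul_eq_one_right (B.quot_sq k)] }
  obtain ⟨n', hn'⟩ := B.avg hχ hd ha K₄ {α, β, α * β} (fun k => by simp only [Finset.mem_insert, Finset.mem_singleton]; exact Iff.rfl)
    (by simp [hα.symm, hβ.symm, hne.symm])
  have hd1 : α ∉ ({β, α * β} : Finset _) := by
    simp [hab, hβ]
  have hd2 : β ≠ α * β := fun e => hα (mul_eq_right.1 e.symm)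
  rw [sum_insert hd1, sum_pair hd2, hout g hgZ, hcg, hout h hhZ, hch, hαβ, hout ⟨x, hx⟩ hxZ, hc,
    Finset.card_insert_of_notMem (hαβ ▸ hd1), Finset.card_pair (hαβ ▸ hd2)] at hn'
  have h4 : d + 3 * a + 4 * (cg + (cg + c)) = 16 * n' := by
    have : ((d + 3 * a + 4 * (cg + (cg + c)) : ℤ) : ℂ) = ((16 * n' : ℤ) : ℂ) := by
      push_cast at hn' ⊢; rw [hn']; ring
    exact_mod_cast this
  omega

end Base

end CfsgLib.U34Sylow
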