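import Cfsg.Agent.U34Sylow.ThreeArith
import Cfsg.Agent.U34Sylow.ThreeValues
import Cfsg.Agent.BlocksB.PrincipalInner
import Cfsg.Agent.Blocks.Section
import Cfsg.Agent.Char.Burnside
import Cfsg.Agent.Solvable.Basics

/-!
# U₃(4)-type Sylow 2-subgroups: the centralizer of an involution is not 2-nilpotent

In the principal 2-block of a simple group the columns at the involution `z` and at five classes of
elements of order four with square `z` would satisfy `ThreeRows`, which is inconsistent.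
-/

set_option autoImplicit false
set_option linter.style.haveILetI false
set_option linter.unusedSectionVars false

namespace CfsgLib.U34Sylow

open Subgroup Finset Cfsg CfsgLib.Block CfsgLib.Block.Chr CfsgLib.Char CfsgLib.BlockB
open scoped Classical ComplexConjugate

universe u

variable {G : Type u} [Group G] [Finite G]

namespace Base

variable (B : Base G)

/-- The centralizer of an element of order four in the Sylow subgroup has order sixteen. -/
theorem card_cent {x : G} (hx : x ∈ (B.S : Subgroup G)) (hxZ : x ∉ B.Z) :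
    Nat.card ((B.S : Subgroup G) ⊓ centralizer ({x} : Set G) : Subgroup G) = 16 := by
  let φ : (B.S : Subgroup G) →* B.Z :=
    MonoidHom.mk' (fun v => ⟨v * x * (v : G)⁻¹ * x⁻¹, B.comm_mem v.2 hx⟩) fun a b => Subtype.ext (by
      simp only [Subgroup.coe_mul]
      have hc := (B.central a a.2 _ (B.comm_mem b.2 hx)).eq
      calc (a : G) * b * x * ((a : G) * b)⁻¹ * x⁻¹
          = a * ((b : G) * x * (b : G)⁻¹ * x⁻¹) * (x * (a : G)⁻¹ * x⁻¹) := by group
        _ = (b : G) * x * (b : G)⁻¹ * x⁻¹ * (a * x * (a : G)⁻¹ * x⁻¹) := by rw [hc]; group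
        _ = _ := by
          have := (B.central _ (B.Z_le (B.comm_mem b.2 hx)) _ (B.comm_mem a.2 hx)).eq
          exact this)
  have hsurj : Function.Surjective φ := fun y => by
    obtain ⟨v, hv, hvx⟩ := B.full x hx hxZ y y.2
    exact ⟨⟨v, hv⟩, Subtype.ext hvx⟩
  have hker : φ.ker = (centralizer ({x} : Set G)).subgroupOf (B.S : Subgroup G) := by
    ext v
    rw [MonoidHom.mem_ker, mem_subgroupOf, mem_centralizer_singleton_iff, ← OneMemClass.coe_eq_one,
      show ((φ v : B.Z) : G) = v * x * (v : G)⁻¹ * x⁻¹ from rfl, mul_inv_eq_one, mul_inv_eq_iff_eq_mul]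
  have h := φ.ker.card_mul_index
  rw [index_ker, MonoidHom.range_eq_top.2 hsurj, card_top, B.card_Z, B.card_S] at h
  rw [hker] at h
  rw [inf_comm, ← Nat.card_congr (subgroupOfEquivOfLe (inf_le_right :
      centralizer ({x} : Set G) ⊓ (B.S : Subgroup G) ≤ (B.S : Subgroup G))).toEquiv,
    inf_subgroupOf_right]
  omega

/-- Five elements of order four with square `z` in distinct cosets of the centre. -/
theorem exists_reps : ∃ x : Fin 5 → G, (∀ k, x k ∈ (B.S : Subgroup G)) ∧
    (∀ k, x k * x k = B.z) ∧ ∀ k l, k ≠ l → (x k)⁻¹ * x l ∉ B.Z := by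
  haveI : Fintype ((B.S : Subgroup G) ⧸ B.N) := Fintype.ofFinite _
  let sqv : (B.S : Subgroup G) ⧸ B.N → G := fun k => ((k.out : _) : G) * ((k.out : _) : G)
  have hsqv : ∀ g : (B.S : Subgroup G), sqv g = (g : G) * g := by
    intro g
    have h : g⁻¹ * (g : (B.S : Subgroup G) ⧸ B.N).out ∈ B.N :=
      QuotientGroup.eq.1 (QuotientGroup.out_eq' (g : (B.S : Subgroup G) ⧸ B.N)).symm
    have e := B.sq_mul g.2 (B.mem_N.1 h)
    simpa [sqv] using e
  let σ : (B.S : Subgroup G) ⧸ B.N → (B.S : Subgroup G) ⧸ B.N := fun k =>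
    ((⟨B.ρ * (k.out : _) * B.ρ⁻¹, B.conj_ρ_mem k.out.2⟩ : (B.S : Subgroup G)) : _ ⧸ B.N)
  have hσ : Function.Injective σ := by
    intro k l h
    rw [← QuotientGroup.out_eq' k, ← QuotientGroup.out_eq' l, QuotientGroup.eq, mem_N]
    have h' := B.mem_N.1 (QuotientGroup.eq.1 h)
    rw [← B.conj_ρ_Z (k.out⁻¹ * l.out).2]
    simpa [mul_assoc] using h'
  let F : G → Finset ((B.S : Subgroup G) ⧸ B.N) := fun y => univ.filter fun k => sqv k = y
  have hstep : ∀ y, #(F y) ≤ #(F (B.ρ * y * B.ρ⁻¹)) := fun y =>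
    card_le_card_of_injOn σ (fun k hk => by
      simp only [F, coe_filter, mem_univ, true_and, Set.mem_setOf_eq] at hk ⊢
      rw [hsqv, ← hk, conj_mul]) hσ.injOn
  have h1 : #(F B.z) ≤ #(F B.w) := B.ρ_z ▸ hstep B.z
  have h2 : #(F B.w) ≤ #(F (B.z * B.w)) := B.ρ_w ▸ hstep B.w
  have e3 : B.ρ * (B.z * B.w) * B.ρ⁻¹ = B.z := by
    rw [← conj_mul, B.ρ_z, B.ρ_w, (B.central _ (B.Z_le B.z_mem) _ B.w_mem).eq, ← mul_assoc, B.w_sq,
      one_mul]
  have h3 : #(F (B.z * B.w)) ≤ #(F B.z) := by
    have h := hstep (B.z * B.w)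
    rwa [e3] at h
  have hsub : (univ : Finset ((B.S : Subgroup G) ⧸ B.N)).erase 1 =
      F B.z ∪ (F B.w ∪ F (B.z * B.w)) := by
    ext k
    simp only [F, mem_erase, mem_union, mem_filter, mem_univ, true_and, and_true]
    refine ⟨fun hk => B.sq_cases k.out.2 (B.out_notMem hk), fun h hk => ?_⟩
    have h1 : sqv k = 1 := by
      rw [hk, ← QuotientGroup.mk_one, hsqv]; simp
    rw [h1] at h
    rcases h with h | h | h
    exacts [B.z_ne h.symm, B.w_ne h.symm, B.zw_one h.symm]
  have hdis : ∀ y y' : G, y ≠ y' → Disjoint (F y) (F y') := fun y y' hne =>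
    disjoint_left.2 fun k hk hk' => hne ((mem_filter.1 hk).2.symm.trans (mem_filter.1 hk').2)
  have hcard := congrArg Finset.card hsub
  rw [card_erase_of_mem (mem_univ _), Finset.card_univ, ← Nat.card_eq_fintype_card, B.card_quot,
    card_union_of_disjoint (disjoint_union_right.2 ⟨hdis _ _ B.zw_ne,
      hdis _ _ fun h => B.w_ne (mul_eq_left.1 h.symm)⟩),
    card_union_of_disjoint (hdis _ _ fun h => B.z_ne (mul_eq_right.1 h.symm))] at hcard
  have h5 : #(F B.z) = 5 := by omega
  let e := (F B.z).equivFinOfCardEq h5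
  refine ⟨fun k => (((e.symm k).1.out : _) : G), fun k => SetLike.coe_mem _,
    fun k => (mem_filter.1 (e.symm k).2).2, fun k l hkl h => hkl (e.symm.injective (Subtype.ext ?_))⟩
  rw [← QuotientGroup.out_eq' (e.symm k).1, ← QuotientGroup.out_eq' (e.symm l).1, QuotientGroup.eq,
    mem_N]
  simpa using h

end Base

namespace CtxThree

variable (C : CtxThree G)

theorem le_cent : (C.S : Subgroup G) ≤ centralizer ({C.z} : Set G) := fun s hs =>
  mem_centralizer_singleton_iff.2 (C.central s hs _ C.z_mem).eq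

theorem core_le : coreCent C.z ≤ centralizer ({C.z} : Set G) := map_subtype_le _

theorem odd_core : Odd (Nat.card (coreCent C.z)) := by
  rw [coreCent, card_map_of_injective (centralizer ({C.z} : Set G)).subtype_injective]
  exact Nat.coprime_two_right.1
    (CfsgLib.Solvable.coprime_card_pPrimeCore (G := centralizer ({C.z} : Set G)) 2)

theorem conj_core {v l : G} (hv : v ∈ centralizer ({C.z} : Set G)) (hl : l ∈ coreCent C.z) :
    v * l * v⁻¹ ∈ coreCent C.z := by
  obtain ⟨l', hl', rfl⟩ := mem_map.1 hl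
  exact mem_map.2 ⟨⟨v, hv⟩ * l' * ⟨v, hv⟩⁻¹,
    (CfsgLib.Solvable.pPrimeCore_spec (G := centralizer ({C.z} : Set G)) 2).1.conj_mem l' hl' _,
    rfl⟩

theorem eq_one_of_core {x : G} (hx : x ∈ (C.S : Subgroup G)) (hxL : x ∈ coreCent C.z) : x = 1 := by
  obtain ⟨k, hk⟩ := IsPGroup.iff_orderOf.1 C.S.isPGroup' ⟨x, hx⟩
  rw [Subgroup.orderOf_mk] at hk
  have hd : orderOf x ∣ Nat.card (coreCent C.z) := orderOf_dvd_natCard _ hxL
  rw [← orderOf_eq_one_iff, hk]
  exact Nat.eq_one_of_dvd_coprimes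
    ((Nat.coprime_two_left.2 C.odd_core).pow_left k) dvd_rfl (hk ▸ hd)

theorem exists_mul {v : G} (hv : v ∈ centralizer ({C.z} : Set G)) :
    ∃ l ∈ coreCent C.z, ∃ s ∈ (C.S : Subgroup G), v = l * s := by
  rw [C.cent_eq] at hv
  have hn : (C.S : Subgroup G) ≤ normalizer (coreCent C.z : Set G) := fun s hs =>
    mem_normalizer_iff.2 fun l => ⟨fun hl => C.conj_core (C.le_cent hs) hl, fun hl => by
      simpa [mul_assoc] using C.conj_core (C.le_cent (inv_mem hs)) hl⟩
  rw [← SetLike.mem_coe, Subgroup.coe_mul_of_right_le_normalizer_left _ _ hn] at hv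
  obtain ⟨l, hl, s, hs, rfl⟩ := Set.mem_mul.1 hv
  exact ⟨l, hl, s, hs, rfl⟩

theorem mul_unique {l l' s s' : G} (hl : l ∈ coreCent C.z) (hl' : l' ∈ coreCent C.z)
    (hs : s ∈ (C.S : Subgroup G)) (hs' : s' ∈ (C.S : Subgroup G)) (h : l * s = l' * s') :
    s = s' := by
  have e : l'⁻¹ * l = s' * s⁻¹ := by
    calc l'⁻¹ * l = l'⁻¹ * (l * s) * s⁻¹ := by group
      _ = s' * s⁻¹ := by rw [h]; group
  have := C.eq_one_of_core (mul_mem hs' (inv_mem hs)) (e ▸ mul_mem (inv_mem hl') hl)
  exact (mul_inv_eq_one.1 this).symm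

/-- Conjugation in `C(z)` between elements of `S` is conjugation in `S`. -/
theorem conj_eq {l s x y : G} (hl : l ∈ coreCent C.z) (hs : s ∈ (C.S : Subgroup G))
    (hx : x ∈ (C.S : Subgroup G)) (hy : y ∈ (C.S : Subgroup G))
    (h : l * s * x * (l * s)⁻¹ = y) : y = s * x * s⁻¹ := by
  set u := s * x * s⁻¹ with hu
  have hu' : u ∈ (C.S : Subgroup G) := mul_mem (mul_mem hs hx) (inv_mem hs)
  refine (C.mul_unique (l := 1) (l' := l * (u * l⁻¹ * u⁻¹)) (one_mem _)
    (mul_mem hl (C.conj_core (C.le_cent hu') (inv_mem hl))) hy hu' ?_)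
  rw [one_mul, ← h, hu]
  group

theorem mem_cent_of_conj {x y g : G} (hx : x * x = C.z) (hy : y * y = C.z)
    (h : g * x * g⁻¹ = y) : g ∈ centralizer ({C.z} : Set G) := by
  rw [mem_centralizer_singleton_iff, ← mul_inv_eq_iff_eq_mul]
  rw [← hx, ← conj_mul, h, hy, hx]

/-- No involution inverts an element with square `z`. -/
theorem not_inverts {x : G} (hx : x ∈ (C.S : Subgroup G)) (hxz : x * x = C.z) (g : G) :
    g * C.z * g⁻¹ * x * (g * C.z * g⁻¹)⁻¹ ≠ x⁻¹ := by
  intro h
  set v := g * C.z * g⁻¹ with hv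
  have hvv : v * v = 1 := by rw [hv, conj_mul, C.z_sq, mul_one, mul_inv_cancel]
  have hxx : x⁻¹ * x⁻¹ = C.z := by
    rw [← _root_.mul_inv_rev, hxz, inv_eq_of_mul_eq_one_right C.z_sq]
  obtain ⟨l, hl, s, hs, hls⟩ := C.exists_mul (C.mem_cent_of_conj hxz hxx h)
  rw [hls] at h hvv
  have hy := C.conj_eq hl hs hx (inv_mem hx) h
  have hss : s * s = 1 := by
    refine C.mul_unique (l := l * (s * l * s⁻¹)) (l' := 1)
      (mul_mem hl (C.conj_core (C.le_cent hs) hl)) (one_mem _) (mul_mem hs hs) (one_mem _) ?_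
    rw [one_mul, ← hvv]
    group
  rw [← (C.central x hx s ((C.invol s hs).1 hss)).eq, mul_inv_cancel_right] at hy
  exact C.z_ne (by rw [← hxz]; nth_rw 2 [← hy]; rw [mul_inv_cancel])

/-- Elements with square `z` are conjugate only inside a coset of the centre. -/
theorem mem_Z_of_conj {x y g : G} (hx : x ∈ (C.S : Subgroup G)) (hy : y ∈ (C.S : Subgroup G))
    (hxz : x * x = C.z) (hyz : y * y = C.z) (h : g * x * g⁻¹ = y) : x⁻¹ * y ∈ C.Z := by
  obtain ⟨l, hl, s, hs, hls⟩ := C.exists_mul (C.mem_cent_of_conj hxz hyz h)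
  rw [hls] at h
  have hy' := C.conj_eq hl hs hx hy h
  have hm := C.comm_mem hs hx
  have e : x⁻¹ * y = x⁻¹ * ((s * x * s⁻¹ * x⁻¹) * x) := by rw [hy']; group
  rw [e, ← (C.central x hx _ hm).eq, inv_mul_cancel_left]
  exact hm

/-- The norm of a principal block column at an element of `S` whose centralizer lies in `C(z)`. -/
theorem sum_norm [Fintype G] {M : Ideal AlgInt} [M.IsPrime] (hM : IsPModular 2 M)
    [Fintype (IrrCharacter G)] [DecidablePred (· ∈ principalBlock M G)] {y : G} {k : ℕ}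
    (hy : y ∈ (C.S : Subgroup G)) (hord : orderOf y = 2 ^ k)
    (hle : centralizer ({y} : Set G) ≤ centralizer ({C.z} : Set G)) :
    ∑ χ ∈ univ.filter (· ∈ principalBlock M G), (χ : G → ℂ) y * conj ((χ : G → ℂ) y) =
      (Nat.card ((C.S : Subgroup G) ⊓ centralizer ({y} : Set G) : Subgroup G) : ℂ) := by
  haveI : Fact (Nat.Prime 2) := ⟨Nat.prime_two⟩
  haveI : Fintype (centralizer ({y} : Set G)) := Fintype.ofFinite _
  letI := irrFintype (G := centralizer ({y} : Set G))
  set N := (coreCent C.z).subgroupOf (centralizer ({y} : Set G)) with hN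
  set T := (C.S : Subgroup G).subgroupOf (centralizer ({y} : Set G)) with hT
  haveI hNn : N.Normal := ⟨fun n hn g => mem_subgroupOf.2 (by
    simpa using C.conj_core (hle g.2) (mem_subgroupOf.1 hn))⟩
  have hNodd : ¬ 2 ∣ Nat.card N := by
    rw [hN, ← inf_subgroupOf_right, Nat.card_congr (subgroupOfEquivOfLe inf_le_right).toEquiv]
    exact fun h => Nat.not_even_iff_odd.2 C.odd_core
      (even_iff_two_dvd.2 (h.trans (card_dvd_of_le inf_le_left)))
  have hcompl : IsComplement' N T := by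
    refine isComplement'_of_disjoint_and_mul_eq_univ (disjoint_def.2 fun hxN hxT =>
      Subtype.ext (C.eq_one_of_core (mem_subgroupOf.1 hxT) (mem_subgroupOf.1 hxN))) ?_
    rw [Set.eq_univ_iff_forall]
    intro v
    obtain ⟨l, hl, s, hs, hls⟩ := C.exists_mul (hle v.2)
    have hv : (v : G) * y * (v : G)⁻¹ = y := by
      rw [mul_inv_eq_iff_eq_mul]; exact mem_centralizer_singleton_iff.1 v.2
    rw [hls] at hv
    have hsy : s ∈ centralizer ({y} : Set G) := by
      rw [mem_centralizer_singleton_iff, ← mul_inv_eq_iff_eq_mul]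
      exact (C.conj_eq hl hs hy hy hv).symm
    have hly : l ∈ centralizer ({y} : Set G) := by
      rw [show l = (v : G) * s⁻¹ by rw [hls]; group]
      exact mul_mem v.2 (inv_mem hsy)
    exact Set.mem_mul.2 ⟨⟨l, hly⟩, mem_subgroupOf.2 hl, ⟨s, hsy⟩, mem_subgroupOf.2 hs,
      Subtype.ext hls.symm⟩
  have hidx : N.index = Nat.card ((C.S : Subgroup G) ⊓ centralizer ({y} : Set G) : Subgroup G) := by
    rw [hcompl.symm.index_eq_card, hT, ← inf_subgroupOf_right,
      Nat.card_congr (subgroupOfEquivOfLe inf_le_right).toEquiv]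
  obtain ⟨j, hj⟩ := IsPGroup.iff_card.1 (C.S.isPGroup'.to_le (inf_le_left :
    (C.S : Subgroup G) ⊓ centralizer ({y} : Set G) ≤ _))
  have h1 : ¬ 2 ∣ orderOf (1 : centralizer ({y} : Set G)) := by simp
  have h := principal_section_kernel hM (x := y) (k := k) hord 1 1 h1 h1
  rw [principal_complement_sum hM N hNodd ⟨j, hidx.trans hj⟩ h1, OneMemClass.coe_one, mul_one] at h
  rw [h, ← N.index_mul_card, Nat.factorization_mul index_ne_zero_of_finite Nat.card_pos.ne',
    Finsupp.add_apply, Nat.factorization_eq_zero_of_not_dvd hNodd, add_zero, hidx, hj,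
    Nat.prime_two.factorization_pow, Finsupp.single_eq_same]

variable [IsSimpleGroup G]

/-- `C(z)` is not 2-nilpotent. -/
theorem false (C : CtxThree G) (hna : ¬ ∀ a b : G, a * b = b * a) : False := by
  haveI : Fintype G := Fintype.ofFinite G
  haveI : Fact (Nat.Prime 2) := ⟨Nat.prime_two⟩
  letI := irrFintype (G := G)
  obtain ⟨M, hM⟩ := exists_isPModular (p := 2) Nat.prime_two
  haveI : M.IsPrime := hM.2.1.isPrime
  obtain ⟨x, hxS, hxsq, hxne⟩ := C.exists_reps
  have hxZ : ∀ k, x k ∉ C.Z := fun k h => C.z_ne (by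
    rw [← hxsq k, (C.invol _ (hxS k)).2 h])
  have hzS : C.z ∈ (C.S : Subgroup G) := C.Z_le C.z_mem
  have hzord : orderOf C.z = 2 := orderOf_eq_prime (by rw [sq]; exact C.z_sq) C.z_ne
  have hxord : ∀ k, orderOf (x k) = 2 ^ 2 := fun k =>
    orderOf_eq_prime_pow (n := 1) (by rw [pow_one, sq, hxsq k]; exact C.z_ne)
      (by rw [show (2 : ℕ) ^ (1 + 1) = 2 * 2 from rfl, pow_mul, sq (x k), hxsq k, sq]; exact C.z_sq)
  have hxcent : ∀ k, centralizer ({x k} : Set G) ≤ centralizer ({C.z} : Set G) := fun k v hv => by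
    rw [mem_centralizer_singleton_iff, ← hxsq k]
    exact (Commute.mul_right (mem_centralizer_singleton_iff.1 hv) (mem_centralizer_singleton_iff.1 hv)).eq
  set B0 := univ.filter (· ∈ principalBlock M G) with hB0
  -- the relations
  have hrel := fun k => column_relations hM (hxord k) hzord fun g => C.not_inverts (hxS k) (hxsq k) g
  have hperp : ∀ k l, k ≠ l →
      ∑ χ ∈ B0, (χ : G → ℂ) (x k) * (χ : G → ℂ) (x l) = 0 := by
    intro k l hkl
    refine sum_principal_eq_zero hM (hxord k) (fun χ => (χ : G → ℂ) (x l)) fun s hc hs =>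
      sum_irr_mul_eq_zero fun hcj => ?_
    have ho : orderOf (x k * s) = 2 ^ 2 := by
      obtain ⟨c, hc'⟩ := isConj_iff.1 hcj
      rw [← hxord l, ← orderOf_inv (x l), ← hc']
      exact (SemiconjBy.conj_mk c (x k * s)).orderOf_eq
    have hcop : (orderOf (x k)).Coprime (orderOf s) := by
      rw [hxord k]
      exact (Nat.prime_two.coprime_iff_not_dvd.2 hs).pow_left 2
    rw [hc.orderOf_mul_eq_mul_orderOf_of_coprime hcop, hxord k, Nat.mul_eq_left (by norm_num),
      orderOf_eq_one_iff] at ho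
    rw [ho, mul_one] at hcj
    obtain ⟨c, hc'⟩ := isConj_iff.1 hcj
    have hinv : (x l)⁻¹ * (x l)⁻¹ = C.z := by
      rw [← _root_.mul_inv_rev, hxsq l, inv_eq_of_mul_eq_one_right C.z_sq]
    have hm := C.mem_Z_of_conj (hxS k) (inv_mem (hxS l)) (hxsq k) hinv hc'
    refine hxne k l hkl ?_
    have e : (x k)⁻¹ * x l = (x k)⁻¹ * (x l)⁻¹ * (x l * x l) := by group
    rw [e, hxsq l]
    exact mul_mem hm C.z_mem
  have hnz : ∑ χ ∈ B0, (χ : G → ℂ) C.z * conj ((χ : G → ℂ) C.z) = 64 := by
    rw [hB0, C.sum_norm hM (k := 1) hzS (by rw [hzord, pow_one]) le_rfl, inf_eq_left.2 C.le_cent,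
      C.card_S]
    norm_num
  have hnx : ∀ k, ∑ χ ∈ B0, (χ : G → ℂ) (x k) * conj ((χ : G → ℂ) (x k)) = 16 := fun k => by
    rw [hB0, C.sum_norm hM (hxS k) (hxord k) (hxcent k), C.card_cent (hxS k) (hxZ k)]
    norm_num
  -- the rows
  have hmem : oneIrr G ∈ B0 := mem_filter.2 ⟨mem_univ _, oneIrr_mem_principalBlock⟩
  have hsplit : ∀ F : IrrCharacter G → ℂ,
      ∑ χ ∈ B0, F χ = F (oneIrr G) + ∑ i : {χ // χ ∈ B0.erase (oneIrr G)}, F i := by
    intro F
    rw [← add_sum_erase _ _ hmem, ← sum_coe_sort (B0.erase (oneIrr G))]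
  choose a ha using fun χ : IrrCharacter G => C.exists_int (isCharacter_irr χ) hzS
  choose c hc using fun (k : Fin 5) (χ : IrrCharacter G) =>
    C.exists_int (isCharacter_irr χ) (hxS k)
  let d : IrrCharacter G → ℤ := fun χ => charDegree (χ : G → ℂ)
  have hd : ∀ χ : IrrCharacter G, (χ : G → ℂ) 1 = (d χ : ℂ) := fun χ => by
    rw [(irr_one χ).1]; simp [d]
  have hd0 : ∀ χ : IrrCharacter G, (d χ : ℂ) ≠ 0 := fun χ => hd χ ▸ irr_one_ne_zero χ
  refine ThreeRows.false (ι := {χ // χ ∈ B0.erase (oneIrr G)})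
    { d := fun i => d i
      z := fun i => a i
      c := fun k i => c k i
      d_mod := fun i => C.dvd_degree_sub (isCharacter_irr _) (hd _) (ha _)
      c_mod := fun k i => C.dvd_value_sub (isCharacter_irr _) (hd _) (ha _) (hxS k) (hxZ k) (hc k _)
      lt_d := ?_
      low := fun i => C.low (isCharacter_irr _) (hd _) (ha _)
      norm_z := ?_
      norm_c := ?_
      inner_c := ?_
      inner_zc := ?_
      ratio := ?_ }
  · intro i
    have hne : (i : IrrCharacter G) ≠ oneIrr G := (mem_erase.1 i.2).1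
    obtain ⟨n, ρ, hρ, hρχ⟩ := i.1.2
    haveI := hρ
    have h1 : (n : ℤ) = d i := by
      have h := hd i.1
      rw [← congrFun hρχ 1, Representation.char_one, Module.finrank_fin_fun] at h
      exact_mod_cast h
    have hle : |a i.1| ≤ d i := by
      have h := IsCharacter.norm_apply_le (isCharacter_irr i.1) C.z
      rw [ha, hd, Complex.norm_intCast, Complex.intCast_re] at h
      exact_mod_cast h
    refine lt_of_le_of_ne hle fun he => hne (Subtype.ext ?_)
    rw [← hρχ, oneIrr_coe]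
    refine eq_one_of_norm_eq_of_simple hna ρ C.z_ne ?_
    rw [hρχ, ha, Complex.norm_intCast, Module.finrank_fin_fun]
    exact_mod_cast he.trans h1.symm
  · have h := hnz
    rw [hsplit] at h
    simp only [oneIrr_apply] at h
    simp only [map_one, mul_one, ha, map_intCast] at h
    refine Int.cast_injective (α := ℂ) ?_
    push_cast
    linear_combination h
  · intro k
    have h := hnx k
    rw [hsplit] at h
    simp only [oneIrr_apply] at h
    simp only [map_one, mul_one, hc, map_intCast] at h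
    refine Int.cast_injective (α := ℂ) ?_
    push_cast
    linear_combination h
  · intro k l hkl
    have h := hperp k l hkl
    rw [hsplit] at h
    simp only [oneIrr_apply] at h
    simp only [mul_one, hc] at h
    refine Int.cast_injective (α := ℂ) ?_
    push_cast
    linear_combination h
  · intro k
    have h := (hrel k).2.2
    rw [← hB0, hsplit] at h
    simp only [oneIrr_apply] at h
    simp only [mul_one, hc, ha] at h
    refine Int.cast_injective (α := ℂ) ?_
    push_cast
    simp only [mul_comm ((a _ : ℤ) : ℂ)]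
    linear_combination h
  · intro k
    have h := (hrel k).1
    rw [← hB0, hsplit] at h
    simp only [oneIrr_apply] at h
    simp only [one_pow, div_one, mul_one, hc, ha, hd] at h
    refine Rat.cast_injective (α := ℂ) ?_
    push_cast
    simp only [mul_comm _ ((c k _ : ℤ) : ℂ), mul_div_assoc]
    linear_combination h

end CtxThree

end CfsgLib.U34Sylow
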