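import Cfsg.Agent.U34Sylow.Reduce
import Cfsg.Agent.U34Sylow.Shape
import Cfsg.Agent.U34Sylow.Decomp
import Cfsg.Agent.U34Sylow.CoreLe
import Cfsg.Agent.U34Sylow.Three

/-!
# Groups with a Sylow 2-subgroup of type U₃(4)
-/

set_option autoImplicit false
set_option linter.unusedSectionVars false
set_option linter.style.haveILetI false

namespace CfsgLib.U34Sylow

open Subgroup

universe u v

variable {G : Type u} [Group G] [Finite G]

/-- A simple group with a Sylow 2-subgroup of type U₃(4) is U₃(4). -/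
theorem psu_of_simple [IsSimpleGroup G] (S : Sylow 2 G) (h : U3Type.Facts ↥(S : Subgroup G) 2)
    {F : Type v} [Field F] [Fintype F] (hF : Fintype.card F = (2 ^ 2) ^ 2) :
    Nonempty (G ≃* Cfsg.PSU 3 F (2 ^ 2)) := by
  obtain ⟨Z, D⟩ := exists_sylowData S h
  have h64 : 64 ∣ Nat.card G := D.card_S ▸ card_subgroup_dvd_card _
  have hna : ¬ ∀ a b : G, a * b = b * a := by
    intro hab
    letI : CommGroup G := { (inferInstance : Group G) with mul_comm := hab }
    have hp := IsSimpleGroup.prime_card (α := G)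
    rcases hp.eq_one_or_self_of_dvd 64 h64 with h' | h'
    · norm_num at h'
    · rw [← h'] at hp; norm_num at hp
  have hO : Cfsg.oddCore G = ⊥ := by
    rcases (inferInstance : (Cfsg.oddCore G).Normal).eq_bot_or_eq_top with h' | h'
    · exact h'
    · have := IsoApps.odd_oddCore (G := G)
      rw [h', card_top] at this
      exact absurd ((show 2 ∣ 64 by norm_num).trans h64) fun h2 =>
        Nat.not_even_iff_odd.2 this (even_iff_two_dvd.2 h2)
  have hodd : ∀ N : Subgroup G, N.Normal → Odd N.index → N = ⊤ := fun N hN hi => by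
    rcases hN.eq_bot_or_eq_top with h' | h'
    · rw [h', index_bot] at hi
      exact absurd ((show 2 ∣ 64 by norm_num).trans h64) fun h2 =>
        Nat.not_even_iff_odd.2 hi (even_iff_two_dvd.2 h2)
    · exact h'
  rcases exists_ctx S h with ⟨C, rfl⟩ | ⟨C, -⟩
  · have D' := C.toBase.sylowData
    haveI := Fintype.ofFinite G
    refine psu_of_centralizer C.S D' h hO hodd
      (C.toBase.centralizer_le (C.centralizer_le C.core_le)) ?_ hF
    intro hN
    rcases (normalizer_eq_top_iff.1 hN).eq_bot_or_eq_top with h' | h'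
    · have := C.card_Z
      rw [h', card_bot] at this
      norm_num at this
    · have h1 := C.card_Z
      rw [h', card_top] at h1
      rw [h1] at h64
      norm_num at h64
  · exact (C.false hna).elim

/-- A group without odd core and without proper normal subgroup of odd index having a Sylow
2-subgroup of type U₃(4) is U₃(4) or a 2-group. -/
theorem psu_or_two_group (S : Sylow 2 G) (h : U3Type.Facts ↥(S : Subgroup G) 2)
    (hO : Cfsg.oddCore G = ⊥) (hodd : ∀ N : Subgroup G, N.Normal → Odd N.index → N = ⊤)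
    {F : Type v} [Field F] [Fintype F] (hF : Fintype.card F = (2 ^ 2) ^ 2) :
    Nonempty (G ≃* Cfsg.PSU 3 F (2 ^ 2)) ∨ (S : Subgroup G) = ⊤ := by
  classical
  haveI : Fact (Nat.Prime 2) := ⟨Nat.prime_two⟩
  obtain ⟨Z, D⟩ := exists_sylowData S h
  haveI : Nontrivial G := by
    rw [← Finite.one_lt_card_iff_nontrivial]
    have := Nat.le_of_dvd Nat.card_pos (D.card_S ▸ card_subgroup_dvd_card (S : Subgroup G) : 64 ∣ Nat.card G)
    omega
  have hSodd : ∀ N : Subgroup G, (S : Subgroup G) ≤ N → Odd N.index := fun N hle =>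
    Nat.not_even_iff_odd.1 fun he =>
      S.not_dvd_index ((even_iff_two_dvd.1 he).trans (index_dvd_of_le hle))
  obtain ⟨N, ⟨hNn, hN⟩, hmin⟩ : ∃ N : Subgroup G, (N.Normal ∧ N ≠ ⊥) ∧
      ∀ K : Subgroup G, K.Normal ∧ K ≠ ⊥ → K ≤ N → N ≤ K :=
    (exists_minimal_of_wellFoundedLT (fun K : Subgroup G => K.Normal ∧ K ≠ ⊥)
      ⟨⊤, inferInstance, top_ne_bot⟩).imp fun N hN => ⟨hN.1, fun K hK hle => hN.2 hK hle⟩
  haveI := hNn
  rcases D.minimal_cases hO hN (fun K hK hle => (em (K = ⊥)).imp_right fun hne =>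
      le_antisymm hle (hmin K ⟨hK, hne⟩ hle)) with hNZ | hSN
  · right
    obtain ⟨z, hzZ, hzN, hz1⟩ := D.exists_mem_normal hO hN
    have hc : (centralizer (N : Set G)).Normal := inferInstance
    have htop : centralizer (N : Set G) = ⊤ := hodd _ hc (hSodd _ fun s hs =>
      mem_centralizer_iff.2 fun y hy => (D.central s hs y (hNZ hy)).eq.symm)
    have hzc : z ∈ center G := mem_center_iff.2 fun g =>
      (mem_centralizer_iff.1 (htop.symm ▸ mem_top g : g ∈ centralizer (N : Set G)) z hzN).symm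
    exact hodd _ (normal_of_central_invol S hO h (D.Z_le hzZ) (D.Z_sq hzZ) hz1 hzc)
      (hSodd _ le_rfl)
  · left
    have hNtop : N = ⊤ := hodd N hNn (hSodd N hSN)
    haveI : IsSimpleGroup G := ⟨fun K hK => (em (K = ⊥)).imp_right fun hne => eq_top_iff.2
      (hNtop ▸ hmin K ⟨hK, hne⟩ (hNtop ▸ le_top))⟩
    exact psu_of_simple S h hF

/-- The facts about a Sylow 2-subgroup isomorphic to one of `PSU₃(4)`. -/
theorem facts_of_equiv {F : Type v} [Field F] [Fintype F] (hF : Fintype.card F = 16) (S : Sylow 2 G)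
    (P : Sylow 2 (Cfsg.PSU 3 F 4))
    (hS : Nonempty (↥(S : Subgroup G) ≃* ↥(P : Subgroup (Cfsg.PSU 3 F 4)))) :
    U3Type.Facts ↥(S : Subgroup G) 2 := by
  haveI : Fact (Nat.Prime 2) := ⟨Nat.prime_two⟩
  haveI : CharP F 2 := charP_of_card_eq_prime_pow (f := 4) (by rw [hF]; norm_num)
  obtain ⟨e⟩ := hS
  exact (U3Type.facts_psu (n := 2) (by norm_num) (by rw [Nat.card_eq_fintype_card, hF]; norm_num) P).congr
    e.symm

end CfsgLib.U34Sylow
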