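import Mathlib

/-!
# U₃(4)-type Sylow 2-subgroups: the finite certificate

A row `(c, a₀, a₁, a₂, a₄, a₃)` records the multiplicities of an irreducible character in the six special
induced characters; rotation of the last four entries is the Galois action.  `go` enumerates the multisets of
classes with the required Gram invariants, `dead` refutes each survivor by the degree equations.
-/

set_option autoImplicit false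

namespace CfsgLib.U34Sylow

/-- A row of multiplicities. -/
structure Row where
  c : ℤ
  p : ℤ
  a : ℤ
  b : ℤ
  d : ℤ
  e : ℤ
deriving DecidableEq

namespace Row

/-- The Galois rotation. -/
def rot (r : Row) : Row := ⟨r.c, r.p, r.e, r.a, r.b, r.d⟩

/-- The row with a sign. -/
def smul (s : ℤ) (r : Row) : Row := ⟨s * r.c, s * r.p, s * r.a, s * r.b, s * r.d, s * r.e⟩

/-- The sum of the four rotated entries. -/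
def S (r : Row) : ℤ := r.a + r.b + r.d + r.e

/-- The sum of all five multiplicities `aⱼ`. -/
def A (r : Row) : ℤ := r.p + r.S

/-- The value at the involution. -/
def z (r : Row) : ℤ := 5 * r.c - 4 * r.A

/-- The degree. -/
def deg (r : Row) (n : ℤ) : ℤ := 64 * n + 12 * r.A - 11 * r.c

/-- The row is its own complex conjugate. -/
def fixed (r : Row) : Bool := decide (r.a = r.d) && decide (r.b = r.e)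

/-- The length of the orbit under rotation. -/
def per (r : Row) : ℕ := if r.rot = r then 1 else if r.rot.rot = r then 2 else 4

/-- The parity test of a vector against the four rotations. -/
def evenTest (x r : Row) : Bool :=
  let f := fun v : Row => decide ((x.c * v.c + x.p * v.p + x.a * v.a + x.b * v.b + x.d * v.d + x.e * v.e) % 2 = 0)
  f r && f r.rot && f r.rot.rot && f r.rot.rot.rot

/-- The admissible degree parameters: both eigenspace bounds and the trivial degree bounds. -/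
def adm (r : Row) (n : ℤ) : Bool :=
  decide (0 ≤ n + r.c) && decide (0 ≤ 4 * n + r.A - r.c) && decide (16 ≤ 16 * n + r.c) &&
    decide (16 ≤ 16 * n + 4 * (r.A - r.c)) && decide (0 < r.deg n) && decide (r.z * r.z ≤ r.deg n * r.deg n)

end Row

/-- Gram invariants of a rotation invariant family. -/
structure Inv where
  cc : ℤ
  cp : ℤ
  cS : ℤ
  pp : ℤ
  pS : ℤ
  qq : ℤ
  adj : ℤ
  opp : ℤ
deriving DecidableEq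

namespace Inv

instance : Zero Inv := ⟨⟨0, 0, 0, 0, 0, 0, 0, 0⟩⟩

instance : Add Inv := ⟨fun u v =>
  ⟨u.cc + v.cc, u.cp + v.cp, u.cS + v.cS, u.pp + v.pp, u.pS + v.pS, u.qq + v.qq, u.adj + v.adj, u.opp + v.opp⟩⟩

instance : Sub Inv := ⟨fun u v =>
  ⟨u.cc - v.cc, u.cp - v.cp, u.cS - v.cS, u.pp - v.pp, u.pS - v.pS, u.qq - v.qq, u.adj - v.adj, u.opp - v.opp⟩⟩

/-- Pairing of two invariant vectors. -/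
def dot (u v : Inv) : ℤ :=
  u.cc * v.cc + u.cp * v.cp + u.cS * v.cS + u.pp * v.pp + u.pS * v.pS + u.qq * v.qq + u.adj * v.adj + u.opp * v.opp

/-- The invariants of a row, taken `k` times. -/
def ofRow (k : ℤ) (r : Row) : Inv :=
  ⟨k * (r.c * r.c), k * (r.c * r.p), k * (r.c * r.S), k * (r.p * r.p), k * (r.p * r.S),
    k * (r.a * r.a + r.b * r.b + r.d * r.d + r.e * r.e), k * (r.a * r.b + r.b * r.d + r.d * r.e + r.e * r.a),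
    k * (r.a * r.d + r.b * r.e)⟩

end Inv

/-- A class of rows: a representative and the length of its orbit. -/
structure Cls where
  r : Row
  k : ℕ
deriving DecidableEq

/-- The invariants of one orbit of a class. -/
def Cls.inv (o : Cls) : Inv := Inv.ofRow o.k o.r

/-- The invariants of the nontrivial rows. -/
def target : Inv := ⟨15, 3, 16, 4, 4, 20, 4, 2⟩

/-- The classes of rows up to sign and rotation that survive the quadratic tests. -/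
def classes : List Cls :=
  [⟨⟨1, 0, 1, 0, -1, 0⟩, 4⟩,
   ⟨⟨3, 1, 1, 1, 1, 1⟩, 1⟩,
   ⟨⟨3, 0, 1, 1, 1, 1⟩, 1⟩,
   ⟨⟨2, 1, 1, 0, 1, 0⟩, 2⟩,
   ⟨⟨2, 0, 1, 0, 1, 0⟩, 2⟩,
   ⟨⟨2, 1, 1, 1, 1, 1⟩, 1⟩,
   ⟨⟨2, 0, 1, 1, 1, 1⟩, 1⟩,
   ⟨⟨1, 1, 1, 0, 1, 0⟩, 2⟩,
   ⟨⟨1, -1, 1, 0, 1, 0⟩, 2⟩,
   ⟨⟨1, 0, 1, 0, 1, 0⟩, 2⟩,
   ⟨⟨1, 1, 1, 1, 1, 1⟩, 1⟩,
   ⟨⟨1, 0, 1, 1, 1, 1⟩, 1⟩,
   ⟨⟨0, 1, 1, 0, 1, 0⟩, 2⟩,
   ⟨⟨0, 0, 1, 0, 1, 0⟩, 2⟩,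
   ⟨⟨1, 0, 2, 0, 0, 0⟩, 4⟩,
   ⟨⟨1, 0, 1, 1, 1, -1⟩, 4⟩,
   ⟨⟨1, 0, 1, 1, 0, 0⟩, 4⟩,
   ⟨⟨1, 0, 1, 0, 0, -1⟩, 4⟩,
   ⟨⟨1, 0, 1, -1, 0, 0⟩, 4⟩,
   ⟨⟨1, 1, 1, 0, 0, 0⟩, 4⟩,
   ⟨⟨1, 0, 1, 0, 0, 0⟩, 4⟩,
   ⟨⟨0, 0, 1, 0, 0, 0⟩, 4⟩,
   ⟨⟨2, 1, 0, 0, 0, 0⟩, 1⟩,
   ⟨⟨2, -1, 0, 0, 0, 0⟩, 1⟩,
   ⟨⟨2, 0, 0, 0, 0, 0⟩, 1⟩,
   ⟨⟨1, 2, 0, 0, 0, 0⟩, 1⟩,
   ⟨⟨1, 1, 0, 0, 0, 0⟩, 1⟩,
   ⟨⟨1, -1, 0, 0, 0, 0⟩, 1⟩,
   ⟨⟨1, 0, 0, 0, 0, 0⟩, 1⟩,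
   ⟨⟨0, 2, 0, 0, 0, 0⟩, 1⟩,
   ⟨⟨0, 1, 0, 0, 0, 0⟩, 1⟩]

/-- Tests pruning the enumeration. -/
def pruneForms : List Inv :=
  [⟨8, 8, 4, 2, 2, 1, 0, 2⟩,
   ⟨0, 0, 0, 16, 20, 7, 12, 12⟩,
   ⟨16, -32, 12, 16, -12, 3, 4, 4⟩,
   ⟨4, -8, 10, 4, -10, 7, 12, 12⟩,
   ⟨16, -16, -4, 4, 2, 3, 0, -4⟩,
   ⟨1, -2, -2, 1, 2, 2, 2, 0⟩,
   ⟨1, -4, -2, 4, 4, 2, 0, 4⟩,
   ⟨0, 0, 0, 16, -12, 3, 4, 4⟩,
   ⟨1, -2, -2, 1, 2, 1, 2, 2⟩,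
   ⟨1, 0, -3, 0, 0, 3, 4, 4⟩,
   ⟨1, 4, 0, 4, 0, 0, 0, 0⟩,
   ⟨2, 0, 0, 0, 0, 5, -9, 8⟩]

/-- Further tests excluding the other rows. -/
def coverForms : List Inv :=
  [⟨1, 0, -1, 0, 0, 3, 0, -4⟩,
   ⟨1, 0, -2, 0, 0, 1, 2, 2⟩,
   ⟨0, 0, 0, 16, -4, 1, 0, 0⟩,
   ⟨4, -16, -2, 16, 4, 1, 0, 0⟩,
   ⟨16, 32, -12, 16, -12, 3, 4, 4⟩,
   ⟨1, -4, -2, 4, 4, 1, 2, 2⟩,
   ⟨0, 0, 0, 4, -4, 1, 2, 2⟩,
   ⟨16, 0, -12, 0, 0, 3, 4, 4⟩,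
   ⟨1, 4, -2, 4, -4, 1, 2, 2⟩]

/-- The nine surviving configurations, each with the bound up to which degrees are exact. -/
def certs : List (List Cls × ℕ) :=
  [([⟨⟨1, -1, 0, 0, 0, 0⟩, 1⟩, ⟨⟨0, 0, 1, 0, 0, 0⟩, 4⟩, ⟨⟨0, 0, 1, 0, 0, 0⟩, 4⟩, ⟨⟨0, 0, 1, 0, 0, 0⟩, 4⟩, ⟨⟨0, 1, 0, 0, 0, 0⟩, 1⟩, ⟨⟨1, 0, 1, 0, 0, 0⟩, 4⟩, ⟨⟨1, 1, 0, 0, 0, 0⟩, 1⟩, ⟨⟨3, 1, 1, 1, 1, 1⟩, 1⟩], 2),
   ([⟨⟨0, 0, 1, 0, 0, 0⟩, 4⟩, ⟨⟨0, 0, 1, 0, 0, 0⟩, 4⟩, ⟨⟨0, 0, 1, 0, 0, 0⟩, 4⟩, ⟨⟨0, 1, 0, 0, 0, 0⟩, 1⟩, ⟨⟨0, 1, 0, 0, 0, 0⟩, 1⟩, ⟨⟨0, 1, 0, 0, 0, 0⟩, 1⟩, ⟨⟨1, 0, 1, 0, 0, 0⟩, 4⟩, ⟨⟨3, 1, 1, 1, 1, 1⟩, 1⟩, ⟨⟨1, 0, 0, 0, 0, 0⟩, 1⟩, ⟨⟨1, 0, 0, 0, 0, 0⟩, 1⟩], 2),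
   ([⟨⟨1, -1, 0, 0, 0, 0⟩, 1⟩, ⟨⟨1, 0, 1, 1, 0, 0⟩, 4⟩, ⟨⟨0, 0, 1, 0, 0, 0⟩, 4⟩, ⟨⟨0, 0, 1, 0, 0, 0⟩, 4⟩, ⟨⟨0, 1, 0, 0, 0, 0⟩, 1⟩, ⟨⟨2, 1, 1, 0, 1, 0⟩, 2⟩, ⟨⟨1, 0, 0, 0, 0, 0⟩, 1⟩, ⟨⟨1, 0, 0, 0, 0, 0⟩, 1⟩], 2),
   ([⟨⟨1, -1, 0, 0, 0, 0⟩, 1⟩, ⟨⟨2, 1, 1, 1, 1, 1⟩, 1⟩, ⟨⟨0, 0, 1, 0, 0, 0⟩, 4⟩, ⟨⟨0, 0, 1, 0, 0, 0⟩, 4⟩, ⟨⟨1, 0, 1, 0, 0, 0⟩, 4⟩, ⟨⟨1, 0, 1, 0, 0, 0⟩, 4⟩, ⟨⟨1, 1, 0, 0, 0, 0⟩, 1⟩, ⟨⟨1, 1, 0, 0, 0, 0⟩, 1⟩], 2),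
   ([⟨⟨0, 0, 1, 0, 0, 0⟩, 4⟩, ⟨⟨0, 0, 1, 0, 0, 0⟩, 4⟩, ⟨⟨0, 1, 0, 0, 0, 0⟩, 1⟩, ⟨⟨0, 1, 0, 0, 0, 0⟩, 1⟩, ⟨⟨1, 0, 1, 0, 0, 0⟩, 4⟩, ⟨⟨1, 0, 1, 0, 0, 0⟩, 4⟩, ⟨⟨1, 1, 0, 0, 0, 0⟩, 1⟩, ⟨⟨2, 1, 1, 1, 1, 1⟩, 1⟩, ⟨⟨1, 0, 0, 0, 0, 0⟩, 1⟩, ⟨⟨1, 0, 0, 0, 0, 0⟩, 1⟩], 2),
   ([⟨⟨1, -1, 0, 0, 0, 0⟩, 1⟩, ⟨⟨1, 1, 1, 0, 1, 0⟩, 2⟩, ⟨⟨2, 1, 0, 0, 0, 0⟩, 1⟩, ⟨⟨1, 0, 1, 1, 0, 0⟩, 4⟩, ⟨⟨0, 0, 1, 0, 0, 0⟩, 4⟩, ⟨⟨1, 0, 1, 0, 0, 0⟩, 4⟩], 2),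
   ([⟨⟨1, 0, 1, 1, 0, 0⟩, 4⟩, ⟨⟨0, 0, 1, 0, 0, 0⟩, 4⟩, ⟨⟨2, 0, 0, 0, 0, 0⟩, 1⟩, ⟨⟨1, 1, 1, 0, 1, 0⟩, 2⟩, ⟨⟨1, 0, 1, 0, 0, 0⟩, 4⟩, ⟨⟨1, 1, 0, 0, 0, 0⟩, 1⟩, ⟨⟨0, 1, 0, 0, 0, 0⟩, 1⟩], 6),
   ([⟨⟨1, 1, 1, 0, 1, 0⟩, 2⟩, ⟨⟨1, 0, 1, 1, 0, 0⟩, 4⟩, ⟨⟨0, 0, 1, 0, 0, 0⟩, 4⟩, ⟨⟨0, 1, 0, 0, 0, 0⟩, 1⟩, ⟨⟨1, 0, 1, 0, 0, 0⟩, 4⟩, ⟨⟨1, 1, 0, 0, 0, 0⟩, 1⟩, ⟨⟨1, 0, 0, 0, 0, 0⟩, 1⟩, ⟨⟨1, 0, 0, 0, 0, 0⟩, 1⟩, ⟨⟨1, 0, 0, 0, 0, 0⟩, 1⟩, ⟨⟨1, 0, 0, 0, 0, 0⟩, 1⟩], 15),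
   ([⟨⟨0, 0, 1, 0, 0, 0⟩, 4⟩, ⟨⟨0, 1, 0, 0, 0, 0⟩, 1⟩, ⟨⟨1, 0, 1, 0, 0, 0⟩, 4⟩, ⟨⟨1, 0, 1, 0, 0, 0⟩, 4⟩, ⟨⟨1, 0, 1, 0, 0, 0⟩, 4⟩, ⟨⟨1, 1, 0, 0, 0, 0⟩, 1⟩, ⟨⟨1, 1, 0, 0, 0, 0⟩, 1⟩, ⟨⟨1, 1, 1, 1, 1, 1⟩, 1⟩], 2)]

/-- Vectors witnessing a failure of saturation. -/
def witnesses : List Row := [⟨0, 0, 0, 1, 0, 1⟩, ⟨0, 0, 0, 0, 1, 1⟩, ⟨0, 0, 1, 1, 1, 1⟩]

/-- Some vector is even on every row, the trivial one included. -/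
def satFail (L : List Cls) : Bool :=
  witnesses.any fun x => x.evenTest ⟨1, 1, 0, 0, 0, 0⟩ && L.all fun o => x.evenTest o.r

/-- A finished configuration is refuted. -/
def leafOk (L : List Cls) : Bool :=
  satFail L || certs.any fun C => C.1.isPerm L

/-- Coordinates that no remaining class can reach vanish. -/
def supp (l : List Cls) (R : Inv) : Bool :=
  (decide (R.cc = 0) || l.any fun o => decide (o.inv.cc ≠ 0)) &&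
  (decide (R.cp = 0) || l.any fun o => decide (o.inv.cp ≠ 0)) &&
  (decide (R.cS = 0) || l.any fun o => decide (o.inv.cS ≠ 0)) &&
  (decide (R.pp = 0) || l.any fun o => decide (o.inv.pp ≠ 0)) &&
  (decide (R.pS = 0) || l.any fun o => decide (o.inv.pS ≠ 0)) &&
  (decide (R.qq = 0) || l.any fun o => decide (o.inv.qq ≠ 0)) &&
  (decide (R.adj = 0) || l.any fun o => decide (o.inv.adj ≠ 0)) &&
  (decide (R.opp = 0) || l.any fun o => decide (o.inv.opp ≠ 0))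

/-- The pruning tests. -/
def pruned (R : Inv) : Bool := pruneForms.any fun f => decide (f.dot R < 0)

/-- Every multiset from `l` with invariants `R` extends `acc` to a refuted configuration. -/
def go : ℕ → List Cls → Inv → List Cls → Bool
  | 0, _, _, _ => false
  | _ + 1, [], R, acc => decide (R ≠ 0) || leafOk acc
  | f + 1, o :: t, R, acc =>
    !supp (o :: t) R || ((pruned (R - o.inv) || go f (o :: t) (R - o.inv) (o :: acc)) && go f t R acc)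

/-- A triple of integers. -/
structure Tri where
  x : ℤ
  y : ℤ
  w : ℤ
deriving DecidableEq

namespace Tri

instance : Zero Tri := ⟨⟨0, 0, 0⟩⟩

instance : Add Tri := ⟨fun u v => ⟨u.x + v.x, u.y + v.y, u.w + v.w⟩⟩

/-- Componentwise minimum. -/
def inf (u v : Tri) : Tri := ⟨min u.x v.x, min u.y v.y, min u.w v.w⟩

/-- Componentwise maximum. -/
def sup (u v : Tri) : Tri := ⟨max u.x v.x, max u.y v.y, max u.w v.w⟩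

end Tri

/-- Bounds for the two degree sums and the three indicator sums. -/
structure Bnd where
  l0 : ℤ
  l1 : ℤ
  h0 : ℤ
  h1 : ℤ
  el : Tri
  eh : Tri

namespace Bnd

instance : Zero Bnd := ⟨⟨0, 0, 0, 0, 0, 0⟩⟩

instance : Add Bnd := ⟨fun u v => ⟨u.l0 + v.l0, u.l1 + v.l1, u.h0 + v.h0, u.h1 + v.h1, u.el + v.el, u.eh + v.eh⟩⟩

/-- The smallest bound containing both. -/
def join (u v : Bnd) : Bnd :=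
  ⟨min u.l0 v.l0, min u.l1 v.l1, max u.h0 v.h0, max u.h1 v.h1, u.el.inf v.el, u.eh.sup v.eh⟩

/-- The targets lie within the bound. -/
def meets (u : Bnd) : Bool :=
  decide (u.l0 ≤ -100000000) && decide (-100000000 ≤ u.h0) && decide (u.l1 ≤ -400000000) &&
    decide (-400000000 ≤ u.h1) && decide (u.el.x ≤ -1) && decide (-1 ≤ u.eh.x) && decide (u.el.y ≤ -2) &&
    decide (-2 ≤ u.eh.y) && decide (u.el.w ≤ -4) && decide (-4 ≤ u.eh.w)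

end Bnd

/-- An option for one orbit: its bound and the possible indicator sums. -/
structure Opt where
  bnd : Bnd
  E : List Tri

/-- The indicator range of a signed row occurring `k` times. -/
def eRange (r : Row) (k : ℕ) : List ℤ :=
  if r.fixed then
    if r.c % 2 = 0 then (List.range (2 * k + 1)).map fun i : ℕ => (i : ℤ) - k
    else (List.range (k + 1)).map fun i : ℕ => (i : ℤ)
  else [0]

/-- The option of a signed row with degree parameter `n`; above the threshold the interval reaches zero. -/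
def mkOpt (r : Row) (k : ℕ) (n : ℤ) (big : Bool) : Opt :=
  let d := r.deg n
  let w0 := (k : ℤ) * r.c * (r.z * r.z) * 100000000
  let w1 := (k : ℤ) * (4 * r.p - r.S) * (r.z * r.z) * 100000000
  let E := (eRange r k).map fun e => (⟨e * r.c, e * r.p, e * r.S⟩ : Tri)
  let lo := fun w : ℤ => if big then min 0 (w / d) else w / d
  let hi := fun w : ℤ => if big then max 0 (-((-w) / d)) else -((-w) / d)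
  ⟨⟨lo w0, lo w1, hi w0, hi w1, E.foldr Tri.inf (E.headD 0), E.foldr Tri.sup (E.headD 0)⟩, E⟩

/-- The options of a signed row: exact degree parameters up to `N`, then one interval. -/
def signOpts (r : Row) (k : ℕ) (N : ℕ) : List Opt :=
  (((List.range N).map fun i : ℕ => (i : ℤ) + 1).filter fun n => r.adm n).map (fun n => mkOpt r k n false) ++
    [mkOpt r k (N + 1) true]

/-- The options of a class. -/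
def opts (o : Cls) (N : ℕ) : List Opt :=
  signOpts o.r o.k N ++ signOpts (o.r.smul (-1)) o.k N

/-- A bound for the choices from a list of options. -/
def joinAll : List Opt → Bnd
  | [] => 0
  | o :: t => t.foldr (fun v u => v.bnd.join u) o.bnd

/-- Attach to each position a bound for everything from it on. -/
def withBounds : List (List Opt) → List (List Opt × Bnd)
  | [] => []
  | l :: t =>
    let r := withBounds t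
    (l, joinAll l + (r.head?.map Prod.snd).getD 0) :: r

/-- Insert without repetition. -/
def insTri (u : Tri) (l : List Tri) : List Tri := if u ∈ l then l else u :: l

/-- All sums of choices. -/
def reach : List (List Tri) → List Tri
  | [] => [0]
  | E :: t =>
    let r := reach t
    (E.flatMap fun u => r.map fun v => u + v).foldr insTri []

/-- No choice of options meets the equations. -/
def srch : List (List Opt × Bnd) → Bnd → List (List Tri) → Bool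
  | [], u, Es => !u.meets || decide (⟨-1, -2, -4⟩ ∉ reach Es)
  | (l, B) :: t, u, Es => !(u + B).meets || l.all fun o => srch t (u + o.bnd) (o.E :: Es)

/-- A configuration has no solution. -/
def dead (C : List Cls × ℕ) : Bool :=
  (C.1.all fun o => decide (0 < o.r.deg (C.2 + 1)) && decide (0 < (o.r.smul (-1)).deg (C.2 + 1))) &&
    srch (withBounds (C.1.map fun o => opts o C.2)) 0 []

theorem certs_dead : certs.all dead = true := by decide +kernel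

theorem go_classes : go 200 classes target [] = true := by decide +kernel

end CfsgLib.U34Sylow
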