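import Cfsg.Agent.U34Sylow.Columns
import Cfsg.Agent.Char.Values
import Cfsg.Agent.Char.PowTwist

/-!
# U₃(4)-type Sylow 2-subgroups: the five Fourier coefficients of the columns at `z fᵏ`

Their products, their integrality, and their behaviour under the Galois action.
-/

set_option autoImplicit false
set_option linter.style.haveILetI false
set_option linter.unusedSectionVars false

namespace CfsgLib.U34Sylow

open Finset Cfsg CfsgLib.Block CfsgLib.Block.Chr CfsgLib.Char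
open scoped ComplexConjugate

universe u

/-- A primitive fifth root of unity. -/
noncomputable def ω : ℂ := Complex.exp (2 * Real.pi * Complex.I / (5 : ℕ))

theorem ω_prim : IsPrimitiveRoot ω 5 := Complex.isPrimitiveRoot_exp 5 (by norm_num)

theorem ω_ne : ω ≠ 0 := ω_prim.ne_zero (by norm_num)

theorem ω_zpow_congr {a b : ℤ} (h : (5 : ℤ) ∣ a - b) : ω ^ a = ω ^ b := by
  obtain ⟨q, hq⟩ := h
  rw [show a = 5 * q + b by omega, zpow_add₀ ω_ne, zpow_mul, show (5 : ℤ) = ((5 : ℕ) : ℤ) from rfl,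
    zpow_natCast, ω_prim.pow_eq_one, one_zpow, one_mul]

theorem conj_ω_zpow (a : ℤ) : conj (ω ^ a) = ω ^ (-a) := by
  rw [map_zpow₀, zpow_neg, ← inv_zpow, Complex.inv_eq_conj
    (Complex.norm_eq_one_of_pow_eq_one ω_prim.pow_eq_one (by norm_num))]

/-- Orthogonality of the fifth roots. -/
theorem sum_ω (t : ℤ) : ∑ k ∈ range 5, ω ^ (t * k) = if (5 : ℤ) ∣ t then 5 else 0 := by
  split_ifs with h
  · rw [sum_congr rfl fun (k : ℕ) _ => show ω ^ (t * (k : ℤ)) = 1 by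
      rw [← zpow_zero ω]; exact ω_zpow_congr (by simpa using h.mul_right (k : ℤ))]
    simp
  · have hne : ω ^ t ≠ 1 := fun e => h (by exact_mod_cast (ω_prim.zpow_eq_one_iff_dvd t).1 e)
    rw [sum_congr rfl fun (k : ℕ) _ => show ω ^ (t * (k : ℤ)) = (ω ^ t) ^ k by rw [zpow_mul, zpow_natCast],
      geom_sum_eq hne, ← zpow_natCast, ← zpow_mul,
      show ω ^ (t * ((5 : ℕ) : ℤ)) = 1 by
        rw [← zpow_zero ω]; exact ω_zpow_congr (by push_cast; simp)]
    simp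

theorem avg_pow {G : Type u} [Group G] [Fintype G] (L : Subgroup G) {g h : G} {s : ℕ}
    (hs : s.Coprime (Nat.card G)) (hmem : ∀ l ∈ L, h⁻¹ * (g * l) ^ s ∈ L) (f : G → ℂ) :
    avg L g (fun a => f (a ^ s)) = avg L h f := by
  classical
  unfold avg
  congr 1
  set T := fun l : G => h⁻¹ * (g * l) ^ s
  have hinj : Set.InjOn T ↑(univ.filter (· ∈ L)) := fun a _ b _ e =>
    mul_left_cancel ((powCoprime (G := G) hs.symm).injective (mul_left_cancel e))
  have himg : (univ.filter (· ∈ L)).image T = univ.filter (· ∈ L) :=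
    eq_of_subset_of_card_le (fun v hv => by
      obtain ⟨l, hl, rfl⟩ := mem_image.1 hv
      exact mem_filter.2 ⟨mem_univ _, hmem l (mem_filter.1 hl).2⟩) (by rw [card_image_of_injOn hinj])
  conv_rhs => rw [← himg, sum_image hinj]
  exact sum_congr rfl fun l _ => by simp only [T, mul_inv_cancel_left]

namespace Ctx

variable {G : Type u} [Group G] [Fintype G] (K : Ctx G)

/-- The Fourier coefficient. -/
noncomputable def coefD (j : ℤ) (χ : G → ℂ) : ℂ :=
  (5 : ℂ)⁻¹ * ∑ k ∈ range 5, ω ^ (-(j * k)) * K.colZ k χ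

theorem coefD_congr {i j : ℤ} (h : (5 : ℤ) ∣ i - j) (χ : G → ℂ) : K.coefD i χ = K.coefD j χ := by
  unfold coefD
  congr 1
  refine sum_congr rfl fun k _ => ?_
  rw [ω_zpow_congr (a := -(i * k)) (b := -(j * k)) (by
    rw [show -(i * (k : ℤ)) - -(j * k) = (i - j) * (-(k : ℤ)) by ring]; exact h.mul_right _)]

theorem sum_coefD (χ : G → ℂ) : ∑ j ∈ range 5, K.coefD j χ = K.colZ 0 χ := by
  simp only [coefD]
  rw [← mul_sum, sum_comm, sum_eq_single 0]
  · simp only [Nat.cast_zero, mul_zero, neg_zero, zpow_zero, one_mul, sum_const, card_range, nsmul_eq_mul]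
    push_cast; ring
  · intro k hk hk0
    rw [← sum_mul, sum_congr rfl fun (j : ℕ) _ => show ω ^ (-((j : ℤ) * k)) = ω ^ (-(k : ℤ) * (j : ℤ)) by congr 1; ring,
      sum_ω, if_neg, zero_mul]
    have := mem_range.1 hk
    omega
  · simp

section pairing

variable [Fintype (IrrCharacter G)] {M : Ideal AlgInt} [M.IsPrime] (hM : IsPModular 2 M)
include hM

theorem conj_colZ (k m : ℤ) :
    ∑ χ : IrrCharacter G, K.colZ k (χ : G → ℂ) * conj (K.colZ m (χ : G → ℂ)) =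
      if (5 : ℤ) ∣ k - m then (if (5 : ℤ) ∣ m then 320 else 20) else 0 := by
  classical
  rw [← K.sum_colZ_conj k m]
  refine sum_congr rfl fun χ _ => ?_
  by_cases hχ : χ ∈ principalBlock M G
  · rw [K.colZ_principal hM m hχ]
  · rw [K.colZ_zero hM k hχ, zero_mul, zero_mul]

theorem colX_colX : ∑ χ : IrrCharacter G, K.colX (χ : G → ℂ) * conj (K.colX (χ : G → ℂ)) = 16 := by
  classical
  rw [← K.sum_colX_conj]
  refine sum_congr rfl fun χ _ => ?_
  by_cases hχ : χ ∈ principalBlock M G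
  · rw [K.colX_principal hM hχ]
  · rw [K.colX_zero hM hχ, zero_mul, zero_mul]

theorem colX_colZ (m : ℤ) :
    ∑ χ : IrrCharacter G, K.colX (χ : G → ℂ) * conj (K.colZ m (χ : G → ℂ)) = 0 := by
  classical
  rw [← K.sum_colX_conjZ m]
  refine sum_congr rfl fun χ _ => ?_
  by_cases hχ : χ ∈ principalBlock M G
  · rw [K.colZ_principal hM m hχ]
  · rw [K.colX_zero hM hχ, zero_mul, zero_mul]

theorem colX_coefD (j : ℤ) :
    ∑ χ : IrrCharacter G, K.colX (χ : G → ℂ) * conj (K.coefD j (χ : G → ℂ)) = 0 := by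
  classical
  simp only [coefD, map_mul, map_sum, mul_sum]
  rw [sum_comm]
  refine sum_eq_zero fun k _ => ?_
  simp only [mul_left_comm (K.colX _)]
  rw [← mul_sum, ← mul_sum, K.colX_colZ hM, mul_zero, mul_zero]

theorem coefD_colZ (j m : ℤ) :
    ∑ χ : IrrCharacter G, K.coefD j (χ : G → ℂ) * conj (K.colZ m (χ : G → ℂ)) =
      (5 : ℂ)⁻¹ * ω ^ (-(j * m)) * (if (5 : ℤ) ∣ m then 320 else 20) := by
  classical
  simp only [coefD, mul_assoc, sum_mul]
  rw [← mul_sum, sum_comm]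
  congr 1
  simp only [← mul_sum, K.conj_colZ hM]
  obtain ⟨k, hk, hk5⟩ : ∃ k < 5, (5 : ℤ) ∣ (k : ℕ) - m := ⟨(m % 5).toNat, by omega, by omega⟩
  rw [sum_eq_single k, if_pos hk5, ω_zpow_congr (a := -(j * k)) (b := -(j * m)) (by
    rw [show -(j * (k : ℤ)) - -(j * m) = ((k : ℤ) - m) * -j by ring]; exact hk5.mul_right _)]
  · intro i hi hik
    have := mem_range.1 hi
    rw [if_neg (by omega), mul_zero]
  · simp [hk]

theorem coefD_colZ_zero (j : ℤ) :
    ∑ χ : IrrCharacter G, K.coefD j (χ : G → ℂ) * conj (K.colZ 0 (χ : G → ℂ)) = 64 := by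
  rw [K.coefD_colZ hM, mul_zero, neg_zero, zpow_zero, if_pos (dvd_zero 5)]
  norm_num

theorem coefD_coefD (i j : ℤ) :
    ∑ χ : IrrCharacter G, K.coefD i (χ : G → ℂ) * conj (K.coefD j (χ : G → ℂ)) =
      12 + if (5 : ℤ) ∣ i - j then 4 else 0 := by
  classical
  conv_lhs => arg 2; ext χ; arg 2; rw [coefD, map_mul, map_sum]
  simp only [map_mul, mul_sum]
  rw [sum_comm]
  simp only [mul_left_comm (K.coefD i _)]
  simp only [← mul_sum, K.coefD_colZ hM, conj_ω_zpow, neg_neg]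
  rw [map_inv₀, show conj (5 : ℂ) = 5 from map_ofNat _ 5]
  have hk : ∀ k ∈ range 5, (ω ^ (j * (k : ℤ))) * ((5 : ℂ)⁻¹ * ω ^ (-(i * (k : ℤ))) * if (5 : ℤ) ∣ (k : ℕ) then 320 else 20) =
      (5 : ℂ)⁻¹ * (20 * ω ^ ((j - i) * k) + if k = 0 then 300 else 0) := by
    intro k hk
    have hk' := mem_range.1 hk
    have e : ω ^ ((j - i) * (k : ℤ)) = ω ^ (j * (k : ℤ)) * ω ^ (-(i * (k : ℤ))) := by
      rw [← zpow_add₀ ω_ne]; ring_nf
    rw [e]
    by_cases h0 : k = 0
    · subst h0; norm_num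
    · rw [if_neg (show ¬ (5 : ℤ) ∣ (k : ℕ) by omega), if_neg h0]; ring
  rw [sum_congr rfl hk, ← mul_sum, sum_add_distrib, ← mul_sum, sum_ω, sum_ite_eq', if_pos (mem_range.2 (by norm_num : 0 < 5))]
  simp only [show ((5 : ℤ) ∣ j - i) = ((5 : ℤ) ∣ i - j) from propext dvd_sub_comm]
  split_ifs <;> norm_num

end pairing

/-- Twisting a character by a power congruent to one modulo four. -/
theorem colX_pow {s : ℕ} (hs : s.Coprime (Nat.card G)) (h4 : s % 4 = 1) (χ : G → ℂ) :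
    K.colX (fun a => χ (a ^ s)) = K.colX χ :=
  avg_pow _ hs (fun l hl => by
    rw [(K.root_commute hl).mul_pow, show s = 4 * (s / 4) + 1 by omega, pow_succ K.root, pow_mul K.root,
      K.root_pow_four, one_pow, one_mul, inv_mul_cancel_left]
    exact pow_mem hl _) χ

/-- Twisting a character by a power congruent to two modulo five. -/
theorem colZ_pow {s : ℕ} (hs : s.Coprime (Nat.card G)) (h4 : s % 4 = 1) (h5 : s % 5 = 2) (k : ℤ)
    (χ : G → ℂ) : K.colZ k (fun a => χ (a ^ s)) = K.colZ (2 * k) χ := by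
  refine avg_pow _ hs (fun l hl => ?_) χ
  have hc : Commute K.z (K.f ^ k * l) :=
    (Subgroup.mem_centralizer_singleton_iff.1 (mul_mem (zpow_mem K.f_mem_C k) (K.coreCent_le hl))).symm
  have hl1 : K.f ^ k * l * (K.f ^ k)⁻¹ ∈ coreCent K.z := K.conj_mem_coreCent (zpow_mem K.f_mem_C k) hl
  obtain ⟨l', hl', e⟩ := K.exists_pow_mul hl1 (zpow_mem K.f_mem_C k) s
  rw [inv_mul_cancel_right] at e
  have hzs : K.z ^ s = K.z := by
    rw [show s = 2 * (s / 2) + 1 by omega, pow_succ, pow_mul, pow_two, K.z_sq, one_pow, one_mul]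
  rw [mul_assoc K.z, hc.mul_pow, hzs, e, ← zpow_natCast, ← zpow_mul, show
    (K.z * K.f ^ (2 * k))⁻¹ * (K.z * (l' * K.f ^ (k * (s : ℕ)))) =
      (K.f ^ (2 * k))⁻¹ * l' * K.f ^ (2 * k) * K.f ^ (k * (s : ℕ) - 2 * k) by group]
  refine mul_mem ?_ (K.zpow_mem_coreCent ?_)
  · simpa using K.conj_mem_coreCent (inv_mem (zpow_mem K.f_mem_C (2 * k))) hl'
  · obtain ⟨q, hq⟩ : (5 : ℤ) ∣ (s : ℤ) - 2 := by omega
    exact ⟨k * q, by linear_combination k * hq⟩

theorem coefD_pow {s : ℕ} (hs : s.Coprime (Nat.card G)) (h4 : s % 4 = 1) (h5 : s % 5 = 2) (j : ℤ)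
    (χ : G → ℂ) : K.coefD j (fun a => χ (a ^ s)) = K.coefD (3 * j) χ := by
  simp only [coefD, K.colZ_pow hs h4 h5]
  congr 1
  refine sum_bij (fun k _ => 2 * k % 5) (fun k hk => ?_) (fun a ha b hb e => ?_) (fun b hb => ?_) fun k hk => ?_
  · exact mem_range.2 (Nat.mod_lt _ (by norm_num))
  · have := mem_range.1 ha; have := mem_range.1 hb; omega
  · exact ⟨3 * b % 5, mem_range.2 (Nat.mod_lt _ (by norm_num)), by have := mem_range.1 hb; omega⟩
  · rw [K.colZ_periodic (k := 2 * (k : ℤ)) (m := ((2 * k % 5 : ℕ) : ℤ)) (by push_cast; omega)]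
    congr 1
    refine ω_zpow_congr ?_
    obtain ⟨q, hq⟩ : (5 : ℤ) ∣ 3 * ((2 * k % 5 : ℕ) : ℤ) - k := by push_cast; omega
    exact ⟨j * q, by linear_combination j * hq⟩

theorem five_dvd_orderOf : 5 ∣ orderOf K.f := by
  by_contra h
  refine K.root_not_mem_Z K.root_mem K.root_sq (K.f_fpf _ K.root_mem ?_)
  obtain ⟨q, hq⟩ := Nat.exists_mul_mod_eq_one_of_coprime
    ((Nat.Prime.coprime_iff_not_dvd (by norm_num)).2 h) (K.f_odd.pos.trans_le le_rfl |> fun h1 => by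
      rcases Nat.eq_or_lt_of_le h1 with h2 | h2
      · exact absurd (orderOf_eq_one_iff.1 h2.symm) K.f_ne
      · exact h2)
  have e : K.f = (K.f ^ 5) ^ q := by
    conv_lhs => rw [← pow_one K.f, ← hq.2, pow_mod_orderOf, pow_mul]
  rw [e, ((K.f_five_S _ K.root_mem).pow_left q).eq, mul_inv_cancel_right, mul_inv_cancel]
  exact one_mem _

theorem exists_hom : ∃ φ : Subgroup.zpowers K.f →* ℂˣ, ∀ i : ℤ,
    ((φ ⟨K.f ^ i, zpow_mem (Subgroup.mem_zpowers K.f) i⟩ : ℂˣ) : ℂ) = ω ^ i := by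
  classical
  have hex : ∀ u : Subgroup.zpowers K.f, ∃ i : ℤ, K.f ^ i = (u : G) := fun u => Subgroup.mem_zpowers_iff.1 u.2
  choose a ha using hex
  have key : ∀ i j : ℤ, K.f ^ i = K.f ^ j → ω ^ i = ω ^ j := fun i j e =>
    ω_zpow_congr (K.nf_unique (l := 1) (l' := 1) (s := 1) (s' := 1) (one_mem _) (one_mem _) (one_mem _)
      (one_mem _) (by simpa using e)).1
  refine ⟨MonoidHom.mk' (fun u => Units.mk0 (ω ^ a u) (zpow_ne_zero _ ω_ne)) fun u v => Units.ext ?_, fun i => ?_⟩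
  · simp only [Units.val_mk0, Units.val_mul, ← zpow_add₀ ω_ne]
    exact key _ _ (by rw [ha, zpow_add, ha, ha, Subgroup.coe_mul])
  · simp only [MonoidHom.mk'_apply, Units.val_mk0]
    exact key _ _ (ha _)

/-- Multiplicities in the restriction to `Y × ⟨f⟩` for `Y ≤ Z`. -/
theorem exists_mult {χ : G → ℂ} (hχ : IsCharacter G χ) (j : ℤ) (Y : Subgroup G) (hY : Y ≤ K.Z)
    [DecidablePred (· ∈ Y)] :
    ∃ n : ℕ, ∑ y ∈ univ.filter (· ∈ Y),
      ((orderOf K.f : ℂ)⁻¹ * ∑ i ∈ range (orderOf K.f), ω ^ (-(j * i)) * χ (y * K.f ^ (i : ℤ))) =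
        (Nat.card Y : ℂ) * n := by
  classical
  obtain ⟨φ, hφ⟩ := K.exists_hom
  haveI : Fintype Y := Fintype.ofFinite _
  haveI : Fintype (Subgroup.zpowers K.f) := Fintype.ofFinite _
  let ι : Y × Subgroup.zpowers K.f →* G :=
    MonoidHom.noncommCoprod Y.subtype (Subgroup.zpowers K.f).subtype fun y u => by
      obtain ⟨i, hi⟩ := Subgroup.mem_zpowers_iff.1 u.2
      show Commute (y : G) (u : G)
      rw [← hi]; exact (K.zpow_commute_Z i (hY y.2)).symm
  let lam : Y × Subgroup.zpowers K.f →* ℂˣ := (φ ^ j).comp (MonoidHom.snd _ _)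
  obtain ⟨n, hn⟩ := IsCharacter.exists_classInner_eq_natCast' (IsCharacter.comp hχ ι) (isCharacter_ofHom lam)
  refine ⟨n, ?_⟩
  rw [← hn, classInner_def, Nat.card_prod, Nat.card_zpowers, Fintype.sum_prod_type]
  push_cast
  rw [mul_inv, ← mul_assoc, mul_inv_cancel_left₀ (Nat.cast_ne_zero.2 Nat.card_pos.ne'),
    sum_subtype (p := fun y => y ∈ Y) (univ.filter (· ∈ Y)) (fun y => by simp), mul_sum]
  refine sum_congr rfl fun y _ => ?_
  congr 1
  rw [← Equiv.sum_comp (finEquivZPowers (isOfFinOrder_of_finite K.f)), ← Fin.sum_univ_eq_sum_range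
    (fun i => ω ^ (-(j * i)) * χ ((y : G) * K.f ^ (i : ℤ)))]
  refine sum_congr rfl fun i _ => ?_
  have e : (finEquivZPowers (isOfFinOrder_of_finite K.f) i) =
      ⟨K.f ^ ((i : ℕ) : ℤ), zpow_mem (Subgroup.mem_zpowers K.f) _⟩ := by
    rw [finEquivZPowers_apply]; exact Subtype.ext (zpow_natCast _ _).symm
  rw [e]
  show ω ^ (-(j * (i : ℕ))) * χ ((y : G) * K.f ^ ((i : ℕ) : ℤ)) =
    χ ((y : G) * K.f ^ ((i : ℕ) : ℤ)) * conj ((((φ ^ j) ⟨K.f ^ ((i : ℕ) : ℤ), _⟩ : ℂˣ)) : ℂ)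
  rw [MonoidHom.zpow_apply, Units.val_zpow_eq_zpow_val, hφ, ← zpow_mul, conj_ω_zpow, mul_comm (χ _),
    mul_comm (i : ℤ) j]

theorem ρ_zpow (y : G) (i : ℤ) : K.ρ * y * K.ρ⁻¹ * K.f ^ i = K.ρ * (y * K.f ^ i) * K.ρ⁻¹ := by
  calc K.ρ * y * K.ρ⁻¹ * K.f ^ i = K.ρ * y * (K.ρ⁻¹ * K.f ^ i) := by group
    _ = _ := by rw [(K.ρ_f.zpow_right i).inv_left.eq]; group

/-- The multiplicities behind the coefficient. -/
theorem exists_mult_coefD {M : Ideal AlgInt} [M.IsPrime] (hM : IsPModular 2 M) {χ : IrrCharacter G}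
    (hχ : χ ∈ principalBlock M G) (j : ℤ) :
    ∃ n n' : ℕ, ((orderOf K.f : ℂ)⁻¹ * ∑ i ∈ range (orderOf K.f), ω ^ (-(j * i)) * (χ : G → ℂ) (K.f ^ (i : ℤ))) +
        3 * K.coefD j (χ : G → ℂ) = 4 * n ∧
      ((orderOf K.f : ℂ)⁻¹ * ∑ i ∈ range (orderOf K.f), ω ^ (-(j * i)) * (χ : G → ℂ) (K.f ^ (i : ℤ))) +
        K.coefD j (χ : G → ℂ) = 2 * n' := by
  classical
  have hχc := IsIrrCharacter.isCharacter χ.2
  set N := orderOf K.f with hN
  set E : G → ℂ := fun y => (N : ℂ)⁻¹ * ∑ i ∈ range N, ω ^ (-(j * i)) * (χ : G → ℂ) (y * K.f ^ (i : ℤ))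
  have hz : E K.z = K.coefD j (χ : G → ℂ) := by
    obtain ⟨q, hq⟩ := K.five_dvd_orderOf
    have hq0 : q ≠ 0 := by rintro rfl; exact (orderOf_pos K.f).ne' (by simpa using hq)
    set F : ℕ → ℂ := fun i => ω ^ (-(j * i)) * K.colZ i (χ : G → ℂ)
    have hper : ∀ i, F (i + 5) = F i := fun i => by
      simp only [F]
      rw [K.colZ_periodic (k := ((i + 5 : ℕ) : ℤ)) (m := (i : ℤ)) (by push_cast; simp),
        ω_zpow_congr (a := -(j * ((i + 5 : ℕ) : ℤ))) (b := -(j * (i : ℤ))) ⟨-j, by push_cast; ring⟩]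
    have hsum : ∀ q, ∑ i ∈ range (q * 5), F i = q • ∑ i ∈ range 5, F i := by
      intro q
      induction q with
      | zero => simp
      | succ q ih =>
        rw [Nat.add_mul, one_mul, Finset.sum_range_add, ih, succ_nsmul]
        congr 1
        refine Finset.sum_congr rfl fun i _ => ?_
        clear ih
        induction q with
        | zero => rw [zero_mul, zero_add]
        | succ q ih => rw [Nat.add_mul, one_mul, add_right_comm, hper, ih]
    simp only [E, coefD]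
    rw [sum_congr rfl fun (i : ℕ) _ => show ω ^ (-(j * (i : ℤ))) * (χ : G → ℂ) (K.z * K.f ^ (i : ℤ)) = F i by
      simp only [F]; rw [K.colZ_principal hM _ hχ], hN, hq, mul_comm 5 q, hsum, nsmul_eq_mul]
    push_cast
    simp only [F]
    field_simp
  have hρ : ∀ y, E (K.ρ * y * K.ρ⁻¹) = E y := fun y => by
    simp only [E, K.ρ_zpow]
    exact congrArg _ (sum_congr rfl fun i _ => by rw [IsCharacter.isClassFunction hχc _ K.ρ])
  have hw : E K.w = E K.z := by rw [← K.ρ_z, hρ]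
  have hzw : E (K.z * K.w) = E K.z := by rw [← K.ρ_w, hρ, hw]
  have h1 : E 1 = (N : ℂ)⁻¹ * ∑ i ∈ range N, ω ^ (-(j * i)) * (χ : G → ℂ) (K.f ^ (i : ℤ)) := by
    simp only [E, one_mul]
  obtain ⟨n, hn⟩ := K.exists_mult hχc j K.Z le_rfl
  obtain ⟨n', hn'⟩ := K.exists_mult hχc j (Subgroup.zpowers K.z) (Subgroup.zpowers_le.2 K.z_mem)
  refine ⟨n, n', ?_, ?_⟩
  · rw [show univ.filter (· ∈ K.Z) = {1, K.z, K.w, K.z * K.w} by ext y; simp [K.mem_Z_iff], sum_insert,
      sum_insert, sum_pair, K.card_Z] at hn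
    · rw [← h1, ← hz]
      linear_combination hn - hw - hzw
    · exact fun h => K.z_ne (mul_eq_right.1 h.symm)
    · simp [K.zw_ne, K.w_ne]
    · simp [K.z_ne.symm, K.w_ne.symm, K.zw_one.symm]
  · have hmem : ∀ y, y ∈ Subgroup.zpowers K.z ↔ y = 1 ∨ y = K.z := by
      intro y
      constructor
      · rintro ⟨i, rfl⟩
        rcases Int.even_or_odd' i with ⟨q, rfl | rfl⟩
        · exact Or.inl (by simp only [zpow_mul, zpow_two, K.z_sq, one_zpow])
        · exact Or.inr (by simp only [zpow_add, zpow_mul, zpow_two, K.z_sq, one_zpow, one_mul, zpow_one])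
      · rintro (rfl | rfl)
        exacts [one_mem _, Subgroup.mem_zpowers _]
    rw [show univ.filter (· ∈ Subgroup.zpowers K.z) = {1, K.z} by ext y; simp [hmem],
      sum_pair K.z_ne.symm, Nat.card_zpowers, K.orderOf_z] at hn'
    rw [← h1, ← hz]
    simp only [E] at hn' ⊢
    exact_mod_cast hn'

theorem exists_int_coefD {M : Ideal AlgInt} [M.IsPrime] (hM : IsPModular 2 M) (χ : IrrCharacter G) (j : ℤ) :
    ∃ a : ℤ, K.coefD j (χ : G → ℂ) = a := by
  classical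
  by_cases hχ : χ ∈ principalBlock M G
  · obtain ⟨n, n', h1, h2⟩ := K.exists_mult_coefD hM hχ j
    refine ⟨2 * n - n', ?_⟩
    push_cast
    linear_combination (h1 - h2) / 2
  · exact ⟨0, by simp [coefD, K.colZ_zero hM _ hχ]⟩

/-- Real principal characters have symmetric coefficients. -/
theorem coefD_neg {M : Ideal AlgInt} [M.IsPrime] (hM : IsPModular 2 M) {χ : IrrCharacter G}
    (hreal : ∀ g, ((χ : G → ℂ) g).im = 0) (j : ℤ) :
    K.coefD (-j) (χ : G → ℂ) = K.coefD j (χ : G → ℂ) := by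
  classical
  have hneg : ∀ k : ℤ, K.colZ (-k) (χ : G → ℂ) = K.colZ k (χ : G → ℂ) := fun k => by
    by_cases hχ : χ ∈ principalBlock M G
    · rw [K.colZ_principal hM _ hχ, K.colZ_principal hM _ hχ,
        ← Complex.conj_eq_iff_im.2 (hreal (K.z * K.f ^ k)), conj_irr, mul_inv_rev, K.Z_inv K.z_mem,
        ← zpow_neg, (K.zpow_commute_Z (-k) K.z_mem).eq]
    · rw [K.colZ_zero hM _ hχ, K.colZ_zero hM _ hχ]
  simp only [coefD]
  congr 1
  refine sum_bij (fun k _ => (5 - k) % 5) (fun k hk => ?_) (fun a ha b hb e => ?_) (fun b hb => ?_) fun k hk => ?_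
  · exact mem_range.2 (Nat.mod_lt _ (by norm_num))
  · have := mem_range.1 ha; have := mem_range.1 hb; omega
  · exact ⟨(5 - b) % 5, mem_range.2 (Nat.mod_lt _ (by norm_num)), by have := mem_range.1 hb; omega⟩
  · have hk' := mem_range.1 hk
    obtain ⟨q, hq⟩ : (5 : ℤ) ∣ (k : ℤ) + (((5 - k) % 5 : ℕ) : ℤ) := by omega
    rw [K.colZ_periodic (k := (((5 - k) % 5 : ℕ) : ℤ)) (m := -(k : ℤ)) ⟨q, by linear_combination hq⟩, hneg]
    congr 1
    exact ω_zpow_congr ⟨j * q, by linear_combination j * hq⟩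

end Ctx

end CfsgLib.U34Sylow
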