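import Cfsg.Agent.U34Sylow.NormalForm
import Cfsg.Agent.S0205

/-!
# U₃(4)-type Sylow 2-subgroups: the averaged columns at `z fᵏ` and at a root of `z`

Their pairings with the columns, with the Frobenius–Schur indicators and with the class products.
-/

set_option autoImplicit false
set_option linter.style.haveILetI false
set_option linter.unusedSectionVars false

namespace CfsgLib.U34Sylow.Ctx

open Finset Cfsg CfsgLib.Block CfsgLib.Block.Chr CfsgLib.Char
open scoped ComplexConjugate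

universe u

variable {G : Type u} [Group G] [Fintype G] (K : Ctx G)

/-- A fixed square root of `z` in `S`. -/
noncomputable def root : G := K.exists_root.choose

theorem root_mem : K.root ∈ (K.S : Subgroup G) := K.exists_root.choose_spec.1

theorem root_sq : K.root * K.root = K.z := K.exists_root.choose_spec.2

/-- The odd core of the centraliser of the root. -/
noncomputable abbrev rootCore : Subgroup G := coreCent K.z ⊓ Subgroup.centralizer ({K.root} : Set G)

/-- The averaged column at `z fᵏ`. -/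
noncomputable def colZ (k : ℤ) (χ : G → ℂ) : ℂ := avg (coreCent K.z) (K.z * K.f ^ k) χ

/-- The averaged column at the root. -/
noncomputable def colX (χ : G → ℂ) : ℂ := avg K.rootCore K.root χ

/-- The indicator, written with conjugates. -/
noncomputable def ind (χ : G → ℂ) : ℂ := (Nat.card G : ℂ)⁻¹ * ∑ b, conj (χ (b * b))

theorem colZ_periodic {k m : ℤ} (h : (5 : ℤ) ∣ k - m) (χ : G → ℂ) : K.colZ k χ = K.colZ m χ := by
  have e : K.z * K.f ^ k = K.z * K.f ^ m * K.f ^ (k - m) := by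
    rw [mul_assoc, ← zpow_add, add_sub_cancel]
  rw [colZ, colZ, e, avg_mul_right _ _ (K.zpow_mem_coreCent h)]

theorem solvable_C : Group.IsSolvable K.C := by
  classical
  haveI : Fact (Nat.Prime 2) := ⟨Nat.prime_two⟩
  haveI : Fact (Nat.Prime 5) := ⟨by norm_num⟩
  have hex : ∀ g : K.C, ∃ i : ℤ, ∃ l ∈ coreCent K.z, ∃ s ∈ (K.S : Subgroup G), (g : G) = l * s * K.f ^ i :=
    fun g => by
      obtain ⟨l, hl, s, hs, i, e⟩ := K.exists_nf g.2
      exact ⟨i, l, hl, s, hs, e⟩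
  choose i l hl s hs he using hex
  have hmul : ∀ g g' : K.C, ((i (g * g') : ℤ) : ZMod 5) = i g + i g' := fun g g' => by
    obtain ⟨l'', h1, h2, e⟩ := K.nf_mul (i g) (i g') (hl g) (hl g') (hs g) (hs g')
    have := (K.nf_unique (hl (g * g')) h1 (hs (g * g')) h2
      ((he (g * g')).symm.trans (by rw [Subgroup.coe_mul, he g, he g', e]))).1
    rw [← Int.cast_add]
    exact sub_eq_zero.1 (by
      rw [← Int.cast_sub]
      exact (ZMod.intCast_zmod_eq_zero_iff_dvd _ 5).2 (by exact_mod_cast this))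
  let φ : K.C →* Multiplicative (ZMod 5) :=
    MonoidHom.mk' (fun g => Multiplicative.ofAdd ((i g : ℤ) : ZMod 5)) fun g g' => by
      show Multiplicative.ofAdd _ = _
      rw [hmul g g', ofAdd_add]
  have hker : Group.IsSolvable φ.ker := by
    set N := ((coreCent K.z).subgroupOf K.C).subgroupOf φ.ker with hN
    haveI : N.Normal := ⟨fun n hn g => K.conj_mem_coreCent (g : K.C).2 hn⟩
    haveI : Group.IsSolvable (coreCent K.z) := Cfsg.Agent.S0205.result K.odd_coreCent
    haveI : Group.IsSolvable N :=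
      solvable_of_solvable_injective (f := ((K.C.subtype.comp φ.ker.subtype).comp N.subtype).codRestrict
        (coreCent K.z) fun n => n.2) fun a b e =>
        Subtype.ext (Subtype.ext (Subtype.ext (congrArg Subtype.val e :)))
    have hQ : IsPGroup 2 (φ.ker ⧸ N) := by
      intro q
      induction q using QuotientGroup.induction_on with | H g =>
      refine ⟨6, (QuotientGroup.eq_one_iff (g ^ 2 ^ 6)).2 ?_⟩
      have h5 : (5 : ℤ) ∣ i g := by
        have h0 : ((i g : ℤ) : ZMod 5) = 0 := g.2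
        exact_mod_cast (ZMod.intCast_zmod_eq_zero_iff_dvd _ 5).1 h0
      have e : ((g : K.C) : G) = l g * K.f ^ i g * s g := by
        rw [he g, mul_assoc (l g) (K.f ^ i g), (K.zpow_commute h5 (hs g)).eq, mul_assoc]
      obtain ⟨l', hl', e'⟩ := K.exists_pow_mul (mul_mem (hl g) (K.zpow_mem_coreCent h5))
        (K.S_le_C (hs g)) (2 ^ 6)
      show (((g ^ 2 ^ 6 : φ.ker) : K.C) : G) ∈ coreCent K.z
      simp only [SubgroupClass.coe_pow]
      rw [e, e', show (2 : ℕ) ^ 6 = Nat.card (K.S : Subgroup G) from K.card_S.symm,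
        orderOf_dvd_iff_pow_eq_one.1 ((K.S : Subgroup G).orderOf_dvd_natCard (hs g)), mul_one]
      exact hl'
    haveI := hQ.isNilpotent
    exact solvable_of_ker_le_range N.subtype (QuotientGroup.mk' N) (by simp)
  exact solvable_of_ker_le_range φ.ker.subtype φ (by simp)

theorem root_le_C : Subgroup.centralizer ({K.root} : Set G) ≤ K.C := fun c hc =>
  Subgroup.mem_centralizer_singleton_iff.2 (by
    rw [← K.root_sq]
    exact (Commute.mul_right (Subgroup.mem_centralizer_singleton_iff.1 hc)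
      (Subgroup.mem_centralizer_singleton_iff.1 hc)).eq)

theorem solvable_root : Group.IsSolvable (Subgroup.centralizer ({K.root} : Set G)) :=
  haveI := K.solvable_C
  solvable_of_solvable_injective (Subgroup.inclusion_injective K.root_le_C)

section principal

variable {M : Ideal AlgInt} [M.IsPrime] (hM : IsPModular 2 M)
include hM

theorem colZ_principal (k : ℤ) {χ : IrrCharacter G} (hχ : χ ∈ principalBlock M G) :
    K.colZ k (χ : G → ℂ) = (χ : G → ℂ) (K.z * K.f ^ k) := by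
  haveI := K.solvable_C
  exact avg_principal hM (k := 1) (by rw [pow_one]; exact K.orderOf_z) (zpow_mem K.f_mem_C k) K.coreCent_eq
    (fun l hl => K.odd_order_coset k hl) hχ

theorem colZ_zero (k : ℤ) {χ : IrrCharacter G} (hχ : χ ∉ principalBlock M G) : K.colZ k (χ : G → ℂ) = 0 := by
  haveI := K.solvable_C
  exact avg_eq_zero hM (k := 1) (by rw [pow_one]; exact K.orderOf_z) (zpow_mem K.f_mem_C k) K.coreCent_eq
    (fun l hl => K.odd_order_coset k hl) hχ

omit hM in
theorem odd_rootCore {l : G} (hl : l ∈ K.rootCore) : Odd (orderOf l) :=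
  K.odd_coreCent.of_dvd_nat ((coreCent K.z).orderOf_dvd_natCard (Subgroup.mem_inf.1 hl).1)

theorem colX_principal {χ : IrrCharacter G} (hχ : χ ∈ principalBlock M G) :
    K.colX (χ : G → ℂ) = (χ : G → ℂ) K.root := by
  haveI := K.solvable_root
  have h := avg_principal hM (u := 1) (K.orderOf_root K.root_sq) (one_mem _)
    (K.core_root K.root_mem K.root_sq) (fun l hl => by rw [one_mul]; exact K.odd_rootCore hl) hχ
  rwa [mul_one] at h

theorem colX_zero {χ : IrrCharacter G} (hχ : χ ∉ principalBlock M G) : K.colX (χ : G → ℂ) = 0 := by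
  haveI := K.solvable_root
  have h := avg_eq_zero hM (u := 1) (K.orderOf_root K.root_sq) (one_mem _)
    (K.core_root K.root_mem K.root_sq) (fun l hl => by rw [one_mul]; exact K.odd_rootCore hl) hχ
  rwa [mul_one] at h

end principal

/-- A power of `z fᵏ l` is `z`. -/
theorem exists_pow_z (k : ℤ) {l : G} (hl : l ∈ coreCent K.z) :
    ∃ N : ℕ, Odd N ∧ (K.f ^ k * l) ^ N = 1 ∧ (K.z * (K.f ^ k * l)) ^ N = K.z := by
  refine ⟨_, K.odd_order_coset k hl, pow_orderOf_eq_one _, ?_⟩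
  have hc : Commute K.z (K.f ^ k * l) :=
    (Subgroup.mem_centralizer_singleton_iff.1 (mul_mem (zpow_mem K.f_mem_C k) (K.coreCent_le hl))).symm
  obtain ⟨j, hj⟩ := K.odd_order_coset k hl
  rw [hc.mul_pow, pow_orderOf_eq_one, mul_one, hj, pow_succ, pow_mul, pow_two, K.z_sq, one_pow, one_mul]

theorem root_commute {l : G} (hl : l ∈ K.rootCore) : Commute K.root l :=
  (Subgroup.mem_centralizer_singleton_iff.1 (Subgroup.mem_inf.1 hl).2).symm

theorem root_pow_four : K.root ^ 4 = 1 := by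
  rw [show (4 : ℕ) = 2 * 2 from rfl, pow_mul, pow_two K.root, K.root_sq, pow_two, K.z_sq]

theorem eq_one_of_pow {l : G} (hl : Odd (orderOf l)) {m : ℕ} (h : l ^ 2 ^ m = 1) : l = 1 :=
  orderOf_eq_one_iff.1 (Nat.eq_one_of_dvd_coprimes ((Nat.coprime_two_right.2 hl).pow_right m) dvd_rfl
    (orderOf_dvd_of_pow_eq_one h))

variable [Fintype (IrrCharacter G)]

theorem count_smul (L : Subgroup G) (m : ℂ) (n : ℕ) (h : (n : ℂ) = m * Nat.card L) :
    (Nat.card L : ℂ)⁻¹ * (n : ℂ) = m := by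
  rw [h, mul_comm m, inv_mul_cancel_left₀ (Nat.cast_ne_zero.2 Nat.card_pos.ne')]

theorem card_core_filter [DecidablePred (· ∈ coreCent K.z)] :
    (univ.filter (· ∈ coreCent K.z)).card = Nat.card (coreCent K.z) := by
  rw [← Fintype.card_subtype, ← Nat.card_eq_fintype_card]

/-- The pairings of the columns at `z fᵏ`. -/
theorem sum_colZ_conj (k m : ℤ) :
    ∑ χ : IrrCharacter G, K.colZ k (χ : G → ℂ) * conj ((χ : G → ℂ) (K.z * K.f ^ m)) =
      if (5 : ℤ) ∣ k - m then (if (5 : ℤ) ∣ m then 320 else 20) else 0 := by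
  classical
  simp only [colZ]
  rw [sum_avg_conj]
  have hset : (univ.filter fun g : G => (K.z * K.f ^ k)⁻¹ * (g * (K.z * K.f ^ m) * g⁻¹) ∈ coreCent K.z) =
      univ.filter fun g => g ∈ K.C ∧ (K.f ^ k)⁻¹ * (g * K.f ^ m * g⁻¹) ∈ coreCent K.z := by
    ext g
    simp only [mem_filter, mem_univ, true_and]
    have hC : g ∈ K.C → (K.z * K.f ^ k)⁻¹ * (g * (K.z * K.f ^ m) * g⁻¹) =
        (K.f ^ k)⁻¹ * (g * K.f ^ m * g⁻¹) := fun hg => by
      rw [← mul_assoc g, (Subgroup.mem_centralizer_singleton_iff.1 hg : g * K.z = K.z * g)]; group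
    refine ⟨fun h => ?_, fun h => by rw [hC h.1]; exact h.2⟩
    suffices hg : g ∈ K.C from ⟨hg, hC hg ▸ h⟩
    set l := (K.z * K.f ^ k)⁻¹ * (g * (K.z * K.f ^ m) * g⁻¹) with hl
    have e : g * (K.z * K.f ^ m) * g⁻¹ = K.z * (K.f ^ k * l) := by rw [hl]; group
    obtain ⟨N, hN, hN1, hNz⟩ := K.exists_pow_z k h
    obtain ⟨N', hN', hN1', hNz'⟩ := K.exists_pow_z m (one_mem _)
    rw [mul_one] at hNz' hN1'
    have hodd : ∀ {n : ℕ}, Odd n → K.z ^ n = K.z := fun {n} hn => by
      obtain ⟨j, rfl⟩ := hn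
      rw [pow_succ, pow_mul, pow_two, K.z_sq, one_pow, one_mul]
    have := congrArg (fun a => a ^ (N * N')) e
    simp only [conj_pow] at this
    rw [pow_mul' (K.z * K.f ^ m), hNz', hodd hN, pow_mul (K.z * (_ * _)), hNz, hodd hN'] at this
    exact Subgroup.mem_centralizer_singleton_iff.2 (mul_inv_eq_iff_eq_mul.1 this)
  rw [hset, K.count_C]
  set LF := univ.filter (· ∈ coreCent K.z)
  set SF := univ.filter (· ∈ (K.S : Subgroup G))
  have hP : ∀ q ∈ LF ×ˢ (SF ×ˢ range 5),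
      ((K.f ^ k)⁻¹ * (q.1 * q.2.1 * K.f ^ (q.2.2 : ℤ) * K.f ^ m * (q.1 * q.2.1 * K.f ^ (q.2.2 : ℤ))⁻¹) ∈
        coreCent K.z ↔ (5 : ℤ) ∣ k - m ∧ Commute q.2.1 (K.f ^ m)) := by
    rintro ⟨a, s, i⟩ hq
    simp only [LF, SF, mem_product, mem_filter, mem_univ, true_and, mem_range] at hq
    set u := s * (K.f ^ m * s⁻¹ * (K.f ^ m)⁻¹) with hu
    have huS : u ∈ (K.S : Subgroup G) := mul_mem hq.2.1 (K.conj_S m (inv_mem hq.2.1))
    set a' := a * ((u * K.f ^ m) * a⁻¹ * (u * K.f ^ m)⁻¹) with ha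
    have haL : a' ∈ coreCent K.z := mul_mem hq.1
      (K.conj_mem_coreCent (mul_mem (K.S_le_C huS) (zpow_mem K.f_mem_C m)) (inv_mem hq.1))
    have e : a * s * K.f ^ (i : ℤ) * K.f ^ m * (a * s * K.f ^ (i : ℤ))⁻¹ = a' * u * K.f ^ m := by
      rw [ha, hu]; group
    simp only [e]
    constructor
    · intro h
      set b := (K.f ^ k)⁻¹ * (a' * u * K.f ^ m) with hb
      have hbL : K.f ^ k * b * (K.f ^ k)⁻¹ ∈ coreCent K.z :=
        K.conj_mem_coreCent (zpow_mem K.f_mem_C k) h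
      obtain ⟨h5, hu1⟩ := K.nf_unique haL hbL huS (one_mem _)
        (show a' * u * K.f ^ m = K.f ^ k * b * (K.f ^ k)⁻¹ * 1 * K.f ^ k by rw [hb]; group)
      refine ⟨dvd_sub_comm.1 h5, ?_⟩
      have e1 : s = K.f ^ m * s * (K.f ^ m)⁻¹ := by
        rw [← mul_inv_eq_one, ← hu1, hu]; group
      exact mul_inv_eq_iff_eq_mul.1 e1.symm |>.symm
    · rintro ⟨h5, hc⟩
      have hu1 : u = 1 := by rw [hu, hc.inv_left.symm.eq]; group
      rw [hu1, mul_one, show (K.f ^ k)⁻¹ * (a' * K.f ^ m) = (K.f ^ k)⁻¹ * a' * K.f ^ k * K.f ^ (m - k) by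
        rw [zpow_sub]; group]
      refine mul_mem ?_ (K.zpow_mem_coreCent (dvd_sub_comm.1 h5))
      simpa using K.conj_mem_coreCent (inv_mem (zpow_mem K.f_mem_C k)) haL
  rw [filter_congr hP]
  by_cases h5 : (5 : ℤ) ∣ k - m
  swap
  · simp [h5]
  simp only [h5, true_and, if_true]
  rw [show (LF ×ˢ (SF ×ˢ range 5)).filter (fun q => Commute q.2.1 (K.f ^ m)) =
    LF ×ˢ ((SF.filter fun s => Commute s (K.f ^ m)) ×ˢ range 5) by ext q; simp; tauto]
  by_cases hm : (5 : ℤ) ∣ m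
  · rw [filter_true_of_mem fun s hs => ((K.zpow_commute hm (mem_filter.1 hs).2).symm), if_pos hm,
      card_product, card_product, card_range, K.card_core_filter,
      show SF.card = 64 by rw [← Fintype.card_subtype, ← Nat.card_eq_fintype_card]; exact K.card_S]
    refine count_smul _ _ _ ?_
    push_cast; ring
  · rw [show SF.filter (fun s => Commute s (K.f ^ m)) = univ.filter (· ∈ K.Z) by
        ext s
        simp only [SF, mem_filter, mem_univ, true_and]
        exact ⟨fun h => K.fpf_zpow hm h.1 (by rw [h.2.symm.eq, mul_inv_cancel_right, mul_inv_cancel]; exact one_mem _),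
          fun h => ⟨K.Z_le h, (K.zpow_commute_Z m h).symm⟩⟩,
      if_neg hm, card_product, card_product, card_range, K.card_core_filter,
      show (univ.filter (· ∈ K.Z)).card = 4 by
        rw [← Fintype.card_subtype, ← Nat.card_eq_fintype_card]; exact K.card_Z]
    refine count_smul _ _ _ ?_
    push_cast; ring

/-- The norm of the column at the root. -/
theorem sum_colX_conj :
    ∑ χ : IrrCharacter G, K.colX (χ : G → ℂ) * conj ((χ : G → ℂ) K.root) = 16 := by
  classical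
  simp only [colX]
  rw [sum_avg_conj]
  have hset : (univ.filter fun g : G => K.root⁻¹ * (g * K.root * g⁻¹) ∈ K.rootCore) =
      univ.filter fun g => Commute g K.root := by
    ext g
    simp only [mem_filter, mem_univ, true_and]
    refine ⟨fun h => ?_, fun h => by rw [h.eq, mul_inv_cancel_right, inv_mul_cancel]; exact one_mem _⟩
    set l := K.root⁻¹ * (g * K.root * g⁻¹) with hl
    have e : g * K.root * g⁻¹ = K.root * l := by rw [hl]; group
    have e4 := congrArg (fun a => a ^ 4) e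
    simp only [conj_pow, (K.root_commute h).mul_pow, K.root_pow_four, mul_one, mul_inv_cancel, one_mul] at e4
    rw [eq_one_of_pow (K.odd_rootCore h) (m := 2) e4.symm, mul_one] at e
    exact mul_inv_eq_iff_eq_mul.1 e
  rw [hset, K.card_cent_root K.root_mem K.root_sq]
  refine count_smul _ _ _ ?_
  push_cast; ring

/-- The column at the root is orthogonal to those at `z fᵏ`. -/
theorem sum_colX_conjZ (m : ℤ) :
    ∑ χ : IrrCharacter G, K.colX (χ : G → ℂ) * conj ((χ : G → ℂ) (K.z * K.f ^ m)) = 0 := by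
  classical
  simp only [colX]
  rw [sum_avg_conj, mul_eq_zero, Nat.cast_eq_zero, card_eq_zero, filter_eq_empty_iff]
  refine Or.inr fun g _ h => K.z_ne ?_
  set l := K.root⁻¹ * (g * (K.z * K.f ^ m) * g⁻¹) with hl
  have e : g * (K.z * K.f ^ m) * g⁻¹ = K.root * l := by rw [hl]; group
  obtain ⟨N, hN, -, hNz⟩ := K.exists_pow_z m (one_mem _)
  rw [mul_one] at hNz
  obtain ⟨j, hj⟩ := hN
  obtain ⟨p, hp⟩ := K.odd_rootCore h
  have hz : K.z ^ (2 * orderOf l) = 1 := by rw [pow_mul, pow_two, K.z_sq, one_pow]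
  have e2 := congrArg (fun a => a ^ (N * (2 * orderOf l))) e
  simp only [conj_pow] at e2
  rw [pow_mul (K.z * _), hNz, hz, mul_one, mul_inv_cancel, (K.root_commute h).mul_pow,
    show N * (2 * orderOf l) = orderOf l * (2 * N) by ring, pow_mul l, pow_orderOf_eq_one, one_pow, mul_one,
    show orderOf l * (2 * N) = 2 * (orderOf l * N) by ring, pow_mul, pow_two, K.root_sq, hp, hj,
    show (2 * p + 1) * (2 * j + 1) = 2 * (2 * p * j + p + j) + 1 by ring, pow_succ, pow_mul, pow_two,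
    K.z_sq, one_pow, one_mul] at e2
  exact e2.symm

/-- The product of an element of order two in `C(z)` lies in `L Z`. -/
theorem invol_mem {p : G} (hp : p ∈ K.C) (hp2 : p * p = 1) :
    ∃ l ∈ coreCent K.z, ∃ y ∈ K.Z, p = l * y := by
  obtain ⟨l, hl, s, hs, i, rfl⟩ := K.exists_nf hp
  obtain ⟨l'', h1, h2, e⟩ := K.nf_mul i i hl hl hs hs
  rw [hp2] at e
  obtain ⟨h5, es⟩ := K.nf_unique (l := 1) (s := 1) (i := 0) (one_mem _) h1 (one_mem _) h2
    (by rw [← e]; simp)
  have hi : (5 : ℤ) ∣ i := by omega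
  rw [(K.zpow_commute hi hs).eq, mul_inv_cancel_right] at es
  refine ⟨l * K.f ^ i, mul_mem hl (K.zpow_mem_coreCent hi), s, (K.invol s hs).1 es.symm, ?_⟩
  rw [mul_assoc l (K.f ^ i) s, (K.zpow_commute hi hs).eq, mul_assoc]

/-- Two conjugates of `z` whose product has a power `z`. -/
theorem pair_mem {p q a : G} {N : ℕ} (hp : IsConj K.z p) (hq : IsConj K.z q) (hpq : q * p = a)
    (ha : a ^ N = K.z) : ∃ l ∈ coreCent K.z, ∃ y ∈ K.Z, a = l * y * K.f ^ (0 : ℤ) := by
  have hsq : ∀ c : G, IsConj K.z c → c * c = 1 := fun c hc => by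
    obtain ⟨g, rfl⟩ := isConj_iff.1 hc
    rw [show g * K.z * g⁻¹ * (g * K.z * g⁻¹) = g * (K.z * K.z) * g⁻¹ by group, K.z_sq]; group
  have hpi := inv_eq_of_mul_eq_one_right (hsq p hp)
  have hinv : p * a * p⁻¹ = a⁻¹ := by
    rw [← hpq, mul_inv_rev, inv_eq_of_mul_eq_one_right (hsq q hq), hpi, mul_assoc, mul_assoc q, hsq p hp,
      mul_one]
  have hpC : p ∈ K.C := by
    have h := congrArg (fun b => b ^ N) hinv
    simp only [conj_pow, inv_pow, ha, K.Z_inv K.z_mem] at h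
    exact Subgroup.mem_centralizer_singleton_iff.2 (mul_inv_eq_iff_eq_mul.1 h)
  have haC : a ∈ K.C := Subgroup.mem_centralizer_singleton_iff.2 (by
    rw [← ha]; exact ((Commute.refl a).pow_right N).eq)
  have hqC : q ∈ K.C := by
    rw [← mul_inv_eq_of_eq_mul hpq.symm]
    exact mul_mem haC (inv_mem hpC)
  obtain ⟨l1, hl1, y1, hy1, rfl⟩ := K.invol_mem hpC (hsq p hp)
  obtain ⟨l2, hl2, y2, hy2, rfl⟩ := K.invol_mem hqC (hsq q hq)
  refine ⟨l2 * (y2 * l1 * y2⁻¹), mul_mem hl2 (K.conj_mem_coreCent (K.S_le_C (K.Z_le hy2)) hl1),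
    y2 * y1, mul_mem hy2 hy1, ?_⟩
  rw [← hpq]; group

/-- No two conjugates of `z` multiply into `z fᵏ L` for `5 ∤ k`. -/
theorem sum_colZ_square {k : ℤ} (hk : ¬ (5 : ℤ) ∣ k) :
    ∑ χ : IrrCharacter G, K.colZ k (χ : G → ℂ) *
      ((χ : G → ℂ) K.z * (χ : G → ℂ) K.z / (χ : G → ℂ) 1) = 0 := by
  refine sum_avg_square _ _ _ fun p q hp hq h => hk ?_
  set l := (K.z * K.f ^ k)⁻¹ * (p * q)⁻¹ with hl
  have hp2 : ∀ c : G, IsConj K.z c → c⁻¹ = c := fun c hc => by
    obtain ⟨g, rfl⟩ := isConj_iff.1 hc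
    rw [mul_inv_rev, mul_inv_rev, inv_inv, K.Z_inv K.z_mem, mul_assoc]
  have e : q * p = K.z * (K.f ^ k * l) := by
    rw [hl, mul_inv_rev p q, hp2 p hp, hp2 q hq]; group
  obtain ⟨N, -, -, hNz⟩ := K.exists_pow_z k h
  obtain ⟨a, ha, y, hy, ea⟩ := K.pair_mem hp hq e hNz
  have hl' : K.z * K.f ^ k * l * (K.z * K.f ^ k)⁻¹ ∈ coreCent K.z :=
    K.conj_mem_coreCent (mul_mem (K.S_le_C (K.Z_le K.z_mem)) (zpow_mem K.f_mem_C k)) h
  have h5 := (K.nf_unique hl' ha (K.Z_le K.z_mem) (K.Z_le hy) (i := k) (j := 0)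
    (by rw [← ea]; group)).1
  simpa using h5

/-- No two conjugates of `z` multiply into `x L`. -/
theorem sum_colX_square :
    ∑ χ : IrrCharacter G, K.colX (χ : G → ℂ) *
      ((χ : G → ℂ) K.z * (χ : G → ℂ) K.z / (χ : G → ℂ) 1) = 0 := by
  refine sum_avg_square _ _ _ fun p q hp hq h => K.root_not_mem_Z K.root_mem K.root_sq ?_
  set l := K.root⁻¹ * (p * q)⁻¹ with hl
  have hp2 : ∀ c : G, IsConj K.z c → c⁻¹ = c := fun c hc => by
    obtain ⟨g, rfl⟩ := isConj_iff.1 hc
    rw [mul_inv_rev, mul_inv_rev, inv_inv, K.Z_inv K.z_mem, mul_assoc]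
  have e : q * p = K.root * l := by
    rw [hl, mul_inv_rev p q, hp2 p hp, hp2 q hq]; group
  have hN : (K.root * l) ^ (2 * orderOf l) = K.z := by
    obtain ⟨j, hj⟩ := K.odd_rootCore h
    rw [(K.root_commute h).mul_pow, pow_mul' l, pow_orderOf_eq_one, one_pow, mul_one, pow_mul, pow_two,
      K.root_sq, hj, pow_succ, pow_mul, pow_two, K.z_sq, one_pow, one_mul]
  obtain ⟨a, ha, y, hy, ea⟩ := K.pair_mem hp hq e hN
  have hs := (K.nf_unique (i := 0) (j := 0)
    (K.conj_mem_coreCent (K.S_le_C K.root_mem) (Subgroup.mem_inf.1 h).1) ha K.root_mem (K.Z_le hy)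
    (by rw [← ea]; group)).2
  exact hs ▸ hy

/-- The indicators against the column at the root: no element of order eight. -/
theorem sum_colX_ind : ∑ χ : IrrCharacter G, K.colX (χ : G → ℂ) * ind (χ : G → ℂ) = 0 := by
  classical
  haveI : Fact (Nat.Prime 2) := ⟨Nat.prime_two⟩
  simp only [colX, ind]
  rw [sum_avg_indicator, mul_eq_zero, Nat.cast_eq_zero, card_eq_zero, filter_eq_empty_iff]
  refine Or.inr fun b _ h => ?_
  set l := K.root⁻¹ * (b * b) with hl
  have e : b * b = K.root * l := by rw [hl]; group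
  obtain ⟨j, hj⟩ := K.odd_rootCore h
  set c := b ^ orderOf l with hc
  have hc4 : c ^ 4 = K.z := by
    rw [hc, ← pow_mul, show orderOf l * 4 = 2 * (2 * orderOf l) by ring, pow_mul, pow_two, e,
      (K.root_commute h).mul_pow, pow_mul' l, pow_orderOf_eq_one, one_pow, mul_one, pow_mul, pow_two,
      K.root_sq, hj, pow_succ, pow_mul, pow_two, K.z_sq, one_pow, one_mul]
  have hpg : IsPGroup 2 (Subgroup.zpowers c) := by
    obtain ⟨i, -, hi⟩ := (Nat.dvd_prime_pow Nat.prime_two).1 (orderOf_dvd_of_pow_eq_one (n := 2 ^ 3)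
      (show c ^ 2 ^ 3 = 1 by rw [show 2 ^ 3 = 4 * 2 from rfl, pow_mul, hc4, pow_two, K.z_sq]))
    exact IsPGroup.of_card (by rw [Nat.card_zpowers, hi])
  obtain ⟨P, hP⟩ := hpg.exists_le_sylow
  obtain ⟨g, hg⟩ := MulAction.exists_smul_eq G P K.S
  have hgc : g * c * g⁻¹ ∈ (K.S : Subgroup G) := by
    rw [← hg, Sylow.coe_subgroup_smul]
    exact ⟨c, hP (Subgroup.mem_zpowers c), rfl⟩
  have h4 := (K.invol _ (K.Z_le (K.sq_mem _ hgc))).2 (K.sq_mem _ hgc)
  refine K.z_ne (conj_eq_one_iff.1 (?_ : g * K.z * g⁻¹ = 1))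
  rw [← hc4]
  calc g * c ^ 4 * g⁻¹ = g * c * g⁻¹ * (g * c * g⁻¹) * (g * c * g⁻¹ * (g * c * g⁻¹)) := by rw [pow_succ, pow_succ, pow_succ, pow_one]; group
    _ = 1 := h4

/-- The indicators against the columns at `z fᵏ`. -/
theorem sum_colZ_ind (k : ℤ) :
    ∑ χ : IrrCharacter G, K.colZ k (χ : G → ℂ) * ind (χ : G → ℂ) = if (5 : ℤ) ∣ k then 20 else 0 := by
  classical
  simp only [colZ, ind]
  rw [sum_avg_indicator]
  have hset : (univ.filter fun b : G => (K.z * K.f ^ k)⁻¹ * (b * b) ∈ coreCent K.z) =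
      univ.filter fun b => b ∈ K.C ∧ (K.z * K.f ^ k)⁻¹ * (b * b) ∈ coreCent K.z := by
    refine filter_congr fun b _ => ⟨fun h => ⟨?_, h⟩, And.right⟩
    obtain ⟨N, -, -, hNz⟩ := K.exists_pow_z k h
    have e : b * b = K.z * (K.f ^ k * ((K.z * K.f ^ k)⁻¹ * (b * b))) := by group
    refine Subgroup.mem_centralizer_singleton_iff.2 ?_
    rw [← hNz, ← e, ← pow_two, ← pow_mul]
    exact ((Commute.refl b).pow_right _).eq
  rw [hset, K.count_C]
  set LF := univ.filter (· ∈ coreCent K.z)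
  set SF := univ.filter (· ∈ (K.S : Subgroup G))
  have hP : ∀ q ∈ LF ×ˢ (SF ×ˢ range 5),
      ((K.z * K.f ^ k)⁻¹ * (q.1 * q.2.1 * K.f ^ (q.2.2 : ℤ) * (q.1 * q.2.1 * K.f ^ (q.2.2 : ℤ))) ∈
        coreCent K.z ↔ (5 : ℤ) ∣ k ∧ q.2.1 * q.2.1 = K.z ∧ q.2.2 = 0) := by
    rintro ⟨a, s, i⟩ hq
    simp only [LF, SF, mem_product, mem_filter, mem_univ, true_and, mem_range] at hq
    obtain ⟨a', h1, h2, e⟩ := K.nf_mul (i : ℤ) (i : ℤ) hq.1 hq.1 hq.2.1 hq.2.1
    simp only [e]
    set u := s * (K.f ^ (i : ℤ) * s * (K.f ^ (i : ℤ))⁻¹) with hu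
    constructor
    · intro h
      set b := (K.z * K.f ^ k)⁻¹ * (a' * u * K.f ^ ((i : ℤ) + i)) with hb
      obtain ⟨h5, hz⟩ := K.nf_unique h1
        (K.conj_mem_coreCent (mul_mem (K.S_le_C (K.Z_le K.z_mem)) (zpow_mem K.f_mem_C k)) h) h2
        (K.Z_le K.z_mem) (show a' * u * K.f ^ ((i : ℤ) + i) =
          K.z * K.f ^ k * b * (K.z * K.f ^ k)⁻¹ * K.z * K.f ^ k by rw [hb]; group)
      by_cases hi : i = 0
      · refine ⟨?_, ?_, hi⟩
        · subst hi; simpa using h5
        · subst hi; simpa [hu] using hz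
      · exfalso
        have hi5 : ¬ (5 : ℤ) ∣ (i : ℤ) := by omega
        have hsZ : s ∈ K.Z := K.fpf_zpow hi5 hq.2.1 (by
          rw [show K.f ^ (i : ℤ) * s * (K.f ^ (i : ℤ))⁻¹ = s⁻¹ * u by rw [hu, inv_mul_cancel_left], hz,
            ← (K.central _ (inv_mem hq.2.1) _ K.z_mem).eq.symm, mul_assoc, ← mul_inv_rev]
          exact mul_mem K.z_mem (inv_mem (K.sq_mem s hq.2.1)))
        rw [hu, (K.zpow_commute_Z (i : ℤ) hsZ).eq, mul_inv_cancel_right,
          (K.invol s hq.2.1).2 hsZ] at hz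
        exact K.z_ne hz.symm
    · rintro ⟨h5, hs2, rfl⟩
      have hu0 : u = K.z := by rw [hu]; simpa using hs2
      rw [hu0, show (K.z * K.f ^ k)⁻¹ * (a' * K.z * K.f ^ (((0 : ℕ) : ℤ) + ((0 : ℕ) : ℤ))) =
        (K.f ^ k)⁻¹ * (K.z⁻¹ * a' * K.z) by simp [mul_assoc]]
      refine mul_mem (inv_mem (K.zpow_mem_coreCent h5)) ?_
      simpa using K.conj_mem_coreCent (inv_mem (K.S_le_C (K.Z_le K.z_mem))) h1
  rw [filter_congr hP]
  by_cases h5 : (5 : ℤ) ∣ k
  swap
  · simp [h5]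
  simp only [h5, true_and, if_true]
  rw [show (LF ×ˢ (SF ×ˢ range 5)).filter (fun q => q.2.1 * q.2.1 = K.z ∧ q.2.2 = 0) =
      LF ×ˢ (K.roots K.z ×ˢ {0}) by
    ext q
    simp only [SF, LF, mem_filter, mem_product, mem_univ, true_and, mem_range, mem_singleton, K.mem_roots]
    constructor
    · tauto
    · rintro ⟨h1, ⟨h2, h3⟩, h4⟩; exact ⟨⟨h1, h2, by omega⟩, h3, h4⟩,
    card_product, card_product, card_singleton, mul_one, K.card_roots, K.card_core_filter]
  refine count_smul _ _ _ ?_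
  push_cast; ring

end CfsgLib.U34Sylow.Ctx
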