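import Cfsg.Agent.U34Sylow.Cert

/-!
# U₃(4)-type Sylow 2-subgroups: every row lies in one of the listed classes

Each test is, up to a positive factor, the sum of the squares of a fixed vector paired with the four rotations.
-/

set_option autoImplicit false

namespace CfsgLib.U34Sylow

/-- The sum over the rotations of the squared pairing with `x`, as a test. -/
def formOf (x : Row) : Inv :=
  ⟨4 * (x.c * x.c), 8 * (x.c * x.p), 2 * (x.c * x.S), 4 * (x.p * x.p), 2 * (x.p * x.S),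
    x.a * x.a + x.b * x.b + x.d * x.d + x.e * x.e, 2 * (x.a * x.b + x.b * x.d + x.d * x.e + x.e * x.a),
    4 * (x.a * x.d + x.b * x.e)⟩

/-- The pairing of two rows. -/
def Row.pair (x r : Row) : ℤ := x.c * r.c + x.p * r.p + x.a * r.a + x.b * r.b + x.d * r.d + x.e * r.e

theorem formOf_dot (x r : Row) : (formOf x).dot (Inv.ofRow 1 r) =
    x.pair r ^ 2 + x.pair r.rot ^ 2 + x.pair r.rot.rot ^ 2 + x.pair r.rot.rot.rot ^ 2 := by
  simp only [formOf, Inv.dot, Inv.ofRow, Row.pair, Row.rot, Row.S]; ring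

/-- The quadratic tests. -/
def forms : List Inv :=
  ⟨1, 0, 0, 0, 0, 0, 0, 0⟩ :: ⟨0, 0, 0, 1, 0, 0, 0, 0⟩ :: ⟨0, 0, 0, 0, 0, 1, 0, 0⟩ :: (pruneForms ++ coverForms)

/-- The vectors and factors of the tests. -/
def formVecs : List (Row × ℕ) :=
  [(⟨1, 0, 0, 0, 0, 0⟩, 4),
   (⟨0, 1, 0, 0, 0, 0⟩, 4),
   (⟨0, 0, 1, 0, 0, 0⟩, 1),
   (⟨-2, -1, -1, 0, -1, 0⟩, 2),
   (⟨0, -2, -2, -1, -1, -1⟩, 1),
   (⟨-2, 2, -1, -1, -1, 0⟩, 1),
   (⟨-1, 1, -2, -1, -1, -1⟩, 1),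
   (⟨-2, 1, -1, 0, 1, 1⟩, 1),
   (⟨-1, 1, 0, 0, 2, 2⟩, 4),
   (⟨-1, 2, 0, 2, 0, 2⟩, 4),
   (⟨0, -2, 0, 1, 1, 1⟩, 1),
   (⟨-2, 2, 2, 2, 2, 2⟩, 16),
   (⟨-1, 0, 0, 2, 2, 2⟩, 4),
   (⟨-1, -2, 0, 0, 0, 0⟩, 4),
   (⟨-1, 0, -2, 1, -1, 2⟩, 2),
   (⟨-1, 0, -2, 0, 2, 2⟩, 4),
   (⟨-2, 0, 2, 2, 2, 2⟩, 16),
   (⟨0, -2, 0, 0, 0, 1⟩, 1),
   (⟨-1, 2, 0, 0, 0, 1⟩, 1),
   (⟨-2, -2, 0, 1, 1, 1⟩, 1),
   (⟨-1, 2, 1, 1, 1, 1⟩, 4),
   (⟨0, -2, 1, 1, 1, 1⟩, 4),
   (⟨-2, 0, 0, 1, 1, 1⟩, 1),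
   (⟨-1, -2, 1, 1, 1, 1⟩, 4)]

/-- The multiple of a test. -/
def Inv.scale (g : ℤ) (f : Inv) : Inv :=
  ⟨g * f.cc, g * f.cp, g * f.cS, g * f.pp, g * f.pS, g * f.qq, g * f.adj, g * f.opp⟩

theorem forms_square : (forms.zip formVecs).all (fun u =>
    decide (0 < u.2.2) && decide (formOf u.2.1 = Inv.scale u.2.2 u.1)) = true ∧ forms.length = formVecs.length := by
  decide +kernel

theorem forms_nonneg {f : Inv} (hf : f ∈ forms) (r : Row) : 0 ≤ f.dot (Inv.ofRow 1 r) := by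
  obtain ⟨i, hi, rfl⟩ := List.mem_iff_getElem.1 hf
  have hi' : i < formVecs.length := forms_square.2 ▸ hi
  have hm : (forms[i], formVecs[i]) ∈ forms.zip formVecs :=
    List.mem_iff_getElem.2 ⟨i, by simp [hi, hi'], List.getElem_zip⟩
  have h := List.all_eq_true.1 forms_square.1 _ hm
  simp only [Bool.and_eq_true, decide_eq_true_eq] at h
  have h2 : (0 : ℤ) ≤ ((formVecs[i].2 : ℕ) : ℤ) * forms[i].dot (Inv.ofRow 1 r) := by
    have e : (Inv.scale (formVecs[i].2 : ℕ) forms[i]).dot (Inv.ofRow 1 r) =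
        ((formVecs[i].2 : ℕ) : ℤ) * forms[i].dot (Inv.ofRow 1 r) := by
      simp only [Inv.scale, Inv.dot]; ring
    rw [← e, ← h.2, formOf_dot]
    positivity
  exact (mul_nonneg_iff_of_pos_left (by exact_mod_cast h.1)).1 h2

/-- A class contains the row up to sign and rotation. -/
def inClass (r : Row) : Bool :=
  classes.any fun o => decide (o.k = r.per) &&
    (decide (r = o.r) || decide (r = o.r.rot) || decide (r = o.r.rot.rot) || decide (r = o.r.rot.rot.rot) ||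
      decide (r = o.r.smul (-1)) || decide (r = (o.r.smul (-1)).rot) || decide (r = (o.r.smul (-1)).rot.rot) ||
      decide (r = (o.r.smul (-1)).rot.rot.rot))

/-- A row is excluded or lies in a class. -/
def rowOk (r : Row) : Bool :=
  (decide (r.c = 0) && decide (r.A = 0)) ||
    forms.any (fun f => decide (f.dot target < f.dot (Inv.ofRow r.per r))) || inClass r

/-- All rows with given first two entries. -/
def rowsOk (c p : ℤ) : Bool :=
  (List.range 5).all fun a => (List.range 5).all fun b => (List.range 5).all fun d => (List.range 5).all fun e =>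
    rowOk ⟨c, p, (a : ℤ) - 2, (b : ℤ) - 2, (d : ℤ) - 2, (e : ℤ) - 2⟩

theorem rowsOk_m3 : ((List.range 5).all fun p => rowsOk (-3) ((p : ℤ) - 2)) = true := by decide +kernel

theorem rowsOk_m2 : ((List.range 5).all fun p => rowsOk (-2) ((p : ℤ) - 2)) = true := by decide +kernel

theorem rowsOk_m1 : ((List.range 5).all fun p => rowsOk (-1) ((p : ℤ) - 2)) = true := by decide +kernel

theorem rowsOk_0 : ((List.range 5).all fun p => rowsOk (0) ((p : ℤ) - 2)) = true := by decide +kernel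

theorem rowsOk_1 : ((List.range 5).all fun p => rowsOk (1) ((p : ℤ) - 2)) = true := by decide +kernel

theorem rowsOk_2 : ((List.range 5).all fun p => rowsOk (2) ((p : ℤ) - 2)) = true := by decide +kernel

theorem rowsOk_3 : ((List.range 5).all fun p => rowsOk (3) ((p : ℤ) - 2)) = true := by decide +kernel

theorem rowOk_of_small {r : Row} (hc : r.c * r.c ≤ 15) (hp : r.p * r.p ≤ 4)
    (ha : r.a * r.a ≤ 8) (hb : r.b * r.b ≤ 8) (hd : r.d * r.d ≤ 8) (he : r.e * r.e ≤ 8) : rowOk r = true := by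
  have h3 : ∀ x : ℤ, x * x ≤ 15 → -3 ≤ x ∧ x ≤ 3 := fun x hx => ⟨by nlinarith, by nlinarith⟩
  have h2 : ∀ x : ℤ, x * x ≤ 8 → -2 ≤ x ∧ x ≤ 2 := fun x hx => ⟨by nlinarith, by nlinarith⟩
  obtain ⟨c, p, a, b, d, e⟩ := r
  obtain ⟨hc1, hc2⟩ := h3 c hc
  obtain ⟨hp1, hp2⟩ := h2 p (hp.trans (by norm_num))
  obtain ⟨ha1, ha2⟩ := h2 a ha
  obtain ⟨hb1, hb2⟩ := h2 b hb
  obtain ⟨hd1, hd2⟩ := h2 d hd
  obtain ⟨he1, he2⟩ := h2 e he
  have h : ((List.range 5).all fun p => rowsOk c ((p : ℤ) - 2)) = true := by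
    interval_cases c
    exacts [rowsOk_m3, rowsOk_m2, rowsOk_m1, rowsOk_0, rowsOk_1, rowsOk_2, rowsOk_3]
  simp only [rowsOk, List.all_eq_true, List.mem_range] at h
  have h' := h (p + 2).toNat (by omega) (a + 2).toNat (by omega) (b + 2).toNat (by omega)
    (d + 2).toNat (by omega) (e + 2).toNat (by omega)
  rw [Int.toNat_of_nonneg (by omega), Int.toNat_of_nonneg (by omega), Int.toNat_of_nonneg (by omega),
    Int.toNat_of_nonneg (by omega), Int.toNat_of_nonneg (by omega)] at h'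
  simpa using h'

end CfsgLib.U34Sylow
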