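import Cfsg.Agent.U34Sylow.LocalBound.Reduce

/-!
# Groups with a Sylow 2-subgroup of type U₃(4): the local bound

If the odd normal subgroup `L` of `C = C(z)` is constant on the coset of `z` for a character and `w` does
not centralise `L` modulo its kernel, both eigenspaces of `w` in the `z = 1` part have dimension at least 16.
-/

set_option autoImplicit false
set_option linter.style.haveILetI false
set_option linter.unusedSectionVars false

universe u

namespace CfsgLib.U34Sylow

open Subgroup CfsgLib.Char CfsgLib.U34Sylow.LB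

variable {C : Type u} [Group C] [Fintype C]

/-- **The local bound.** -/
theorem local_bound (L : Subgroup C) [L.Normal] (hL : Odd (Nat.card L)) (S : Subgroup C) (z w f : C)
    (hcard : Nat.card S = 64) (hz : z ∈ S) (hw : w ∈ S) (hz2 : z * z = 1) (hw2 : w * w = 1)
    (hz1 : z ≠ 1) (hw1 : w ≠ 1) (hzw : z ≠ w)
    (hinvol : ∀ x ∈ S, x * x = 1 ↔ x ∈ closure ({z, w} : Set C))
    (hsq : ∀ x ∈ S, x * x ∈ closure ({z, w} : Set C))
    (hcen : ∀ x ∈ S, Commute x z ∧ Commute x w)
    (hfull : ∀ x ∈ S, x ∉ closure ({z, w} : Set C) → ∀ y ∈ closure ({z, w} : Set C),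
      ∃ v ∈ S, v * x * v⁻¹ * x⁻¹ = y)
    (hzc : ∀ c, Commute c z) (hfS : f ∈ normalizer (S : Set C)) (hfw : Commute f w) (hf5 : ∀ x ∈ S, Commute (f ^ 5) x)
    (hfpf : ∀ x ∈ S, f * x * f⁻¹ * x⁻¹ ∈ closure ({z, w} : Set C) → x ∈ closure ({z, w} : Set C))
    (χ : C → ℂ) (hχ : Cfsg.IsCharacter C χ) (hconst : ∀ u ∈ L, χ (z * u) = χ z)
    (hne : ∃ u ∈ L, χ (w * u * w⁻¹ * u⁻¹) ≠ χ 1) :
    64 ≤ (χ 1 + χ z + χ w + χ (z * w)).re ∧ 64 ≤ (χ 1 + χ z - χ w - χ (z * w)).re := by
  classical
  set Z := closure ({z, w} : Set C) with hZdef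
  have hzZ : z ∈ Z := subset_closure (by simp)
  have hwZ : w ∈ Z := subset_closure (by simp)
  have hZS : Z ≤ S := (closure_le _).2 fun x hx => by
    simp only [Set.mem_insert_iff, Set.mem_singleton_iff] at hx
    rcases hx with rfl | rfl
    exacts [hz, hw]
  have hcomm := (hzc w).eq
  have hmemZ : ∀ x ∈ Z, x = 1 ∨ x = z ∨ x = w ∨ x = z * w := by
    intro x hx
    induction hx using closure_induction with
    | mem a ha =>
      simp only [Set.mem_insert_iff, Set.mem_singleton_iff] at ha
      tauto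
    | one => exact Or.inl rfl
    | inv a _ ih =>
      have hzi : z⁻¹ = z := inv_eq_of_mul_eq_one_right hz2
      have hwi : w⁻¹ = w := inv_eq_of_mul_eq_one_right hw2
      rcases ih with rfl | rfl | rfl | rfl
      · exact Or.inl inv_one
      · exact Or.inr (Or.inl hzi)
      · exact Or.inr (Or.inr (Or.inl hwi))
      · exact Or.inr (Or.inr (Or.inr (by rw [mul_inv_rev, hzi, hwi, hcomm])))
    | mul a b _ _ iha ihb =>
      have t1 : z * (z * w) = w := by rw [← mul_assoc, hz2, one_mul]
      have t2 : z * w * z = w := by rw [← hcomm, mul_assoc, hz2, mul_one]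
      have t3 : w * (z * w) = z := by rw [← mul_assoc, hcomm, mul_assoc, hw2, mul_one]
      have t4 : z * w * w = z := by rw [mul_assoc, hw2, mul_one]
      have t5 : z * w * (z * w) = 1 := by
        rw [(hzc w).mul_mul_mul_comm, hz2, hw2, one_mul]
      rcases iha with rfl | rfl | rfl | rfl <;> rcases ihb with rfl | rfl | rfl | rfl <;>
        simp only [one_mul, mul_one, hz2, hw2, hcomm, t1, t2, t3, t4, t5, true_or, or_true]
  -- the quotient by the part of the kernel in `L`
  set K := kerSubgroup hχ with hK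
  haveI : K.Normal := kerSubgroup_normal hχ
  let N : Subgroup C := L ⊓ K
  haveI : N.Normal := inferInstance
  have hNodd : Odd (Nat.card N) := hL.of_dvd_nat (card_dvd_of_le inf_le_left)
  let π := QuotientGroup.mk' N
  have hπ : Function.Surjective π := QuotientGroup.mk'_surjective N
  have hinj : ∀ x ∈ S, π x = 1 → x = 1 := fun x hx h => by
    have hxN : x ∈ N := (QuotientGroup.eq_one_iff x).1 h
    have h1 := orderOf_dvd_natCard N hxN
    have h2 := orderOf_dvd_natCard S hx
    rw [hcard] at h2
    refine orderOf_eq_one_iff.1 (Nat.eq_one_of_dvd_coprimes ?_ h2 h1)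
    rw [show 64 = 2 ^ 6 from rfl]
    exact (Nat.coprime_two_left.2 hNodd).pow_left 6
  have hinj' : ∀ x ∈ S, ∀ y ∈ S, π x = π y → x = y := fun x hx y hy h =>
    mul_inv_eq_one.1 (hinj _ (mul_mem hx (inv_mem hy)) (by rw [map_mul, map_inv, h, mul_inv_cancel]))
  letI : Fintype (C ⧸ N) := Fintype.ofFinite _
  let D : Two (C ⧸ N) :=
    { S := S.map π
      Z := Z.map π
      z := π z
      w := π w
      f := π f
      Z_le := map_mono hZS
      z_mem := mem_map_of_mem π hzZ
      w_mem := mem_map_of_mem π hwZ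
      z_ne := fun e => hz1 (hinj z hz e)
      w_ne := fun e => hw1 (hinj w hw e)
      zw_ne := fun e => hzw (hinj' z hz w hw e)
      z_sq := by rw [← map_mul, hz2, map_one]
      w_sq := by rw [← map_mul, hw2, map_one]
      mem_Z := by
        rintro _ ⟨x, hx, rfl⟩
        rcases hmemZ x hx with rfl | rfl | rfl | rfl
        exacts [Or.inl (map_one π), Or.inr (Or.inl rfl), Or.inr (Or.inr (Or.inl rfl)),
          Or.inr (Or.inr (Or.inr (map_mul π z w)))]
      card_S := by
        rw [← hcard]
        refine (Nat.card_congr (Equiv.ofBijective (fun x : S => (⟨π x, mem_map_of_mem π x.2⟩ : S.map π))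
          ⟨fun x y e => Subtype.ext (hinj' x x.2 y y.2 (Subtype.ext_iff.1 e)), ?_⟩)).symm
        rintro ⟨_, x, hx, rfl⟩
        exact ⟨⟨x, hx⟩, rfl⟩
      sq_mem := by
        rintro _ ⟨x, hx, rfl⟩
        rw [← map_mul]
        exact mem_map_of_mem π (hsq x hx)
      invol := by
        rintro _ ⟨x, hx, rfl⟩ h
        rw [← map_mul] at h
        exact mem_map_of_mem π ((hinvol x hx).1 (hinj _ (mul_mem hx hx) h))
      central := by
        rintro _ ⟨x, hx, rfl⟩ _ ⟨y, hy, rfl⟩
        refine Commute.map ?_ π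
        rcases hmemZ y hy with rfl | rfl | rfl | rfl
        exacts [Commute.one_right x, (hcen x hx).1, (hcen x hx).2,
          (hcen x hx).1.mul_right (hcen x hx).2]
      full := by
        rintro _ ⟨x, hx, rfl⟩ hxZ _ ⟨y, hy, rfl⟩
        obtain ⟨v, hv, e⟩ := hfull x hx (fun h => hxZ (mem_map_of_mem π h)) y hy
        exact ⟨π v, mem_map_of_mem π hv, by rw [← e]; simp⟩
      z_central := fun c => by
        obtain ⟨c, rfl⟩ := hπ c
        exact (hzc c).map π
      f_mem := mem_normalizer_of fun r hr => by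
        obtain ⟨x, hx, rfl⟩ := hr
        exact ⟨f * x * f⁻¹, (mem_normalizer_iff.1 hfS x).1 hx, by simp⟩
      f_w := hfw.map π
      f_fpf := by
        rintro _ ⟨x, hx, rfl⟩ ⟨y, hy, e⟩
        refine mem_map_of_mem π (hfpf x hx ?_)
        have : y = f * x * f⁻¹ * x⁻¹ := hinj' y (hZS hy) _
          (mul_mem ((mem_normalizer_iff.1 hfS x).1 hx) (inv_mem hx)) (by rw [e]; simp)
        rwa [← this]
      f_five := by
        rintro _ ⟨x, hx, rfl⟩
        simp only [← map_pow, ← map_inv, ← map_mul, (hf5 x hx).eq, mul_inv_cancel_right, mul_inv_cancel, map_one]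
        exact one_mem _ }
  -- the character of the quotient
  obtain ⟨d, ρ, rfl⟩ := id hχ
  have hNker : N ≤ ρ.ker := fun n hn => by
    rw [MonoidHom.mem_ker]
    exact apply_eq_one_of_character_eq ρ (by rw [(mem_kerSubgroup hχ n).1 hn.2, Representation.char_one])
  let σ : Representation ℂ (C ⧸ N) (Fin d → ℂ) := QuotientGroup.lift N ρ hNker
  have hval : ∀ g : C, σ.character (π g) = ρ.character g := fun g => rfl
  haveI : (L.map π).Normal := Subgroup.Normal.map inferInstance π hπ
  have hLodd : Odd (Nat.card (L.map π)) := hL.of_dvd_nat (card_map_dvd _ _)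
  have hrel := bound_faithful D (L.map π) hLodd (χ := σ.character) ⟨d, σ, rfl⟩
    (by
      rintro _ ⟨u, hu, rfl⟩
      show σ.character (π z * π u) = σ.character (π z)
      rw [← map_mul, hval, hval, hconst u hu])
    (by
      rintro _ ⟨u, hu, rfl⟩ h
      rw [hval, ← map_one π, hval] at h
      exact (QuotientGroup.eq_one_iff u).2 ⟨hu, (mem_kerSubgroup hχ u).2 h⟩)
    (by
      obtain ⟨u, hu, hne⟩ := hne
      refine ⟨π u, mem_map_of_mem π hu, fun h => hne ?_⟩
      have e : π (w * u * w⁻¹ * u⁻¹) = 1 := by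
        have h' : π u * π w = π w * π u := h.eq
        simp only [map_mul, map_inv]
        rw [← h', mul_inv_cancel_right, mul_inv_cancel]
      exact (mem_kerSubgroup hχ _).1 ((QuotientGroup.eq_one_iff _).1 e).2)
  simp only [show D.z = π z from rfl, show D.w = π w from rfl, ← map_mul, ← map_one π, hval] at hrel
  exact hrel

end CfsgLib.U34Sylow
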