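import Cfsg.Agent.U34Sylow.Setup
import Cfsg.Agent.U3Type.Data
import Cfsg.Agent.ZStar.Final
import Cfsg.Agent.Coprime.Sylow

/-!
# Groups with a Sylow 2-subgroup of type U₃(4): reduction to simple groups, strong embedding

A minimal normal subgroup either lies in the centre of the Sylow subgroup or contains the whole of it.
In a group in which the centralisers of the three involutions centralise `Z`, the normaliser of `Z` is
strongly embedded.
-/

set_option autoImplicit false
set_option linter.unusedSectionVars false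
set_option linter.style.haveILetI false

namespace CfsgLib.U34Sylow

open Subgroup
open scoped Pointwise

universe u v

variable {G : Type u} [Group G] [Finite G]

/-- What the reduction uses of the isomorphism type. -/
structure SylowData (S : Sylow 2 G) (Z : Subgroup G) : Prop where
  Z_le : Z ≤ (S : Subgroup G)
  card_S : Nat.card (S : Subgroup G) = 64
  card_Z : Nat.card Z = 4
  invol : ∀ x ∈ (S : Subgroup G), (x * x = 1 ↔ x ∈ Z)
  sq_mem : ∀ x ∈ (S : Subgroup G), x * x ∈ Z
  central : ∀ x ∈ (S : Subgroup G), ∀ y ∈ Z, Commute x y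

/-- The data of a `Base`. -/
theorem Base.sylowData (B : Base G) : SylowData B.S B.Z :=
  ⟨B.Z_le, B.card_S, B.card_Z, B.invol, B.sq_mem, B.central⟩

/-- The centre of a Sylow 2-subgroup with the facts of type U₃(4). -/
theorem exists_sylowData (S : Sylow 2 G) (hS : U3Type.Facts ↥(S : Subgroup G) 2) :
    ∃ Z, SylowData S Z := by
  let Z₀ : Subgroup ↥(S : Subgroup G) :=
    { carrier := {x | x * x = 1}
      one_mem' := mul_one 1
      mul_mem' := fun {a b} ha hb => by
        show a * b * (a * b) = 1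
        rw [mul_assoc, ← mul_assoc b a b, ← hS.central a ha b, mul_assoc a b b,
          show b * b = 1 from hb, mul_one]
        exact ha
      inv_mem' := fun {a} ha => by
        show a⁻¹ * a⁻¹ = 1
        rw [← mul_inv_rev, show a * a = 1 from ha, inv_one] }
  refine ⟨Z₀.map (S : Subgroup G).subtype, map_subtype_le _, by rw [hS.card]; norm_num, ?_, ?_, ?_, ?_⟩
  · rw [card_map_of_injective (S : Subgroup G).subtype_injective]
    exact hS.card_inv.trans (by norm_num)
  · intro x hx
    constructor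
    · exact fun h => ⟨⟨x, hx⟩, Subtype.ext h, rfl⟩
    · rintro ⟨k, hk, rfl⟩
      exact congrArg Subtype.val (show k * k = 1 from hk)
  · exact fun x hx => ⟨⟨x, hx⟩ * ⟨x, hx⟩, hS.sq_sq ⟨x, hx⟩, rfl⟩
  · rintro x hx _ ⟨k, hk, rfl⟩
    exact (congrArg Subtype.val (hS.central k hk ⟨x, hx⟩)).symm

theorem eq_one_or_orderOf_two {x : G} (h : x * x = 1) : x = 1 ∨ orderOf x = 2 := by
  by_cases hx : x = 1
  · exact Or.inl hx
  · exact Or.inr (orderOf_eq_prime (by rw [sq]; exact h) hx)

namespace SylowData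

variable {S : Sylow 2 G} {Z : Subgroup G} (D : SylowData S Z)
include D

theorem Z_sq {x : G} (hx : x ∈ Z) : x * x = 1 := (D.invol x (D.Z_le hx)).2 hx

theorem mem_of_conj {x g : G} (hx : x ∈ Z) (h : g * x * g⁻¹ ∈ (S : Subgroup G)) : g * x * g⁻¹ ∈ Z :=
  (D.invol _ h).1 (by
    rw [show g * x * g⁻¹ * (g * x * g⁻¹) = g * (x * x) * g⁻¹ by group, D.Z_sq hx]; group)

theorem centralizes {s : G} (hs : s ∈ (S : Subgroup G)) : s ∈ centralizer (Z : Set G) :=
  mem_centralizer_iff.2 fun y hy => (D.central s hs y hy).eq.symm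

theorem normalizes {g : G} (h : ∀ x ∈ Z, g * x * g⁻¹ ∈ (S : Subgroup G)) :
    g ∈ normalizer (Z : Set G) := by
  refine mem_normalizer_iff_map_conj_eq.2 (eq_of_le_of_card_ge ?_
    (card_map_of_injective (f := (MulAut.conj g).toMonoidHom) (MulAut.conj g).injective).ge)
  rintro _ ⟨x, hx, rfl⟩
  exact D.mem_of_conj hx (h x hx)

theorem normalizer_S_le : normalizer ((S : Subgroup G) : Set G) ≤ normalizer (Z : Set G) :=
  fun g hg => D.normalizes fun x hx => (mem_normalizer_iff.1 hg x).1 (D.Z_le hx)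

theorem exists_ne_one : ∃ x ∈ Z, x ≠ 1 := by
  by_contra h
  push Not at h
  have : Z = ⊥ := (eq_bot_iff_forall Z).2 h
  have h4 := D.card_Z
  rw [this, card_bot] at h4
  norm_num at h4

/-- An element of odd order normalising `Z` that fixes a nontrivial element of it fixes all of it. -/
theorem odd_fix {u e : G} (hu : u ∈ normalizer (Z : Set G)) (hodd : Odd (orderOf u)) (he : e ∈ Z)
    (he1 : e ≠ 1) (hue : Commute u e) : u ∈ centralizer (Z : Set G) := by
  classical
  haveI : Fintype Z := Fintype.ofFinite _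
  let e' : Z := ⟨e, he⟩
  refine mem_centralizer_iff.2 fun a ha => ?_
  let c : G → G := fun x => u * x * u⁻¹
  have hc : ∀ x ∈ Z, c x ∈ Z := fun x hx => (mem_normalizer_iff.1 hu x).1 hx
  have hinj : Function.Injective c := fun x y h => mul_left_cancel (mul_right_cancel h)
  have hce : c e = e := by show u * e * u⁻¹ = e; rw [hue.eq, mul_inv_cancel_right]
  have hc1 : c 1 = 1 := by show u * 1 * u⁻¹ = 1; group
  have h2 : Commute (u ^ 2) a := by
    have hsq : c (c a) = a := by
      by_cases h1 : a = 1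
      · subst h1; rw [hc1, hc1]
      by_cases h3 : a = e
      · subst h3; rw [hce, hce]
      by_contra hne
      have hb1 : c a ≠ 1 := fun h => h1 (hinj (h.trans hc1.symm))
      have hbe : c a ≠ e := fun h => h3 (hinj (h.trans hce.symm))
      have hb2 : c (c a) ≠ 1 := fun h => hb1 (hinj (h.trans hc1.symm))
      have hbe2 : c (c a) ≠ e := fun h => hbe (hinj (h.trans hce.symm))
      have hab : c a ≠ a := fun h => hne (by rw [h, h])
      have hbb : c (c a) ≠ c a := fun h => hab (hinj h)
      let f : Fin 5 → Z := ![1, e', ⟨a, ha⟩, ⟨c a, hc a ha⟩, ⟨c (c a), hc _ (hc a ha)⟩]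
      have hf : Function.Injective f := by
        intro i j hij
        have h := congrArg Subtype.val hij
        fin_cases i <;> fin_cases j <;> simp [f, e'] at h <;>
          first
          | rfl
          | exact absurd h he1 | exact absurd h.symm he1
          | exact absurd h h1 | exact absurd h.symm h1
          | exact absurd h h3 | exact absurd h.symm h3
          | exact absurd h hb1 | exact absurd h.symm hb1
          | exact absurd h hbe | exact absurd h.symm hbe
          | exact absurd h hb2 | exact absurd h.symm hb2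
          | exact absurd h hbe2 | exact absurd h.symm hbe2
          | exact absurd h hne | exact absurd h.symm hne
          | exact absurd h hab | exact absurd h.symm hab
          | exact absurd h hbb | exact absurd h.symm hbb
      have := Nat.card_le_card_of_injective f hf
      rw [D.card_Z, Nat.card_eq_fintype_card, Fintype.card_fin] at this
      omega
    have h3 : u ^ 2 * a * (u ^ 2)⁻¹ = a := by
      rw [show u ^ 2 * a * (u ^ 2)⁻¹ = c (c a) by simp only [c, pow_two, mul_inv_rev, mul_assoc]]; exact hsq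
    exact mul_inv_eq_iff_eq_mul.1 h3
  obtain ⟨m, hm⟩ := hodd
  have h4 := ((h2.pow_left (m + 1)) : Commute ((u ^ 2) ^ (m + 1)) a)
  rw [← pow_mul, show 2 * (m + 1) = orderOf u + 1 by omega, pow_succ, pow_orderOf_eq_one,
    one_mul] at h4
  exact h4.eq.symm

/-- Some nontrivial element of a normal subgroup lies in `Z`. -/
theorem exists_mem_normal (hO : Cfsg.oddCore G = ⊥) {N : Subgroup G} [N.Normal] (hN : N ≠ ⊥) :
    ∃ x ∈ Z, x ∈ N ∧ x ≠ 1 := by
  haveI : Fact (Nat.Prime 2) := ⟨Nat.prime_two⟩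
  have hev : 2 ∣ Nat.card N := by
    by_contra h
    exact hN (le_bot_iff.1 (hO ▸ Bender.Core.le_oddCore inferInstance
      (Nat.not_even_iff_odd.1 fun h' => h (even_iff_two_dvd.1 h'))))
  obtain ⟨⟨i, hiN⟩, hi⟩ := exists_prime_orderOf_dvd_card' (G := N) 2 hev
  rw [Subgroup.orderOf_mk] at hi
  obtain ⟨T, hT⟩ := (IsPGroup.of_card (p := 2) (n := 1) (G := zpowers i)
    (by rw [Nat.card_zpowers, hi, pow_one])).exists_le_sylow
  obtain ⟨g, rfl⟩ := MulAction.exists_smul_eq G T S
  have hmem : g * i * g⁻¹ ∈ ((g • T : Sylow 2 G) : Subgroup G) := ⟨i, hT (mem_zpowers i), rfl⟩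
  refine ⟨g * i * g⁻¹, (D.invol _ hmem).1 ?_, ‹N.Normal›.conj_mem i hiN g, fun h => ?_⟩
  · rw [show g * i * g⁻¹ * (g * i * g⁻¹) = g * (i * i) * g⁻¹ by group,
      show i * i = 1 by rw [← sq, ← hi, pow_orderOf_eq_one]]
    group
  · rw [conj_eq_one_iff] at h
    rw [h, orderOf_one] at hi
    norm_num at hi

/-- A minimal normal subgroup lies in `Z` or contains the Sylow subgroup. -/
theorem minimal_cases (hO : Cfsg.oddCore G = ⊥) {N : Subgroup G} [hNn : N.Normal] (hN : N ≠ ⊥)
    (hmin : ∀ K : Subgroup G, K.Normal → K ≤ N → K = ⊥ ∨ K = N) :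
    N ≤ Z ∨ (S : Subgroup G) ≤ N := by
  classical
  haveI : Fact (Nat.Prime 2) := ⟨Nat.prime_two⟩
  obtain ⟨z, hzZ, hzN, hz1⟩ := D.exists_mem_normal hO hN
  obtain ⟨P, hP⟩ : ∃ P : Sylow 2 N, (P : Subgroup N) = (S : Subgroup G).subgroupOf N := by
    obtain ⟨P, hP⟩ := (S.2.comap_of_injective N.subtype N.subtype_injective).exists_le_sylow
    refine ⟨P, le_antisymm ?_ hP⟩
    obtain ⟨T, hT⟩ := (P.2.map N.subtype).exists_le_sylow
    obtain ⟨g, hg⟩ := MulAction.exists_smul_eq G T S
    have h1 : Nat.card (P : Subgroup N) ≤ Nat.card ((S : Subgroup G).subgroupOf N) := by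
      refine Nat.card_le_card_of_injective
        (fun x => (⟨⟨g * ((x : N) : G) * g⁻¹, hNn.conj_mem _ (x : N).2 g⟩, ?_⟩ :
          (S : Subgroup G).subgroupOf N)) fun x y h => ?_
      · show g * ((x : N) : G) * g⁻¹ ∈ (S : Subgroup G)
        rw [← hg]
        exact ⟨_, hT ⟨x, x.2, rfl⟩, rfl⟩
      · exact Subtype.ext (Subtype.ext (mul_left_cancel (mul_right_cancel
          (congrArg (fun k : (S : Subgroup G).subgroupOf N => ((k : N) : G)) h))))
    exact (eq_of_le_of_card_ge hP h1).ge
  have hPZ : ∀ x : N, x ∈ (P : Subgroup N) ↔ (x : G) ∈ (S : Subgroup G) := fun x => by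
    rw [hP, mem_subgroupOf]
  by_cases hfix : ∀ g : N, g * (⟨z, hzN⟩ : N) * g⁻¹ ∈ P → g * (⟨z, hzN⟩ : N) * g⁻¹ = ⟨z, hzN⟩
  · -- `N` is abelian
    left
    have hord : orderOf (⟨z, hzN⟩ : N) = 2 :=
      orderOf_eq_prime (by rw [sq]; exact Subtype.ext (D.Z_sq hzZ)) fun h => hz1 (congrArg Subtype.val h)
    obtain ⟨M, hMn, hModd, hMc⟩ := ZStar.zstar_of_sylow P hord hfix
    have hM : M = ⊥ := by
      have hMle : M ≤ Cfsg.oddCore N := Bender.Core.le_oddCore hMn hModd
      have h1 : ((Cfsg.oddCore N).map N.subtype).Normal := by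
        haveI : (Cfsg.oddCore N).Characteristic := characteristic_iff_map_le.2 fun φ => by
          refine Bender.Core.le_oddCore (Normal.map inferInstance _ φ.surjective) ?_
          rw [card_map_of_injective (show Function.Injective φ.toMonoidHom from φ.injective)]
          exact IsoApps.odd_oddCore
        infer_instance
      have h2 : (Cfsg.oddCore N).map N.subtype = ⊥ := le_bot_iff.1 (hO ▸ Bender.Core.le_oddCore h1
        (by rw [card_map_of_injective N.subtype_injective]; exact IsoApps.odd_oddCore))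
      rw [map_eq_bot_iff_of_injective _ N.subtype_injective] at h2
      exact le_bot_iff.1 (hMle.trans h2.le)
    have hzc : (⟨z, hzN⟩ : N) ∈ center N := mem_center_iff.2 fun g => by
      have := hMc g
      rw [hM, mem_bot, mul_inv_eq_one, mul_inv_eq_iff_eq_mul] at this
      exact this.symm
    let E : Subgroup N :=
      { carrier := {x | x ∈ center N ∧ x * x = 1}
        one_mem' := ⟨one_mem _, mul_one 1⟩
        mul_mem' := fun {a b} ha hb => ⟨mul_mem ha.1 hb.1, by
          rw [mul_assoc, ← mul_assoc b a b, mem_center_iff.1 ha.1 b, mul_assoc a b b, hb.2, mul_one,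
            ha.2]⟩
        inv_mem' := fun {a} ha => ⟨inv_mem ha.1, by rw [← mul_inv_rev, ha.2, inv_one]⟩ }
    have hE : (E.map N.subtype).Normal := ⟨by
      rintro _ ⟨x, hx, rfl⟩ g
      refine ⟨⟨g * x * g⁻¹, hNn.conj_mem _ x.2 g⟩, ⟨mem_center_iff.2 fun k => Subtype.ext ?_,
        Subtype.ext ?_⟩, rfl⟩
      · have h := congrArg Subtype.val (mem_center_iff.1 hx.1
          ⟨g⁻¹ * (k : G) * g, by simpa using hNn.conj_mem _ k.2 g⁻¹⟩)
        show (k : G) * (g * x * g⁻¹) = g * x * g⁻¹ * k
        calc (k : G) * (g * x * g⁻¹) = g * (g⁻¹ * k * g * x) * g⁻¹ := by group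
          _ = g * ((x : G) * (g⁻¹ * k * g)) * g⁻¹ := by rw [show g⁻¹ * (k : G) * g * x = _ from h]; rfl
          _ = _ := by group
      · show g * (x : G) * g⁻¹ * (g * x * g⁻¹) = 1
        rw [show g * (x : G) * g⁻¹ * (g * x * g⁻¹) = g * ((x : G) * x) * g⁻¹ by group,
          show (x : G) * x = 1 from congrArg Subtype.val hx.2]
        group⟩
    rcases hmin _ hE (map_subtype_le _) with h | h
    · exfalso
      have : z ∈ E.map N.subtype := ⟨⟨z, hzN⟩, ⟨hzc, Subtype.ext (D.Z_sq hzZ)⟩, rfl⟩
      rw [h, mem_bot] at this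
      exact hz1 this
    · intro x hx
      have hsq : ∀ y ∈ N, y * y = 1 := fun y hy => by
        rw [← h] at hy
        obtain ⟨k, hk, rfl⟩ := hy
        exact congrArg Subtype.val hk.2
      have hN2 : IsPGroup 2 N := fun y => ⟨1, by rw [pow_one, sq]; exact Subtype.ext (hsq y y.2)⟩
      have hle : N ≤ (S : Subgroup G) := by
        have h2 := S.3 (S.2.to_sup_of_normal_right hN2) le_sup_left
        exact le_sup_right.trans h2.le
      exact (D.invol x (hle hx)).1 (hsq x hx)
  · right
    push Not at hfix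
    obtain ⟨g, hgP, hgne⟩ := hfix
    set z' : N := ⟨z, hzN⟩
    have hcen : ∀ a : N, (a : G) ∈ Z → a ∈ centralizer ((P : Subgroup N) : Set N) := fun a ha =>
      mem_centralizer_iff.2 fun y hy => Subtype.ext (D.central _ ((hPZ y).1 hy) _ ha).eq
    obtain ⟨n, hn, hnz⟩ := P.conj_eq_normalizer_conj_of_mem_centralizer z' g⁻¹ (hcen _ hzZ) (by
      rw [inv_inv]
      exact hcen _ (D.mem_of_conj (g := (g : G)) hzZ ((hPZ _).1 hgP)))
    rw [inv_inv] at hnz
    set m : G := ((n⁻¹ : N) : G) with hm
    have hmN : m ∈ N := (n⁻¹ : N).2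
    have hmz : m * z * m⁻¹ ∈ Z ∧ m * z * m⁻¹ ≠ z := by
      have h1 : m * z * m⁻¹ = ((n⁻¹ * z' * n : N) : G) := by simp [hm, z']
      rw [h1, ← hnz]
      exact ⟨D.mem_of_conj (g := (g : G)) hzZ ((hPZ _).1 hgP), fun h => hgne (Subtype.ext h)⟩
    -- `Z ≤ N`
    have hZN : Z ≤ N := by
      have hzz : Nat.card (zpowers z) = 2 := by
        rw [Nat.card_zpowers]; exact orderOf_eq_prime (by rw [sq]; exact D.Z_sq hzZ) hz1
      have hlt : Nat.card (zpowers z) < Nat.card ↥(Z ⊓ N) := by
        refine lt_of_le_of_ne (card_le_of_le (le_inf (zpowers_le.2 hzZ) (zpowers_le.2 hzN))) fun e => ?_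
        have heq := eq_of_le_of_card_ge (le_inf (zpowers_le.2 hzZ) (zpowers_le.2 hzN)) e.ge
        have hmem : m * z * m⁻¹ ∈ zpowers z := heq ▸ ⟨hmz.1, hNn.conj_mem z hzN m⟩
        obtain ⟨i, hi, hi'⟩ := (IsOfFinOrder.mem_powers_iff_mem_zpowers (isOfFinOrder_of_finite z)).2 hmem |>
          fun h => (IsOfFinOrder.mem_powers_iff_mem_range_orderOf (isOfFinOrder_of_finite z)).1 h |>
          Finset.mem_image.1 |> fun ⟨i, hi, e⟩ => (⟨i, Finset.mem_range.1 hi, e⟩ : ∃ i, i < orderOf z ∧ z ^ i = m * z * m⁻¹)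
        rw [show orderOf z = 2 by rw [← Nat.card_zpowers]; exact hzz] at hi
        interval_cases i
        · rw [pow_zero] at hi'
          exact hz1 (conj_eq_one_iff.1 hi'.symm)
        · rw [pow_one] at hi'
          exact hmz.2 hi'.symm
      have hdvd : Nat.card ↥(Z ⊓ N) ∣ 4 := D.card_Z ▸ card_dvd_of_le inf_le_left
      have h4 : Nat.card ↥(Z ⊓ N) = 4 := by
        have := Nat.le_of_dvd (by norm_num) hdvd
        rw [hzz] at hlt
        interval_cases Nat.card ↥(Z ⊓ N) <;> omega
      exact inf_eq_left.1 (eq_of_le_of_card_ge inf_le_left (by rw [D.card_Z, h4]))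
    by_contra hSN
    obtain ⟨x, hxS, hxN⟩ := SetLike.not_le_iff_exists.1 hSN
    set X := normalizer (Z : Set G) with hX
    have hSX : (S : Subgroup G) ≤ X := (le_normalizer).trans D.normalizer_S_le
    have hmX : m ∈ X := by
      refine D.normalizes fun a ha => ?_
      have hna : n⁻¹ * ⟨a, hZN ha⟩ * n⁻¹⁻¹ ∈ P :=
        (mem_normalizer_iff.1 (inv_mem hn) ⟨a, hZN ha⟩).1 ((hPZ _).2 (D.Z_le ha))
      exact (hPZ _).1 hna
    set K : Subgroup X := N.subgroupOf X with hK
    haveI : Fact (Nat.Prime 3) := ⟨Nat.prime_three⟩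
    obtain ⟨Q⟩ : Nonempty (Sylow 3 K) := inferInstance
    -- the action of `X` on `Z`
    let φ : X →* Equiv.Perm {a : G // a ∈ Z ∧ a ≠ 1} :=
      { toFun := fun g =>
          { toFun := fun a => ⟨g * a * (g : G)⁻¹, (mem_normalizer_iff.1 g.2 a).1 a.2.1,
              fun h => a.2.2 (conj_eq_one_iff.1 h)⟩
            invFun := fun a => ⟨(g : G)⁻¹ * a * g, by
                simpa using (mem_normalizer_iff.1 (inv_mem g.2) a).1 a.2.1,
              fun h => a.2.2 (by
                have := congrArg (fun t => (g : G) * t * (g : G)⁻¹) h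
                simpa [mul_assoc] using this)⟩
            left_inv := fun a => Subtype.ext (by simp [mul_assoc])
            right_inv := fun a => Subtype.ext (by simp [mul_assoc]) }
        map_one' := Equiv.ext fun a => Subtype.ext (by simp)
        map_mul' := fun g h => Equiv.ext fun a => Subtype.ext (by simp [mul_assoc]) }
    have hφ : ∀ g : X, φ g = 1 ↔ (g : G) ∈ centralizer (Z : Set G) := by
      intro g
      constructor
      · refine fun h => mem_centralizer_iff.2 fun a ha => ?_
        by_cases ha1 : a = 1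
        · subst ha1; simp
        · have := congrArg Subtype.val (Equiv.congr_fun h ⟨a, ha, ha1⟩)
          exact (mul_inv_eq_iff_eq_mul.1 (show (g : G) * a * (g : G)⁻¹ = a from this)).symm
      · exact fun h => Equiv.ext fun a => Subtype.ext (by
          show (g : G) * a * (g : G)⁻¹ = a
          rw [← mem_centralizer_iff.1 h _ a.2.1, mul_inv_cancel_right])
    have hcard3 : Nat.card {a : G // a ∈ Z ∧ a ≠ 1} = 3 := by
      classical
      haveI := Fintype.ofFinite G
      have h1 := D.card_Z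
      rw [Nat.card_eq_fintype_card, Fintype.card_subtype] at h1 ⊢
      rw [Finset.filter_and, ← Finset.inter_comm]
      rw [show (Finset.univ.filter fun a : G => a ≠ 1) ∩ (Finset.univ.filter fun a => a ∈ Z) =
        (Finset.univ.filter fun a => a ∈ Z).erase 1 by ext a; simp, Finset.card_erase_of_mem
          (by simp), h1]
    -- an element of the Sylow 3-subgroup moves `Z`
    obtain ⟨u, huQ, huZ⟩ : ∃ u : X, (∃ q ∈ (Q : Subgroup K), (q : X) = u) ∧
        (u : G) ∉ centralizer (Z : Set G) := by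
      by_contra hcon
      push Not at hcon
      set R := φ.comp K.subtype
      have hQker : (Q : Subgroup K) ≤ R.ker := fun q hq =>
        MonoidHom.mem_ker.2 ((hφ _).2 (hcon _ ⟨q, hq, rfl⟩))
      have hPker : ∀ s : K, ((s : X) : G) ∈ (S : Subgroup G) → s ∈ R.ker := fun s hs =>
        MonoidHom.mem_ker.2 ((hφ _).2 (D.centralizes hs))
      have h1 : R.range ≠ ⊥ := fun hb => hmz.2 (by
        have hmem : R ⟨⟨m, hmX⟩, hmN⟩ ∈ R.range := ⟨_, rfl⟩
        rw [hb, mem_bot] at hmem
        have := mem_centralizer_iff.1 ((hφ _).1 hmem) z hzZ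
        rw [← show z * m = m * z from this, mul_inv_cancel_right])
      have hdvd : Nat.card R.range ∣ 6 := by
        have := card_subgroup_dvd_card R.range
        rwa [Nat.card_perm, hcard3] at this
      rw [← index_ker] at hdvd
      have h3 : ¬ 3 ∣ R.ker.index := fun h => Q.not_dvd_index (h.trans (index_dvd_of_le hQker))
      have h2 : ¬ 2 ∣ R.ker.index := by
        obtain ⟨PK, hPK⟩ := IsPGroup.exists_le_sylow
          (P := ((S : Subgroup G).subgroupOf X).subgroupOf K) (by
            exact (S.2.comap_of_injective X.subtype X.subtype_injective).comap_of_injective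
              K.subtype K.subtype_injective)
        intro h
        refine PK.not_dvd_index (h.trans (index_dvd_of_le fun s hs => ?_))
        -- a Sylow 2-subgroup of `K` is conjugate into `S` inside `X`
        obtain ⟨T, hT⟩ := (PK.2.map K.subtype).exists_le_sylow
        obtain ⟨c, hc⟩ := MulAction.exists_smul_eq X T (S.subtype hSX)
        have hs' : ((c * (s : X) * c⁻¹ : X) : G) ∈ (S : Subgroup G) := by
          have hm' : c * (s : X) * c⁻¹ ∈ ((c • T : Sylow 2 X) : Subgroup X) :=
            ⟨_, hT ⟨s, hs, rfl⟩, rfl⟩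
          rw [hc] at hm'
          exact hm'
        have h1 : φ (c * (s : X) * c⁻¹) = 1 := (hφ _).2 (D.centralizes hs')
        rw [map_mul, map_mul, map_inv, conj_eq_one_iff] at h1
        exact MonoidHom.mem_ker.2 h1
      refine h1 (eq_bot_of_card_eq _ ?_)
      rw [← index_ker]
      have := Nat.le_of_dvd (by norm_num) hdvd
      interval_cases R.ker.index <;> omega
    -- Frattini: a 2-element outside `N` normalising the Sylow 3-subgroup
    haveI : K.Normal := hNn.comap X.subtype
    set Q' : Subgroup X := (Q : Subgroup K).map K.subtype with hQ'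
    have hfrat := Sylow.normalizer_sup_eq_top Q
    obtain ⟨a, haQ, b, hbK, hab⟩ := mem_sup_of_normal_right.1
      (show (⟨x, hSX hxS⟩ : X) ∈ normalizer (Q' : Set X) ⊔ K by rw [hfrat]; exact mem_top _)
    obtain ⟨i, r, hr, hir⟩ := Nat.exists_eq_two_pow_mul_odd (orderOf_pos a).ne'
    set y := a ^ r with hy
    have hy2 : y ^ 2 ^ i = 1 := by rw [hy, ← pow_mul, mul_comm, ← hir, pow_orderOf_eq_one]
    have hyK : (y : G) ∉ N := by
      intro hyN
      have hmk : ((a : X) : X ⧸ K) = ((⟨x, hSX hxS⟩ : X) : X ⧸ K) := by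
        rw [← hab, QuotientGroup.mk_mul, (QuotientGroup.eq_one_iff b).2 hbK, mul_one]
      have h1 : ((a : X) : X ⧸ K) ^ r = 1 := by
        rw [← QuotientGroup.mk_pow]; exact (QuotientGroup.eq_one_iff _).2 hyN
      rw [hmk] at h1
      obtain ⟨j, hj⟩ := S.2 ⟨x, hxS⟩
      have h2 : (((⟨x, hSX hxS⟩ : X) : X ⧸ K)) ^ 2 ^ j = 1 := by
        rw [← QuotientGroup.mk_pow,
          show (⟨x, hSX hxS⟩ : X) ^ 2 ^ j = 1 from Subtype.ext (congrArg Subtype.val hj :)]
        rfl
      have h3 := Bender.Consumers.eq_one_of_two_of_odd (hr.of_dvd_nat (orderOf_dvd_of_pow_eq_one h1)) h2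
      exact hxN ((QuotientGroup.eq_one_iff (⟨x, hSX hxS⟩ : X)).1 h3)
    have hyQ : y ∈ normalizer (Q' : Set X) := pow_mem haQ r
    have hy2g : IsPGroup 2 (zpowers y) := by
      obtain ⟨j, -, hj⟩ := (Nat.dvd_prime_pow Nat.prime_two).1 (orderOf_dvd_of_pow_eq_one hy2)
      exact IsPGroup.of_card (n := j) (by rw [Nat.card_zpowers, hj])
    obtain ⟨T, hT⟩ := hy2g.exists_le_sylow
    obtain ⟨c, hc⟩ := MulAction.exists_smul_eq X T (S.subtype hSX)
    have hcy : ((c * y * c⁻¹ : X) : G) ∈ (S : Subgroup G) := by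
      have hm' : c * y * c⁻¹ ∈ ((c • T : Sylow 2 X) : Subgroup X) := ⟨_, hT (mem_zpowers y), rfl⟩
      rw [hc] at hm'
      exact hm'
    have hyφ : φ y = 1 := by
      have h1 : φ (c * y * c⁻¹) = 1 := (hφ _).2 (D.centralizes hcy)
      rwa [map_mul, map_mul, map_inv, conj_eq_one_iff] at h1
    -- a fixed element in the coset
    have hQ3 : IsPGroup 3 Q' := Q.2.map _
    obtain ⟨v, hvy, hvu⟩ := Coprime.exists_commute_mem_coset (zpowers y) (Q' ⊓ φ.ker) (by
        haveI : (Group.IsNilpotent (zpowers y)) := hy2g.isNilpotent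
        refine zpowers_le.2 (mem_normalizer_iff.2 fun k => ?_)
        have hq := mem_normalizer_iff.1 hyQ k
        have hk : k ∈ φ.ker ↔ y * k * y⁻¹ ∈ φ.ker := by
          simp only [MonoidHom.mem_ker, map_mul, map_inv, hyφ]; simp
        exact and_congr hq hk)
      (by
        obtain ⟨j, hj⟩ := IsPGroup.iff_card.1 hy2g
        obtain ⟨l, hl⟩ := IsPGroup.iff_card.1 (hQ3.to_le (inf_le_left (b := φ.ker)))
        rw [hj, hl]
        exact Nat.Coprime.pow _ _ (by norm_num))
      u (fun h hh => by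
        have hhQ : h ∈ normalizer (Q' : Set X) := (zpowers_le.2 hyQ) hh
        obtain ⟨q, hq, hqu⟩ := huQ
        have huQ' : u ∈ Q' := ⟨q, hq, hqu⟩
        have hh1 : φ h = 1 := by
          obtain ⟨j, rfl⟩ := mem_zpowers_iff.1 hh
          rw [map_zpow, hyφ, one_zpow]
        refine Subgroup.mem_inf.2 ⟨mul_mem (inv_mem huQ') ((mem_normalizer_iff.1 hhQ u).1 huQ'), ?_⟩
        show u⁻¹ * (h * u * h⁻¹) ∈ φ.ker
        rw [MonoidHom.mem_ker]
        simp [hh1])
    have hvQ : v ∈ Q' := by
      obtain ⟨q, hq, hqu⟩ := huQ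
      have := mul_mem (show u ∈ Q' from ⟨q, hq, hqu⟩) hvu.1
      rwa [mul_inv_cancel_left] at this
    have hvZ : (v : G) ∉ centralizer (Z : Set G) := fun h => huZ ((hφ u).1 (by
      have h1 := MonoidHom.mem_ker.1 hvu.2
      rw [map_mul, map_inv, (hφ v).2 h, mul_one, inv_eq_one] at h1
      exact h1))
    have hvodd : Odd (orderOf v) := by
      obtain ⟨j, hj⟩ := hQ3 ⟨v, hvQ⟩
      exact (Odd.pow (by decide : Odd 3)).of_dvd_nat
        (orderOf_dvd_of_pow_eq_one (congrArg Subtype.val hj :))
    -- conjugate into `S` and take the square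
    set v' : X := c * v * c⁻¹
    set y' : X := c * y * c⁻¹
    have hcomm : Commute v' y' := (Commute.conj_iff c).2 (hvy y (mem_zpowers y)).symm
    have hy'1 : (y' : G) * y' ≠ 1 := by
      intro h
      refine hyK ?_
      have h1 : (y' : G) ∈ N := hZN ((D.invol _ hcy).1 h)
      simpa [y', mul_assoc] using hNn.conj_mem _ h1 (c : G)⁻¹
    have hv'odd : Odd (orderOf (v' : G)) := by
      rw [orderOf_coe, Invol.orderOf_conj_eq]; exact hvodd
    have hfixed := D.odd_fix v'.2 hv'odd (D.sq_mem _ hcy) hy'1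
      (congrArg Subtype.val (hcomm.mul_right hcomm).eq)
    refine hvZ ((hφ v).1 ?_)
    have h1 : φ v' = 1 := (hφ v').2 hfixed
    rwa [map_mul, map_mul, map_inv, conj_eq_one_iff] at h1

/-- If the centraliser of an involution of `Z` centralises `Z`, for each of them, the normaliser
of `Z` is strongly embedded. -/
theorem stronglyEmbedded (hC : ∀ e ∈ Z, e ≠ 1 → centralizer ({e} : Set G) ≤ centralizer (Z : Set G))
    (hne : normalizer (Z : Set G) ≠ ⊤) : Cfsg.IsStronglyEmbedded (normalizer (Z : Set G)) := by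
  obtain ⟨x, hx, hx1⟩ := D.exists_ne_one
  refine U3Type.stronglyEmbedded_of S hne D.normalizer_S_le
    ⟨x, D.Z_le hx, orderOf_eq_prime (by rw [sq]; exact D.Z_sq hx) hx1⟩ fun s hs ho => ?_
  have hsZ : s ∈ Z := (D.invol s hs).1 (by rw [← sq, ← ho, pow_orderOf_eq_one])
  exact (hC s hsZ (Invol.ne_one ho)).trans (centralizer_le_normalizer _)

theorem pairRank : Bender.PairRank G := by
  classical
  haveI := Fintype.ofFinite Z
  obtain ⟨a, b, ha, hb, hab⟩ : ∃ a b : Z, a ≠ 1 ∧ b ≠ 1 ∧ a ≠ b := by
    have h : 2 < (Finset.univ : Finset Z).card := by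
      rw [Finset.card_univ, ← Nat.card_eq_fintype_card, D.card_Z]; norm_num
    obtain ⟨p, q, r, -, -, -, hpq, hpr, hqr⟩ := Finset.two_lt_card_iff.1 h
    by_cases hp : p = 1
    · exact ⟨q, r, fun e => hpq (hp.trans e.symm), fun e => hpr (hp.trans e.symm), hqr⟩
    by_cases hq : q = 1
    · exact ⟨p, r, hp, fun e => hqr (hq.trans e.symm), hpr⟩
    exact ⟨p, q, hp, hq, hpq⟩
  have ho : ∀ e : Z, e ≠ 1 → orderOf (e : G) = 2 := fun e he =>
    orderOf_eq_prime (by rw [sq]; exact D.Z_sq e.2) fun h => he (Subtype.ext h)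
  exact ⟨a, b, ho a ha, ho b hb, fun h => hab (Subtype.ext h), D.central _ (D.Z_le a.2) _ b.2⟩

end SylowData

/-- If `C(z)` centralises `Z` then so do the centralisers of its conjugates `w` and `z w`. -/
theorem Base.centralizer_le (B : Base G)
    (hC : centralizer ({B.z} : Set G) ≤ centralizer (B.Z : Set G)) :
    ∀ e ∈ B.Z, e ≠ 1 → centralizer ({e} : Set G) ≤ centralizer (B.Z : Set G) := by
  have D := B.sylowData
  have hρ : B.ρ ∈ normalizer (B.Z : Set G) := D.normalizer_S_le B.ρ_mem
  have hstep : ∀ e, centralizer ({e} : Set G) ≤ centralizer (B.Z : Set G) →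
      centralizer ({B.ρ * e * B.ρ⁻¹} : Set G) ≤ centralizer (B.Z : Set G) := fun e he c hc => by
    have h1 : B.ρ⁻¹ * c * B.ρ ∈ centralizer (B.Z : Set G) := he (mem_centralizer_singleton_iff.2 (by
      have h := mem_centralizer_singleton_iff.1 hc
      calc B.ρ⁻¹ * c * B.ρ * e = B.ρ⁻¹ * (c * (B.ρ * e * B.ρ⁻¹)) * B.ρ := by group
        _ = B.ρ⁻¹ * (B.ρ * e * B.ρ⁻¹ * c) * B.ρ := by rw [h]
        _ = e * (B.ρ⁻¹ * c * B.ρ) := by group))
    refine mem_centralizer_iff.2 fun a ha => ?_
    have ha' : B.ρ⁻¹ * a * B.ρ ∈ B.Z := by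
      simpa using (mem_normalizer_iff.1 (inv_mem hρ) a).1 ha
    have h2 := mem_centralizer_iff.1 h1 _ ha'
    calc a * c = B.ρ * ((B.ρ⁻¹ * a * B.ρ) * (B.ρ⁻¹ * c * B.ρ)) * B.ρ⁻¹ := by group
      _ = B.ρ * ((B.ρ⁻¹ * c * B.ρ) * (B.ρ⁻¹ * a * B.ρ)) * B.ρ⁻¹ := by rw [h2]
      _ = c * a := by group
  have hw : centralizer ({B.w} : Set G) ≤ centralizer (B.Z : Set G) := B.ρ_z ▸ hstep _ hC
  have hzw : centralizer ({B.z * B.w} : Set G) ≤ centralizer (B.Z : Set G) := B.ρ_w ▸ hstep _ hw
  classical
  haveI := Fintype.ofFinite B.Z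
  intro e he he1
  have hsub : ({1, B.z, B.w, B.z * B.w} : Finset G) ⊆ (B.Z : Set G).toFinset := by
    intro a ha
    simp only [Finset.mem_insert, Finset.mem_singleton] at ha
    simp only [Set.mem_toFinset, SetLike.mem_coe]
    rcases ha with rfl | rfl | rfl | rfl
    · exact one_mem _
    · exact B.z_mem
    · exact B.w_mem
    · exact mul_mem B.z_mem B.w_mem
  have hz2 := D.Z_sq B.z_mem
  have h4 : ({1, B.z, B.w, B.z * B.w} : Finset G).card = 4 := by
    have a1 : B.z * B.w ≠ 1 := fun h => B.zw_ne (mul_left_cancel (hz2.trans h.symm))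
    have a2 : B.z * B.w ≠ B.z := fun h => B.w_ne (mul_left_cancel (h.trans (mul_one _).symm))
    have a3 : B.z * B.w ≠ B.w := fun h => B.z_ne (mul_right_cancel (h.trans (one_mul _).symm))
    rw [Finset.card_insert_of_notMem, Finset.card_insert_of_notMem, Finset.card_insert_of_notMem,
      Finset.card_singleton] <;>
      simp [B.zw_ne, B.z_ne.symm, B.w_ne.symm, a1.symm, a2.symm, a3.symm]
  have heq := Finset.eq_of_subset_of_card_le hsub (by
    rw [h4, Set.toFinset_card, ← Nat.card_eq_fintype_card]; exact B.card_Z.le)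
  have hmem : e ∈ ({1, B.z, B.w, B.z * B.w} : Finset G) := by
    rw [heq]; simpa using he
  simp only [Finset.mem_insert, Finset.mem_singleton] at hmem
  rcases hmem with rfl | rfl | rfl | rfl
  · exact absurd rfl he1
  · exact hC
  · exact hw
  · exact hzw

/-- The centraliser of `z` centralises `Z` when its core centralises `w`. -/
theorem Ctx.centralizer_le (C : Ctx G) (h : coreCent C.z ≤ centralizer ({C.w} : Set G)) :
    centralizer ({C.z} : Set G) ≤ centralizer (C.Z : Set G) := by
  classical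
  haveI := Fintype.ofFinite C.Z
  have D := C.toBase.sylowData
  -- the elements commuting with `z` and `w`
  have hzw : ∀ g : G, Commute g C.z → Commute g C.w → g ∈ centralizer (C.Z : Set G) := fun g hz hw =>
    mem_centralizer_iff.2 fun a ha => by
      have hcl : closure ({C.z, C.w} : Set G) = C.Z := by
        have hle : closure ({C.z, C.w} : Set G) ≤ C.Z := (closure_le _).2 (by
          rintro x (rfl | rfl)
          · exact C.z_mem
          · exact C.w_mem)
        refine eq_of_le_of_card_ge hle ?_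
        rw [C.card_Z]
        set H := closure ({C.z, C.w} : Set G)
        have hz : C.z ∈ H := subset_closure (Or.inl rfl)
        have hw' : C.w ∈ H := subset_closure (Or.inr rfl)
        have h2 : 2 ∣ Nat.card H := by
          have := orderOf_dvd_natCard H hz
          rwa [orderOf_eq_prime (by rw [sq]; exact D.Z_sq C.z_mem) C.z_ne] at this
        have h4 : Nat.card H ∣ 4 := C.card_Z ▸ card_dvd_of_le hle
        by_contra hlt
        have h3 := Nat.le_of_dvd (by norm_num) h4
        have hH : Nat.card H = 2 := by interval_cases Nat.card H <;> omega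
        have : zpowers C.z = H := eq_of_le_of_card_ge (zpowers_le.2 hz) (by
          rw [hH, Nat.card_zpowers, orderOf_eq_prime (by rw [sq]; exact D.Z_sq C.z_mem) C.z_ne])
        rw [← this] at hw'
        obtain ⟨k, hk⟩ := mem_zpowers_iff.1 hw'
        rcases Int.even_or_odd' k with ⟨l, rfl | rfl⟩
        · rw [zpow_mul, zpow_two, D.Z_sq C.z_mem, one_zpow] at hk
          exact C.w_ne hk.symm
        · rw [zpow_add_one, zpow_mul, zpow_two, D.Z_sq C.z_mem, one_zpow, one_mul] at hk
          exact C.zw_ne hk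
      rw [← hcl] at ha
      induction ha using closure_induction with
      | mem x hx => rcases hx with rfl | rfl; exacts [hz.eq.symm, hw.eq.symm]
      | one => simp
      | mul a b _ _ iha ihb => rw [mul_assoc, ihb, ← mul_assoc, iha, mul_assoc]
      | inv a _ iha => exact ((Commute.inv_left (iha : Commute a g))).eq
  rw [C.cent_eq, sup_le_iff, sup_le_iff]
  refine ⟨⟨fun g hg => hzw g ?_ (mem_centralizer_singleton_iff.1 (h hg)),
    fun g hg => D.centralizes hg⟩, zpowers_le.2 (hzw _ C.f_z C.f_w)⟩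
  obtain ⟨k, -, rfl⟩ := hg
  exact mem_centralizer_singleton_iff.1 k.2

/-- The conclusion from the strongly embedded subgroup. -/
theorem psu_of_centralizer (S : Sylow 2 G) {Z : Subgroup G} (D : SylowData S Z)
    (hf : U3Type.Facts ↥(S : Subgroup G) 2) (hO : Cfsg.oddCore G = ⊥)
    (hodd : ∀ N : Subgroup G, N.Normal → Odd N.index → N = ⊤)
    (hC : ∀ e ∈ Z, e ≠ 1 → centralizer ({e} : Set G) ≤ centralizer (Z : Set G))
    (hne : normalizer (Z : Set G) ≠ ⊤)
    {F : Type v} [Field F] [Fintype F] (hF : Fintype.card F = (2 ^ 2) ^ 2) :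
    Nonempty (G ≃* Cfsg.PSU 3 F (2 ^ 2)) := by
  obtain ⟨N, hN, hi, ⟨e⟩⟩ := U3Type.psu_of_se (D.stronglyEmbedded hC hne) hO D.pairRank S le_rfl hf hF
  have := hodd N hN hi
  subst this
  exact ⟨Subgroup.topEquiv.symm.trans e⟩

end CfsgLib.U34Sylow
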