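import Cfsg.Agent.U34Sylow.ThreeValues
import Cfsg.Agent.Bender.BlockSums
import Cfsg.Agent.Blocks.Congr
import Cfsg.Agent.Char.ClassProducts
import Cfsg.Agent.Char.FrobeniusSchur

/-!
# U₃(4)-type Sylow 2-subgroups: averaged columns

The average of a character over `g L` is linear, so its pairings with columns, indicators and class
products are counted in the group.  For a 2-element `y` with solvable centraliser and `L = O(C(y))` the
average over `y u L` is the value at `y u` on the principal block and zero outside.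
-/

set_option autoImplicit false
set_option linter.style.haveILetI false
set_option linter.unusedSectionVars false

namespace CfsgLib.U34Sylow

open Finset Cfsg CfsgLib.Block CfsgLib.Block.Chr CfsgLib.Char
open scoped ComplexConjugate

universe u

variable {G : Type u} [Group G] [Fintype G]

open scoped Classical in
/-- The average of `f` over `g L`. -/
noncomputable def avg (L : Subgroup G) (g : G) (f : G → ℂ) : ℂ :=
  (Nat.card L : ℂ)⁻¹ * ∑ l ∈ univ.filter (· ∈ L), f (g * l)

theorem avg_eq_of_const (L : Subgroup G) (g : G) {f : G → ℂ} (h : ∀ l ∈ L, f (g * l) = f g) :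
    avg L g f = f g := by
  classical
  rw [avg, sum_congr rfl fun l hl => h l (mem_filter.1 hl).2, sum_const, nsmul_eq_mul, ← mul_assoc]
  have : ((univ.filter (· ∈ L)).card : ℂ) = Nat.card L := by
    rw [Nat.card_eq_fintype_card, Fintype.card_subtype]
  rw [this, inv_mul_cancel₀ (Nat.cast_ne_zero.2 Nat.card_pos.ne'), one_mul]

theorem avg_mul_right (L : Subgroup G) (g : G) {a : G} (ha : a ∈ L) (f : G → ℂ) :
    avg L (g * a) f = avg L g f := by
  classical
  unfold avg
  congr 1
  refine sum_nbij' (fun l => a * l) (fun l => a⁻¹ * l) (fun l hl => ?_) (fun l hl => ?_)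
    (fun l _ => inv_mul_cancel_left a l) (fun l _ => mul_inv_cancel_left a l) fun l _ => by rw [mul_assoc]
  all_goals simp only [mem_filter, mem_univ, true_and] at hl ⊢
  · exact mul_mem ha hl
  · exact mul_mem (inv_mem ha) hl

/-- Linearity of the average. -/
theorem sum_avg_mul [Fintype (IrrCharacter G)] (L : Subgroup G) (g : G) (F : IrrCharacter G → ℂ) :
    ∑ χ : IrrCharacter G, avg L g (χ : G → ℂ) * F χ =
      avg L g fun a => ∑ χ : IrrCharacter G, (χ : G → ℂ) a * F χ := by
  classical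
  simp only [avg, mul_assoc, sum_mul]
  rw [← mul_sum, sum_comm]

/-- A centraliser order is a number of conjugating elements. -/
theorem card_conj_eq (a b : G) [DecidableEq G] [Decidable (IsConj a b)] :
    ((univ.filter fun g : G => g * b * g⁻¹ = a).card : ℂ) =
      if IsConj a b then (Nat.card (Subgroup.centralizer ({a} : Set G)) : ℂ) else 0 := by
  classical
  split_ifs with h
  · obtain ⟨c, hc⟩ := isConj_iff.1 h
    rw [Nat.card_eq_fintype_card, Fintype.card_subtype]
    congr 1
    refine card_bij (fun g _ => g * c) (fun g hg => ?_) (fun _ _ _ _ e => mul_right_cancel e) fun v hv => ?_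
    · simp only [mem_filter, mem_univ, true_and] at hg ⊢
      refine Subgroup.mem_centralizer_singleton_iff.2 (mul_inv_eq_iff_eq_mul.1 ?_)
      calc g * c * a * (g * c)⁻¹ = g * (c * a * c⁻¹) * g⁻¹ := by group
        _ = a := by rw [hc, hg]
    · simp only [mem_filter, mem_univ, true_and] at hv ⊢
      refine ⟨v * c⁻¹, ?_, inv_mul_cancel_right _ _⟩
      rw [← hc]
      calc v * c⁻¹ * (c * a * c⁻¹) * (v * c⁻¹)⁻¹ = v * a * v⁻¹ := by group
        _ = a := by rw [Subgroup.mem_centralizer_singleton_iff.1 hv, mul_inv_cancel_right]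
  · rw [Nat.cast_eq_zero, card_eq_zero, filter_eq_empty_iff]
    exact fun g _ hg => h (isConj_iff.2 ⟨g, hg⟩).symm

open scoped Classical in
/-- The pairing with a column. -/
theorem sum_avg_conj [Fintype (IrrCharacter G)] (L : Subgroup G) (a h : G) :
    ∑ χ : IrrCharacter G, avg L a (χ : G → ℂ) * conj ((χ : G → ℂ) h) =
      (Nat.card L : ℂ)⁻¹ * ((univ.filter fun g : G => a⁻¹ * (g * h * g⁻¹) ∈ L).card : ℂ) := by
  rw [sum_avg_mul, avg]
  congr 1
  simp only [column_orth, ← card_conj_eq]
  rw [card_eq_sum_card_fiberwise (t := univ.filter (· ∈ L)) (f := fun g => a⁻¹ * (g * h * g⁻¹))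
    (fun g hg => by simpa using hg), Nat.cast_sum]
  refine sum_congr rfl fun l hl => ?_
  congr 2
  ext g
  simp only [mem_filter, mem_univ, true_and, inv_mul_eq_iff_eq_mul]
  exact ⟨fun e => ⟨by rw [e, inv_mul_cancel_left]; exact (mem_filter.1 hl).2, e⟩, And.right⟩

open scoped Classical in
/-- The pairing with the Frobenius–Schur indicators. -/
theorem sum_avg_indicator [Fintype (IrrCharacter G)] (L : Subgroup G) (a : G) :
    ∑ χ : IrrCharacter G, avg L a (χ : G → ℂ) *
        ((Nat.card G : ℂ)⁻¹ * ∑ b, conj ((χ : G → ℂ) (b * b))) =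
      (Nat.card L : ℂ)⁻¹ * ((univ.filter fun b : G => a⁻¹ * (b * b) ∈ L).card : ℂ) := by
  rw [sum_avg_mul, avg]
  congr 1
  rw [card_eq_sum_card_fiberwise (t := univ.filter (· ∈ L)) (f := fun b => a⁻¹ * (b * b))
    (fun g hg => by simpa using hg), Nat.cast_sum]
  refine sum_congr rfl fun l hl => ?_
  have hG : (Nat.card G : ℂ) ≠ 0 := Nat.cast_ne_zero.2 Nat.card_pos.ne'
  simp only [mul_left_comm _ (Nat.card G : ℂ)⁻¹, mul_sum]
  rw [sum_comm]
  simp only [← mul_sum, column_orth, ← card_conj_eq]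
  rw [inv_mul_eq_iff_eq_mul₀ hG]
  have h1 : ∀ b : G, ((univ.filter fun g : G => g * (b * b) * g⁻¹ = a * l).card : ℂ) =
      ∑ g : G, if (g * b * g⁻¹) * (g * b * g⁻¹) = a * l then (1 : ℂ) else 0 := fun b => by
    rw [sum_boole]
    congr 2
    ext g
    simp only [mem_filter, mem_univ, true_and, show g * b * g⁻¹ * (g * b * g⁻¹) = g * (b * b) * g⁻¹ by group]
  simp only [h1]
  rw [sum_comm]
  have h2 : ∀ g : G, ∑ b : G, (if (g * b * g⁻¹) * (g * b * g⁻¹) = a * l then (1 : ℂ) else 0) =
      ∑ b : G, if b * b = a * l then (1 : ℂ) else 0 := fun g =>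
    Fintype.sum_equiv (MulAut.conj g).toEquiv _ _ fun b => rfl
  rw [sum_congr rfl fun g _ => h2 g, sum_const, card_univ, nsmul_eq_mul, sum_boole,
    Nat.card_eq_fintype_card]
  congr 3
  ext b
  simp only [mem_filter, mem_univ, true_and, inv_mul_eq_iff_eq_mul]
  exact ⟨fun e => ⟨by rw [e, inv_mul_cancel_left]; exact (mem_filter.1 hl).2, e⟩, And.right⟩

/-- The class product pairing vanishes where no two conjugates of `t` multiply into. -/
theorem sum_avg_square [Fintype (IrrCharacter G)] (L : Subgroup G) (a t : G)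
    (h : ∀ p q : G, IsConj t p → IsConj t q → a⁻¹ * (p * q)⁻¹ ∉ L) :
    ∑ χ : IrrCharacter G, avg L a (χ : G → ℂ) * ((χ : G → ℂ) t * (χ : G → ℂ) t / (χ : G → ℂ) 1) = 0 := by
  classical
  rw [sum_avg_mul, avg, mul_eq_zero]
  refine Or.inr (sum_eq_zero fun l hl => ?_)
  have h1 := card_class_products t t (a * l)⁻¹
  haveI : IsEmpty {p : G × G // IsConj t p.1 ∧ IsConj t p.2 ∧ p.1 * p.2 = (a * l)⁻¹} :=
    ⟨fun ⟨p, hp, hq, e⟩ => h p.1 p.2 hp hq (by
      rw [e, inv_inv, inv_mul_cancel_left]; exact (mem_filter.1 hl).2)⟩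
  haveI : Nonempty {x : G // IsConj t x} := ⟨⟨t, IsConj.refl t⟩⟩
  rw [Nat.card_of_isEmpty, Nat.cast_zero, eq_comm, mul_eq_zero, div_eq_zero_iff] at h1
  rcases h1 with (h0 | h0) | h0
  · exact absurd h0 (mul_ne_zero (Nat.cast_ne_zero.2 Nat.card_pos.ne')
      (Nat.cast_ne_zero.2 Nat.card_pos.ne'))
  · exact absurd h0 (Nat.cast_ne_zero.2 Nat.card_pos.ne')
  · rw [← h0, sum_irr_eq (fun χ => χ (a * l) * (χ t * χ t / χ 1))]
    refine sum_congr rfl fun χ hχ => ?_
    rw [IsIrrCharacter.apply_inv (mem_irrFinset.1 hχ), Complex.conj_conj]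
    ring

/-- The sum of an irreducible character over a coset of a normal subgroup. -/
theorem sum_mul_normal {H : Type u} [Group H] [Fintype H] (N : Subgroup H) [N.Normal]
    [DecidablePred (· ∈ N)] (ξ : IrrCharacter H) (m : H) :
    (∑ n ∈ univ.filter (· ∈ N), (ξ : H → ℂ) (m * n)) * (ξ : H → ℂ) 1 =
      (∑ n ∈ univ.filter (· ∈ N), (ξ : H → ℂ) n) * (ξ : H → ℂ) m := by
  classical
  have ha : IsClassFunction H fun g => if g ∈ N then (1 : ℂ) else 0 := fun g x =>
    if_congr ⟨fun h => by simpa [mul_assoc] using Subgroup.Normal.conj_mem ‹_› _ h x⁻¹,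
      fun h => Subgroup.Normal.conj_mem ‹_› _ h x⟩ rfl rfl
  have h := class_mul ξ ha (fun k => if k = m then 1 else 0)
  simp only [mul_ite, mul_one, mul_zero, ite_mul, one_mul, zero_mul, sum_ite_eq', mem_univ, if_true] at h
  rw [← sum_filter, ← sum_filter] at h
  rw [← h]
  congr 1
  exact sum_congr rfl fun n _ => classFun_mul_comm (isClassFunction_irr ξ) m n

/-- Constant on cosets of a normal subgroup in the kernel. -/
theorem apply_mul_of_ker {H : Type u} [Group H] [Fintype H] (N : Subgroup H) [N.Normal]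
    (ξ : IrrCharacter H) (hker : ∀ n ∈ N, (ξ : H → ℂ) n = (ξ : H → ℂ) 1) (m : H) {l : H} (hl : l ∈ N) :
    (ξ : H → ℂ) (m * l) = (ξ : H → ℂ) m := by
  classical
  have hs : ∀ v, (∑ n ∈ univ.filter (· ∈ N), (ξ : H → ℂ) (v * n)) =
      ((univ.filter (· ∈ N)).card : ℂ) * (ξ : H → ℂ) v := fun v => by
    have h := sum_mul_normal N ξ v
    rw [sum_congr rfl fun n hn => hker n (mem_filter.1 hn).2, sum_const, nsmul_eq_mul] at h
    exact mul_right_cancel₀ (irr_one_ne_zero ξ) (h.trans (by ring))
  refine mul_left_cancel₀ (Nat.cast_ne_zero.2 (card_pos.2 ⟨1, by simp [one_mem]⟩).ne') ((hs _).symm.trans ?_)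
  rw [← hs]
  refine sum_nbij' (fun n => l * n) (fun n => l⁻¹ * n) (fun n hn => ?_) (fun n hn => ?_)
    (fun n _ => inv_mul_cancel_left l n) (fun n _ => mul_inv_cancel_left l n) fun n _ => by rw [mul_assoc]
  all_goals simp only [mem_filter, mem_univ, true_and] at hn ⊢
  · exact mul_mem hl hn
  · exact mul_mem (inv_mem hl) hn

variable {M : Ideal AlgInt} [M.IsPrime]

/-- Principal block characters are constant on `y u L`. -/
theorem principal_apply_mul (hM : IsPModular 2 M) {y u l : G} {k : ℕ} (hy : orderOf y = 2 ^ k)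
    [Group.IsSolvable (Subgroup.centralizer ({y} : Set G))]
    (hu : u ∈ Subgroup.centralizer ({y} : Set G)) (hl : l ∈ centralizerPPrimeCore 2 y)
    (hu2 : Odd (orderOf u)) (hul : Odd (orderOf (u * l))) {χ : IrrCharacter G}
    (hχ : χ ∈ principalBlock M G) : (χ : G → ℂ) (y * (u * l)) = (χ : G → ℂ) (y * u) := by
  classical
  haveI : Fact (Nat.Prime 2) := ⟨Nat.prime_two⟩
  haveI : Fintype (Subgroup.centralizer ({y} : Set G)) := Fintype.ofFinite _
  letI := irrFintype (G := Subgroup.centralizer ({y} : Set G))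
  haveI : (pPrimeCore 2 (Subgroup.centralizer ({y} : Set G))).Normal := CfsgLib.Solvable.pPrimeCore_normal 2
  obtain ⟨l', hl', rfl⟩ := Subgroup.mem_map.1 hl
  set u' : Subgroup.centralizer ({y} : Set G) := ⟨u, hu⟩
  have ho : ∀ v : Subgroup.centralizer ({y} : Set G), Odd (orderOf (v : G)) → ¬ 2 ∣ orderOf v := fun v hv h => by
    rw [← Subgroup.orderOf_coe] at h
    exact Nat.not_even_iff_odd.2 hv (even_iff_two_dvd.2 h)
  have h1 := principal_section hM hy hχ (u' * l') (ho _ hul)
  have h2 := principal_section hM hy hχ u' (ho _ hu2)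
  refine h1.trans (Eq.trans ?_ h2.symm)
  rw [blockPart_eq_sum_inner, blockPart_eq_sum_inner]
  refine sum_congr rfl fun ξ hξ => ?_
  rw [apply_mul_of_ker _ ξ ((principalBlock_of_constrained hM selfCent_quotient_of_solvable).1 ξ |>.1
    (mem_filter.1 hξ).2) u' hl']

/-- On the principal block the average is the value. -/
theorem avg_principal (hM : IsPModular 2 M) {y u : G} {k : ℕ} (hy : orderOf y = 2 ^ k)
    [Group.IsSolvable (Subgroup.centralizer ({y} : Set G))]
    (hu : u ∈ Subgroup.centralizer ({y} : Set G)) {L : Subgroup G} (hL : centralizerPPrimeCore 2 y = L)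
    (hul : ∀ l ∈ L, Odd (orderOf (u * l))) {χ : IrrCharacter G} (hχ : χ ∈ principalBlock M G) :
    avg L (y * u) (χ : G → ℂ) = (χ : G → ℂ) (y * u) :=
  avg_eq_of_const L _ fun l hl => by
    rw [mul_assoc]
    exact principal_apply_mul hM hy hu (hL ▸ hl) (by simpa using hul 1 (one_mem L)) (hul l hl) hχ

/-- Outside the principal block the average vanishes. -/
theorem avg_eq_zero (hM : IsPModular 2 M) {y u : G} {k : ℕ} (hy : orderOf y = 2 ^ k)
    [Group.IsSolvable (Subgroup.centralizer ({y} : Set G))]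
    (hu : u ∈ Subgroup.centralizer ({y} : Set G)) {L : Subgroup G} (hL : centralizerPPrimeCore 2 y = L)
    (hul : ∀ l ∈ L, Odd (orderOf (u * l))) {χ : IrrCharacter G} (hχ : χ ∉ principalBlock M G) :
    avg L (y * u) (χ : G → ℂ) = 0 := by
  classical
  haveI : Fact (Nat.Prime 2) := ⟨Nat.prime_two⟩
  subst hL
  set H := Subgroup.centralizer ({y} : Set G)
  haveI : Fintype H := Fintype.ofFinite _
  letI := irrFintype (G := H)
  set K := pPrimeCore 2 H
  haveI : K.Normal := CfsgLib.Solvable.pPrimeCore_normal 2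
  set u' : H := ⟨u, hu⟩
  set θ : H → ℂ := fun c => (χ : G → ℂ) (y * (c : G))
  have hmem := (principalBlock_of_constrained hM (selfCent_quotient_of_solvable (G := H) (p := 2))).1
  have hsum : ∀ ξ : IrrCharacter H, ∑ n ∈ univ.filter (· ∈ K), (ξ : H → ℂ) (u' * n) =
      if ξ ∈ principalBlock M H then ((univ.filter (· ∈ K)).card : ℂ) * (ξ : H → ℂ) u' else 0 := fun ξ => by
    split_ifs with hξ
    · rw [sum_congr rfl fun n hn => apply_mul_of_ker K ξ ((hmem ξ).1 hξ) u' (mem_filter.1 hn).2,
        sum_const, nsmul_eq_mul]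
    · have h := sum_mul_normal K ξ u'
      rw [(sum_eq_zero_or_ker ξ K).resolve_right (fun h' => hξ ((hmem ξ).2 h')), zero_mul, mul_eq_zero] at h
      exact h.resolve_right (irr_one_ne_zero ξ)
  have h0 : ∑ n ∈ univ.filter (· ∈ K), θ (u' * n) = 0 := by
    rw [sum_congr rfl fun n _ => classFun_expand (isClassFunction_shift χ y) (u' * n), sum_comm]
    rw [sum_congr rfl fun ξ _ => by rw [← mul_sum, hsum ξ]]
    simp only [mul_ite, mul_zero]
    rw [← sum_filter]
    simp only [mul_left_comm (classInner _ _)]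
    have hu2 : ¬ 2 ∣ orderOf u' := fun h => by
      rw [← Subgroup.orderOf_coe] at h
      exact Nat.not_even_iff_odd.2 (show Odd (orderOf u) by simpa using hul 1 (one_mem _)) (even_iff_two_dvd.2 h)
    have hb0 := isPBlock_principalBlock (M := M) (G := H)
    rw [← mul_sum, ← blockPart_eq_sum_inner, blockPart_eq_zero_of_not_induced hM hy (isPBlock_blockOf χ)
      (mem_blockOf_self χ) hb0 (fun hind => hχ (by
        rw [induced_unique ((third_main hM (centralizer_induced hM hy hb0)).2 rfl) hind]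
        exact mem_blockOf_self χ)) u' hu2, mul_zero]
  rw [avg, mul_eq_zero]
  refine Or.inr (Eq.trans (sum_nbij (fun w : H => (w : G)) ?_ ?_ ?_ ?_).symm h0)
  · intro w hw
    exact mem_filter.2 ⟨mem_univ _, Subgroup.mem_map.2 ⟨w, (mem_filter.1 hw).2, rfl⟩⟩
  · exact fun a _ b _ h => Subtype.ext h
  · intro v hv
    obtain ⟨w, hw, rfl⟩ := Subgroup.mem_map.1 (mem_filter.1 hv).2
    exact ⟨w, mem_filter.2 ⟨mem_univ _, hw⟩, rfl⟩
  · intro w _
    simp only [θ, u', Subgroup.coe_mul, mul_assoc]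

namespace Base

variable (B : Base G)

/-- The centraliser of `z`. -/
abbrev C : Subgroup G := Subgroup.centralizer ({B.z} : Set G)

theorem orderOf_z : orderOf B.z = 2 :=
  orderOf_eq_prime (by rw [pow_two]; exact B.z_sq) B.z_ne

theorem S_le_C : (B.S : Subgroup G) ≤ B.C := fun x hx =>
  Subgroup.mem_centralizer_singleton_iff.2 (B.central x hx B.z B.z_mem).eq

theorem coreCent_le : coreCent B.z ≤ B.C := Subgroup.map_subtype_le _

theorem odd_coreCent : Odd (Nat.card (coreCent B.z)) := by
  unfold coreCent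
  rw [Subgroup.card_subtype]
  exact Nat.coprime_two_right.1 (CfsgLib.Solvable.coprime_card_pPrimeCore (G := B.C) 2)

theorem conj_mem_coreCent {c l : G} (hc : c ∈ B.C) (hl : l ∈ coreCent B.z) :
    c * l * c⁻¹ ∈ coreCent B.z := by
  obtain ⟨v, hv, rfl⟩ := hl
  haveI : (Cfsg.oddCore B.C).Normal := CfsgLib.Solvable.pPrimeCore_normal 2
  exact ⟨⟨c, hc⟩ * v * ⟨c, hc⟩⁻¹, Subgroup.Normal.conj_mem inferInstance v hv _, rfl⟩

end Base

end CfsgLib.U34Sylow
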