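import Mathlib
import Cfsg.Prelude

/-!
# Groups with a Sylow 2-subgroup of type U₃(4): the setting

`Base` fixes a Sylow 2-subgroup `S` with centre `Z = ⟨z, w⟩` holding every involution, and an element `ρ`
of `N(S)` that moves `z ↦ w ↦ z w`.  `Ctx` adds an element `f` of order five acting on `S / Z` without
fixed points with `C(z) = O(C(z)) S ⟨f⟩`; `CtxThree` is the case `C(z) = O(C(z)) S`.
-/

set_option autoImplicit false

universe u

namespace CfsgLib.U34Sylow

open Subgroup

/-- The odd core of the centraliser of `x`, as a subgroup of `G`. -/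
noncomputable def coreCent {G : Type u} [Group G] [Finite G] (x : G) : Subgroup G :=
  (Cfsg.oddCore ↥(centralizer ({x} : Set G))).map (centralizer ({x} : Set G)).subtype

/-- A Sylow 2-subgroup of type U₃(4) with its three involutions fused. -/
structure Base (G : Type u) [Group G] [Finite G] where
  S : Sylow 2 G
  Z : Subgroup G
  z : G
  w : G
  ρ : G
  Z_le : Z ≤ (S : Subgroup G)
  card_S : Nat.card (S : Subgroup G) = 64
  card_Z : Nat.card Z = 4
  z_mem : z ∈ Z
  w_mem : w ∈ Z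
  z_ne : z ≠ 1
  w_ne : w ≠ 1
  zw_ne : z ≠ w
  invol : ∀ x ∈ (S : Subgroup G), (x * x = 1 ↔ x ∈ Z)
  sq_mem : ∀ x ∈ (S : Subgroup G), x * x ∈ Z
  central : ∀ x ∈ (S : Subgroup G), ∀ y ∈ Z, Commute x y
  full : ∀ x ∈ (S : Subgroup G), x ∉ Z → ∀ y ∈ Z, ∃ v ∈ (S : Subgroup G), v * x * v⁻¹ * x⁻¹ = y
  ρ_mem : ρ ∈ normalizer ((S : Subgroup G) : Set G)
  ρ_z : ρ * z * ρ⁻¹ = w
  ρ_w : ρ * w * ρ⁻¹ = z * w

/-- The case in which `C(z)` induces an automorphism of order five on `S`. -/
structure Ctx (G : Type u) [Group G] [Finite G] extends Base G where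
  f : G
  f_five : f ^ 5 ∈ coreCent z
  f_five_S : ∀ x ∈ (S : Subgroup G), Commute (f ^ 5) x
  f_odd : Odd (orderOf f)
  f_ne : f ≠ 1
  f_mem : f ∈ normalizer ((S : Subgroup G) : Set G)
  f_z : Commute f z
  f_w : Commute f w
  f_fpf : ∀ x ∈ (S : Subgroup G), f * x * f⁻¹ * x⁻¹ ∈ Z → x ∈ Z
  ρ_f : Commute ρ f
  cent_eq : centralizer ({z} : Set G) = coreCent z ⊔ (S : Subgroup G) ⊔ zpowers f

/-- The case in which `C(z)` is 2-nilpotent. -/
structure CtxThree (G : Type u) [Group G] [Finite G] extends Base G where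
  cent_eq : centralizer ({z} : Set G) = coreCent z ⊔ (S : Subgroup G)

end CfsgLib.U34Sylow
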