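import Mathlib.Algebra.Order.BigOperators.Ring.Finset
import Mathlib.Algebra.BigOperators.Fin
import Mathlib.Algebra.Order.Field.Basic
import Mathlib.Data.Rat.Cast.Order
import Mathlib.Tactic

/-!
# U₃(4)-type Sylow 2-subgroups, the 2-nilpotent centralizer: the arithmetic

The rows are the nonprincipal characters of the principal 2-block; the columns are the degree, the
value at an involution and the values on five classes of elements of order four.  The orthogonality
relations, the congruences and the relation with the degrees in the denominators are inconsistent.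
-/

set_option autoImplicit false

namespace CfsgLib.U34Sylow

open Finset

/-- The numerical content of the principal block when `C(z)` is 2-nilpotent. -/
structure ThreeRows (ι : Type*) [Fintype ι] where
  d : ι → ℤ
  z : ι → ℤ
  c : Fin 5 → ι → ℤ
  d_mod : ∀ i, (16 : ℤ) ∣ d i - z i
  c_mod : ∀ k i, (4 : ℤ) ∣ c k i - z i
  lt_d : ∀ i, |z i| < d i
  low : ∀ i, 0 ≤ d i + 3 * z i
  norm_z : ∑ i, z i * z i = 63
  norm_c : ∀ k, ∑ i, c k i * c k i = 15
  inner_c : ∀ k l, k ≠ l → ∑ i, c k i * c l i = -1
  inner_zc : ∀ k, ∑ i, z i * c k i = -1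
  ratio : ∀ k, ∑ i, (z i : ℚ) ^ 2 * (c k i) / (d i) = -1

namespace ThreeRows

variable {ι : Type*} [Fintype ι] (D : ThreeRows ι)

/-- The sign congruent to an odd entry modulo four. -/
def sgn (i : ι) : ℤ := if D.z i % 4 = 1 then 1 else -1

theorem sgn_cases (i : ι) : D.sgn i = 1 ∨ D.sgn i = -1 := by
  unfold sgn; split_ifs <;> simp

theorem sgn_mul_self (i : ι) : D.sgn i * D.sgn i = 1 := by
  rcases D.sgn_cases i with h | h <;> rw [h] <;> norm_num

/-- The rows with an entry twice odd. -/
def tRows : Finset ι := univ.filter fun i => D.z i % 4 = 2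

/-- The rows with an odd entry. -/
def oRows : Finset ι := univ.filter fun i => D.z i % 2 = 1

theorem mem_tRows {i : ι} : i ∈ D.tRows ↔ D.z i % 4 = 2 := by simp [tRows]

theorem mem_oRows {i : ι} : i ∈ D.oRows ↔ D.z i % 2 = 1 := by simp [oRows]

theorem c_range (k : Fin 5) (i : ι) : -3 ≤ D.c k i ∧ D.c k i ≤ 3 := by
  have h := single_le_sum (f := fun i => D.c k i * D.c k i)
    (fun j _ => mul_self_nonneg _) (mem_univ i)
  rw [D.norm_c k] at h
  constructor <;> nlinarith [h]

theorem c_zero (k : Fin 5) (i : ι) (h : D.z i % 4 = 0) : D.c k i = 0 := by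
  have := D.c_range k i; have := D.c_mod k i; omega

theorem c_two (k : Fin 5) {i : ι} (h : i ∈ D.tRows) : D.c k i = 2 ∨ D.c k i = -2 := by
  have := D.mem_tRows.1 h; have := D.c_range k i; have := D.c_mod k i; omega

theorem c_odd (k : Fin 5) {i : ι} (h : i ∈ D.oRows) :
    D.c k i = D.sgn i ∨ D.c k i = -3 * D.sgn i := by
  have := D.mem_oRows.1 h; have := D.c_range k i; have := D.c_mod k i
  unfold sgn; split_ifs <;> omega

theorem sum_split {A : Type*} [AddCommMonoid A] (f : ι → A)
    (hf : ∀ i, D.z i % 4 = 0 → f i = 0) :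
    ∑ i, f i = ∑ i ∈ D.tRows, f i + ∑ i ∈ D.oRows, f i := by
  classical
  have hd : Disjoint D.tRows D.oRows := disjoint_left.2 fun i hi hi' => by
    have := D.mem_tRows.1 hi; have := D.mem_oRows.1 hi'; omega
  rw [← sum_union hd]
  refine (sum_subset (subset_univ _) fun i _ hi => hf i ?_).symm
  rw [mem_union, mem_tRows, mem_oRows] at hi
  push Not at hi
  omega

/-- The rows in which the column `k` has absolute value three. -/
def three (k : Fin 5) : Finset ι := D.oRows.filter fun i => D.c k i = -3 * D.sgn i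

theorem norm_count (k : Fin 5) :
    4 * #D.tRows + #D.oRows + 8 * #(D.three k) = 15 := by
  classical
  have h := D.norm_c k
  rw [D.sum_split _ fun i hi => by rw [D.c_zero k i hi, mul_zero],
    sum_congr rfl fun i hi => (by rcases D.c_two k hi with e | e <;> rw [e] <;> norm_num :
      D.c k i * D.c k i = 4),
    sum_congr rfl fun i hi => (by
      have hs := D.sgn_mul_self i
      rcases D.c_odd k hi with e | e
      · rw [if_neg]
        · rw [e]; simpa using hs
        · rcases D.sgn_cases i with h' | h' <;> rw [e, h'] <;> norm_num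
      · rw [if_pos e, e]; linear_combination 9 * hs :
      D.c k i * D.c k i = 1 + if D.c k i = -3 * D.sgn i then 8 else 0)] at h
  rw [sum_add_distrib, ← sum_filter, sum_const, sum_const, sum_const] at h
  simp only [nsmul_eq_mul, mul_one] at h
  have : (4 * #D.tRows + #D.oRows + 8 * #(D.three k) : ℤ) = 15 := by
    rw [three]; linarith
  exact_mod_cast this

theorem t_prod {k l : Fin 5} {i : ι} (hi : i ∈ D.tRows) :
    D.c k i * D.c l i = 4 ∨ D.c k i * D.c l i = -4 := by
  rcases D.c_two k hi with h | h <;> rcases D.c_two l hi with h' | h' <;> simp [h, h']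

theorem o_prod (k l : Fin 5) {i : ι} (hi : i ∈ D.oRows) :
    D.c k i * D.c l i =
      (if D.c k i = -3 * D.sgn i then -3 else 1) * (if D.c l i = -3 * D.sgn i then -3 else 1) := by
  rcases D.c_odd k hi with h | h <;> rcases D.c_odd l hi with h' | h' <;>
    rcases D.sgn_cases i with hs | hs <;> simp [h, h', hs]

theorem inner_split {k l : Fin 5} (hkl : k ≠ l) :
    ∑ i ∈ D.tRows, D.c k i * D.c l i + ∑ i ∈ D.oRows, D.c k i * D.c l i = -1 := by
  rw [← D.sum_split _ fun i hi => by rw [D.c_zero k i hi, zero_mul]]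
  exact D.inner_c k l hkl

theorem t_low (k l : Fin 5) : -4 * (#D.tRows : ℤ) ≤ ∑ i ∈ D.tRows, D.c k i * D.c l i := by
  have h := sum_le_sum (s := D.tRows) (f := fun _ => (-4 : ℤ)) (g := fun i => D.c k i * D.c l i)
    fun i hi => by rcases D.t_prod (k := k) (l := l) hi with h | h <;> omega
  rw [sum_const, nsmul_eq_mul] at h
  linarith

theorem o_mod : (4 : ℤ) ∣ (#D.oRows : ℤ) + 1 := by
  have h := D.inner_split (k := 0) (l := 1) (by decide)
  have h1 : (4 : ℤ) ∣ ∑ i ∈ D.tRows, D.c 0 i * D.c 1 i := dvd_sum fun i hi => by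
    rcases D.t_prod (k := 0) (l := 1) hi with e | e <;> rw [e] <;> norm_num
  have h2 : (4 : ℤ) ∣ ∑ i ∈ D.oRows, (D.c 0 i * D.c 1 i - 1) := dvd_sum fun i hi => by
    rw [D.o_prod 0 1 hi]; split_ifs <;> norm_num
  rw [sum_sub_distrib, sum_const, nsmul_eq_mul, mul_one] at h2
  omega

/-- Some column has an entry of absolute value three. -/
theorem three_pos (k : Fin 5) : #(D.three k) = 1 := by
  classical
  have hk := D.norm_count k
  have hm := D.o_mod
  by_contra hne
  have h0 : ∀ l, D.three l = ∅ := fun l => card_eq_zero.1 (by have := D.norm_count l; omega)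
  have hone : ∀ l i, i ∈ D.oRows → D.c l i = D.sgn i := fun l i hi =>
    (D.c_odd l hi).resolve_right fun e => by
      have : i ∈ D.three l := mem_filter.2 ⟨hi, e⟩
      simp [h0 l] at this
  have hT : ∀ a b : Fin 5, a ≠ b →
      ∑ i ∈ D.tRows, D.c a i * D.c b i = -1 - (#D.oRows : ℤ) := by
    intro a b hab
    have h := D.inner_split hab
    rw [sum_congr (rfl : D.oRows = D.oRows) fun i hi => (by
        rw [hone a i hi, hone b i hi, sgn_mul_self] : D.c a i * D.c b i = 1), sum_const, nsmul_eq_mul, mul_one] at h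
    linarith
  have hb := D.t_low 0 1
  rw [hT 0 1 (by decide)] at hb
  have h15 := D.norm_count 0
  rw [h0 0, card_empty] at h15
  rcases (by omega : #D.tRows = 2 ∨ #D.tRows = 3) with ht | ht
  · have hopp : ∀ a b : Fin 5, a ≠ b → ∀ i ∈ D.tRows, D.c a i * D.c b i = -4 := by
      intro a b hab i hi
      have hs : ∑ j ∈ D.tRows, (D.c a j * D.c b j + 4) = 0 := by
        rw [sum_add_distrib, hT a b hab, sum_const, nsmul_eq_mul, ht]
        push_cast
        omega
      have := (sum_eq_zero_iff_of_nonneg fun j hj => by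
        rcases D.t_prod (k := a) (l := b) hj with e | e <;> omega).1 hs i hi
      omega
    obtain ⟨i, hi⟩ := card_pos.1 (by omega : 0 < #D.tRows)
    have h01 := hopp 0 1 (by decide) i hi
    have h02 := hopp 0 2 (by decide) i hi
    have h12 := hopp 1 2 (by decide) i hi
    rcases D.c_two 1 hi with e | e <;> rw [e] at h01 h12 <;>
      rw [show D.c 2 i = D.c 0 i by omega] at h02 <;> nlinarith [h02]
  · have hsq : 0 ≤ ∑ i ∈ D.tRows, (∑ a, D.c a i) * (∑ b, D.c b i) :=
      sum_nonneg fun i _ => mul_self_nonneg _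
    have hpair : ∀ a b : Fin 5,
        ∑ i ∈ D.tRows, D.c a i * D.c b i = if a = b then (12 : ℤ) else -4 := by
      intro a b
      split_ifs with hab
      · subst hab
        rw [sum_congr rfl fun i hi => (by rcases D.c_two a hi with e | e <;> rw [e] <;> norm_num :
          D.c a i * D.c a i = 4), sum_const, nsmul_eq_mul, ht]
        norm_num
      · rw [hT a b hab]; omega
    simp only [sum_mul_sum] at hsq
    rw [sum_comm] at hsq
    rw [sum_congr rfl fun a _ => sum_comm] at hsq
    simp [hpair, Fin.sum_univ_five] at hsq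

/-- The row in which the column `k` has absolute value three. -/
noncomputable def spec (k : Fin 5) : ι := (card_eq_one.1 (D.three_pos k)).choose

theorem three_eq (k : Fin 5) : D.three k = {D.spec k} :=
  (card_eq_one.1 (D.three_pos k)).choose_spec

theorem spec_mem (k : Fin 5) : D.spec k ∈ D.oRows :=
  (mem_filter.1 (show D.spec k ∈ D.three k by simp [three_eq])).1

theorem c_eq [DecidableEq ι] (k : Fin 5) {i : ι} (hi : i ∈ D.oRows) :
    D.c k i = D.sgn i * if i = D.spec k then -3 else 1 := by
  have h : D.c k i = -3 * D.sgn i ↔ i = D.spec k := by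
    have h' := Finset.ext_iff.1 (D.three_eq k) i
    rw [three, mem_filter, and_iff_right hi, mem_singleton] at h'
    exact h'
  split_ifs with e
  · rw [h.2 e]; ring
  · rw [mul_one]; exact (D.c_odd k hi).resolve_right fun e' => e (h.1 e')

theorem spec_injective : Function.Injective D.spec := by
  classical
  intro k l hkl
  by_contra hne
  have h := D.inner_split hne
  have hb := D.t_low k l
  have hk := D.norm_count k
  rw [D.three_pos k] at hk
  rw [sum_congr (rfl : D.oRows = D.oRows) fun i hi => (by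
      rw [D.c_eq k hi, D.c_eq l hi, hkl]
      have hs := D.sgn_mul_self i
      split_ifs
      · linear_combination 9 * hs
      · linear_combination hs :
      D.c k i * D.c l i = 1 + if i = D.spec l then 8 else 0),
    sum_add_distrib, sum_const, nsmul_eq_mul, mul_one, sum_ite_eq', if_pos (D.spec_mem l)] at h
  have := D.o_mod
  omega

/-- The rows with an odd entry are the five special ones and two more. -/
theorem exists_rest [DecidableEq ι] : #D.tRows = 0 ∧ ∃ q q' : ι, q ∈ D.oRows ∧ q' ∈ D.oRows ∧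
    ∀ (A : Type) [AddCommMonoid A] (f : ι → A),
      ∑ i ∈ D.oRows, f i = ∑ k, f (D.spec k) + (f q + f q') := by
  have hsub : univ.image D.spec ⊆ D.oRows := fun i hi => by
    obtain ⟨k, -, rfl⟩ := mem_image.1 hi
    exact D.spec_mem k
  have h5 : #(univ.image D.spec) = 5 := by
    rw [card_image_of_injective _ D.spec_injective, card_univ, Fintype.card_fin]
  have hk := D.norm_count 0
  rw [D.three_pos 0] at hk
  have hge := card_le_card hsub
  rw [h5] at hge
  have hm := D.o_mod
  have h2 : #(D.oRows \ univ.image D.spec) = 2 := by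
    rw [card_sdiff_of_subset hsub, h5]; omega
  obtain ⟨q, q', hne, hq⟩ := card_eq_two.1 h2
  refine ⟨by omega, q, q', (mem_sdiff.1 (hq ▸ mem_insert_self q {q'})).1,
    (mem_sdiff.1 (hq ▸ mem_insert_of_mem (mem_singleton_self q'))).1, fun A _ f => ?_⟩
  rw [← sum_sdiff hsub, hq, sum_pair hne, sum_image fun a _ b _ h => D.spec_injective h, add_comm]

/-- The value at the involution, normalised to be congruent to one modulo four. -/
def wgt (i : ι) : ℤ := D.sgn i * D.z i

theorem wgt_mod {i : ι} (hi : i ∈ D.oRows) : (4 : ℤ) ∣ D.wgt i - 1 := by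
  have := D.mem_oRows.1 hi
  unfold wgt sgn
  split_ifs <;> omega

/-- The signed reciprocal of the degree. -/
noncomputable def rcp (i : ι) : ℚ := (D.sgn i : ℚ) / (D.d i : ℚ)

theorem d_pos (i : ι) : 0 < D.d i := lt_of_le_of_lt (abs_nonneg _) (D.lt_d i)

theorem rcp_one {i : ι} (hw : D.wgt i = 1) : -(1 / 15 : ℚ) ≤ D.rcp i := by
  unfold rcp
  have hd := D.d_pos i
  have hl := D.lt_d i
  have hm := D.d_mod i
  rcases D.sgn_cases i with hs | hs <;> unfold wgt at hw <;> rw [hs] at hw ⊢
  · exact le_trans (by norm_num) (div_nonneg (by norm_num) (by exact_mod_cast hd.le))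
  · have hz : D.z i = -1 := by linarith
    rw [hz] at hl hm
    norm_num at hl
    have h15 : (15 : ℚ) ≤ D.d i := by exact_mod_cast (by omega : (15 : ℤ) ≤ D.d i)
    push_cast
    rw [le_div_iff₀ (by linarith)]
    linarith

theorem rcp_three {i : ι} (hw : D.wgt i = -3) : -(1 / 19 : ℚ) ≤ D.rcp i := by
  unfold rcp
  have hd := D.d_pos i
  have hl := D.lt_d i
  have hm := D.d_mod i
  rcases D.sgn_cases i with hs | hs <;> unfold wgt at hw <;> rw [hs] at hw ⊢
  · exact le_trans (by norm_num) (div_nonneg (by norm_num) (by exact_mod_cast hd.le))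
  · have hz : D.z i = 3 := by linarith
    rw [hz] at hl hm
    norm_num at hl
    have h19 : (19 : ℚ) ≤ D.d i := by exact_mod_cast (by omega : (19 : ℤ) ≤ D.d i)
    push_cast
    rw [le_div_iff₀ (by linarith)]
    linarith

/-- The data are inconsistent. -/
theorem false (D : ThreeRows ι) : False := by
  classical
  obtain ⟨hT, q, q', hq, hq', hsum⟩ := D.exists_rest
  have hT' : D.tRows = ∅ := card_eq_zero.1 hT
  -- the relation with the involution column
  have hw : ∀ k, (∑ i ∈ D.oRows, D.wgt i) - 4 * D.wgt (D.spec k) = -1 := by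
    intro k
    rw [← D.inner_zc k, D.sum_split _ fun i hi => by rw [D.c_zero k i hi, mul_zero], hT', sum_empty,
      zero_add, sum_congr rfl fun i hi => (by
        rw [D.c_eq k hi]; unfold wgt; split_ifs <;> ring :
        D.z i * D.c k i = D.wgt i - 4 * if i = D.spec k then D.wgt i else 0),
      sum_sub_distrib, ← mul_sum, sum_ite_eq', if_pos (D.spec_mem k)]
  set p := D.wgt (D.spec 0) with hp
  have hpk : ∀ k, D.wgt (D.spec k) = p := fun k => by have := hw k; have := hw 0; omega
  have hlin : p + (D.wgt q + D.wgt q') = -1 := by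
    have h := hw 0
    rw [hsum ℤ D.wgt, sum_congr rfl fun k _ => hpk k, sum_const, card_univ, Fintype.card_fin,
      nsmul_eq_mul] at h
    push_cast at h
    linarith
  have hsq : 5 * p ^ 2 + (D.wgt q ^ 2 + D.wgt q' ^ 2) ≤ 63 := by
    rw [← D.norm_z]
    refine le_trans (le_of_eq ?_) (sum_le_univ_sum_of_nonneg (s := D.oRows)
      fun i => mul_self_nonneg _)
    rw [sum_congr rfl fun i _ => (by
      unfold wgt; rw [mul_pow, sq (D.sgn i), sgn_mul_self, one_mul, sq] :
      D.z i * D.z i = D.wgt i ^ 2), hsum ℤ (fun i => D.wgt i ^ 2),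
      sum_congr rfl fun k _ => (by rw [hpk k] : D.wgt (D.spec k) ^ 2 = p ^ 2)]
    simp
  -- the relation with the degrees
  have hr : ∀ k, (∑ i ∈ D.oRows, (D.wgt i : ℚ) ^ 2 * D.rcp i) -
      4 * ((p : ℚ) ^ 2 * D.rcp (D.spec k)) = -1 := by
    intro k
    rw [← D.ratio k, D.sum_split _ fun i hi => by rw [D.c_zero k i hi]; simp, hT', sum_empty,
      zero_add, sum_congr rfl fun i hi => (by
        rw [D.c_eq k hi]; unfold wgt rcp
        rcases D.sgn_cases i with hs | hs <;> rw [hs] <;> split_ifs <;> push_cast <;> ring :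
        (D.z i : ℚ) ^ 2 * (D.c k i) / (D.d i) =
          (D.wgt i : ℚ) ^ 2 * D.rcp i - 4 * if i = D.spec k then (D.wgt i : ℚ) ^ 2 * D.rcp i else 0),
      sum_sub_distrib, ← mul_sum, sum_ite_eq', if_pos (D.spec_mem k), hpk k]
  have hpm := hpk 0 ▸ D.wgt_mod (D.spec_mem 0)
  have hp0 : (p : ℚ) ^ 2 ≠ 0 := pow_ne_zero _ (Int.cast_ne_zero.2 fun h => by omega)
  set x := D.rcp (D.spec 0) with hx
  have hxk : ∀ k, D.rcp (D.spec k) = x := fun k => by
    have := hr k; have := hr 0
    exact mul_left_cancel₀ hp0 (by linarith)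
  have hfin : (p : ℚ) ^ 2 * x +
      ((D.wgt q : ℚ) ^ 2 * D.rcp q + (D.wgt q' : ℚ) ^ 2 * D.rcp q') = -1 := by
    have h := hr 0
    rw [hsum ℚ (fun i => (D.wgt i : ℚ) ^ 2 * D.rcp i),
      sum_congr rfl fun k _ => (by rw [hpk k, hxk k] :
        (D.wgt (D.spec k) : ℚ) ^ 2 * D.rcp (D.spec k) = (p : ℚ) ^ 2 * x),
      sum_const, card_univ, Fintype.card_fin, nsmul_eq_mul] at h
    push_cast at h
    linarith
  have h1 := D.wgt_mod hq
  have h2 := D.wgt_mod hq'
  have hb : -3 ≤ p ∧ p ≤ 3 := by constructor <;> nlinarith [sq_nonneg (D.wgt q), sq_nonneg (D.wgt q')]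
  have hqb : -7 ≤ D.wgt q ∧ D.wgt q ≤ 7 := by constructor <;> nlinarith [sq_nonneg p, sq_nonneg (D.wgt q')]
  rcases (by omega : p = -3 ∨ p = 1) with e | e
  · obtain ⟨ea, eb⟩ : D.wgt q = 1 ∧ D.wgt q' = 1 := by
      rw [e] at hlin hsq
      rcases (by omega : D.wgt q = -7 ∨ D.wgt q = -3 ∨ D.wgt q = 1 ∨ D.wgt q = 5) with f | f | f | f
      · rw [f, show D.wgt q' = 9 by omega] at hsq; norm_num at hsq
      · rw [f, show D.wgt q' = 5 by omega] at hsq; norm_num at hsq
      · omega
      · rw [f, show D.wgt q' = -3 by omega] at hsq; norm_num at hsq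
    rw [e, ea, eb] at hfin
    have := D.rcp_three (i := D.spec 0) (by rw [hpk, e])
    have := D.rcp_one ea; have := D.rcp_one eb
    push_cast at hfin
    linarith
  · rw [e] at hlin hsq hfin
    have hx1 := D.rcp_one (i := D.spec 0) (by rw [hpk, e])
    rcases (by omega : D.wgt q = -7 ∨ D.wgt q = -3 ∨ D.wgt q = 1 ∨ D.wgt q = 5) with f | f | f | f
    · rw [f, show D.wgt q' = 5 by omega] at hsq; norm_num at hsq
    · have ha : D.wgt q' = 1 := by omega
      rw [f, ha] at hfin
      have := D.rcp_three f; have := D.rcp_one ha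
      push_cast at hfin
      linarith
    · have ha : D.wgt q' = -3 := by omega
      rw [f, ha] at hfin
      have := D.rcp_one f; have := D.rcp_three ha
      push_cast at hfin
      linarith
    · rw [f, show D.wgt q' = -7 by omega] at hsq; norm_num at hsq

end ThreeRows

end CfsgLib.U34Sylow
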